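import Cfsg.Agent.Lib.Solv.Mod
import Cfsg.Agent.Lib.Solv.Frob
import Mathlib.LinearAlgebra.Matrix.Trace
import Mathlib.LinearAlgebra.Matrix.NonsingularInverse
import Mathlib.LinearAlgebra.Matrix.ToLin
import Mathlib.NumberTheory.Basic
import Mathlib.Data.ZMod.Units

/-!
Wielandt's fixed point formula.
-/

set_option autoImplicit false

namespace Cfsg.Agent.FT

open Subgroup Finset
open scoped Pointwise

universe u

theorem exists_hom_lift {G S T : Type*} [Group G] [Group S] [Group T] [Finite G] [Finite S]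
    (π : S →* T) (ρ : G →* T) (hs : ∀ g, ρ g ∈ π.range)
    (hc : (Nat.card π.ker).Coprime (Nat.card G)) : ∃ ρ' : G →* S, ∀ g, π (ρ' g) = ρ g := by
  let X := (ρ.comp (MonoidHom.fst G S)).eqLocus (π.comp (MonoidHom.snd G S))
  let f : X →* G := (MonoidHom.fst G S).comp X.subtype
  have fs : Function.Surjective f := fun g => by
    obtain ⟨s, e⟩ := hs g
    exact ⟨⟨(g, s), e.symm⟩, rfl⟩
  have fi : f.ker.index = Nat.card G := by
    rw [index_ker, MonoidHom.range_eq_top.2 fs, card_top]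
  obtain ⟨C, hC⟩ := exists_right_complement'_of_coprime (N := f.ker) (by
    rw [fi]
    refine hc.coprime_dvd_left (card_dvd_of_injective (((MonoidHom.snd G S).comp
      (X.subtype.comp f.ker.subtype)).codRestrict π.ker fun x => ?_) fun x y e => ?_)
    · have a : ρ x.1.1.1 = π x.1.1.2 := x.1.2
      have b : x.1.1.1 = 1 := x.2
      rw [b, map_one] at a
      exact a.symm
    · exact Subtype.ext (Subtype.ext (Prod.ext (Eq.trans x.2 (Eq.symm y.2))
        (congrArg Subtype.val e))))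
  have fb : Function.Bijective (f.comp C.subtype) := by
    refine (Nat.bijective_iff_injective_and_card _).2 ⟨(injective_iff_map_eq_one _).2 fun x e =>
      Subtype.ext (mem_bot.1 (hC.disjoint.le_bot (mem_inf.2 ⟨e, x.2⟩))), ?_⟩
    rw [← fi, hC.symm.index_eq_card]
  refine ⟨((MonoidHom.snd G S).comp (X.subtype.comp C.subtype)).comp
    (MulEquiv.ofBijective _ fb).symm.toMonoidHom, fun g => ?_⟩
  obtain ⟨x, rfl⟩ := fb.2 g
  have : (MulEquiv.ofBijective _ fb).symm (f.comp C.subtype x) = x :=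
    (MulEquiv.ofBijective _ fb).symm_apply_apply x
  rw [MonoidHom.comp_apply, MulEquiv.coe_toMonoidHom, this]
  exact x.1.2.symm

section
variable {r : ℕ} [hr : Fact r.Prime] (m : ℕ)

/-- Reduction modulo `r`. -/
abbrev red : ZMod (r ^ (m + 1)) →+* ZMod r := ZMod.castHom (dvd_pow_self r m.succ_ne_zero) _

variable {m} {n n' : Type*}

theorem exists_smul_of_red {M : Matrix n n' (ZMod (r ^ (m + 1)))} (h : M.map (red m) = 0) :
    ∃ N : Matrix n n' (ZMod (r ^ (m + 1))), M = r • N := by
  have : ∀ i j, ∃ y, M i j = r • y := fun i j => by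
    have : red m (M i j) = 0 := congrFun (congrFun h i) j
    obtain ⟨x, e⟩ := ZMod.natCast_zmod_surjective (M i j)
    rw [← e, map_natCast, ZMod.natCast_eq_zero_iff] at this
    obtain ⟨y, rfl⟩ := this
    exact ⟨y, by rw [← e, Nat.cast_mul, nsmul_eq_mul]⟩
  choose N hN using this
  exact ⟨Matrix.of N, Matrix.ext hN⟩

theorem exists_red (M : Matrix n n' (ZMod r)) :
    ∃ N : Matrix n n' (ZMod (r ^ (m + 1))), N.map (red m) = M :=
  ⟨M.map fun x => (x.val : ZMod (r ^ (m + 1))), Matrix.ext fun i j => by simp⟩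

variable [Fintype n] [DecidableEq n]

theorem isUnit_of_red {M : Matrix n n (ZMod (r ^ (m + 1)))} (h : IsUnit (M.map (red m))) :
    IsUnit M := by
  rw [Matrix.isUnit_iff_isUnit_det] at h ⊢
  rw [← RingHom.mapMatrix_apply, ← RingHom.map_det] at h
  obtain ⟨x, e⟩ := ZMod.natCast_zmod_surjective M.det
  rw [← e, map_natCast, ZMod.isUnit_iff_coprime] at h
  rw [← e, ZMod.isUnit_iff_coprime]
  exact h.pow_right _

theorem smul_eq_zero' (M : Matrix n n (ZMod (r ^ (m + 1)))) : r ^ (m + 1) • M = 0 :=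
  Matrix.ext fun i j => by
    rw [Matrix.smul_apply, nsmul_eq_mul, ZMod.natCast_self, zero_mul, Matrix.zero_apply]

theorem exists_rep_lift {G : Type*} [Group G] [Finite G] (hc : r.Coprime (Nat.card G))
    (ρ : G →* Matrix n n (ZMod r)) :
    ∃ ρ' : G →* Matrix n n (ZMod (r ^ (m + 1))), ∀ g, (ρ' g).map (red m) = ρ g := by
  obtain ⟨ρ', h⟩ := exists_hom_lift (Units.map ((red (r := r) m).mapMatrix (m := n)).toMonoidHom)
    ρ.toHomUnits (fun g => by
      obtain ⟨N, e⟩ := exists_red (m := m) (ρ g)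
      obtain ⟨u, rfl⟩ := isUnit_of_red (M := N) (by rw [e]; exact (ρ.toHomUnits g).isUnit)
      exact ⟨u, Units.ext e⟩) (by
      have : IsPGroup r (Units.map ((red (r := r) m).mapMatrix (m := n)).toMonoidHom).ker := by
        rintro ⟨u, hu⟩
        refine ⟨m, Subtype.ext (Units.ext ?_)⟩
        obtain ⟨N, e⟩ := exists_smul_of_red (M := u.1 - 1) (by
          rw [← RingHom.mapMatrix_apply, map_sub, map_one, sub_eq_zero]
          exact congrArg Units.val hu)
        obtain ⟨c, hc⟩ := dvd_sub_pow_of_dvd_sub (p := r)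
          (a := (1 + (r : Polynomial ℤ) * Polynomial.X)) (b := 1) (by simp) m
        have := congrArg (Polynomial.aeval N) hc
        simp only [map_sub, map_pow, map_add, map_one, map_mul, map_natCast, Polynomial.aeval_X,
          one_pow] at this
        rw [← Nat.cast_pow, ← nsmul_eq_mul, ← nsmul_eq_mul, smul_eq_zero', ← e, add_sub_cancel,
          sub_eq_zero] at this
        exact (Units.val_pow_eq_pow_val _ _).trans this
      obtain ⟨k, hk⟩ := IsPGroup.iff_card.1 this
      rw [hk]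
      exact hc.pow_left k)
  exact ⟨(Units.coeHom _).comp ρ', fun g => congrArg Units.val (h g)⟩

theorem trace_idem {d : ℕ} {e : Matrix n n (ZMod (r ^ (m + 1)))} (he : e * e = e)
    {A : Matrix n (Fin d) (ZMod r)} {B : Matrix (Fin d) n (ZMod r)} (h1 : e.map (red m) = A * B)
    (h2 : B * A = 1) : e.trace = d := by
  obtain ⟨A', a⟩ := exists_red (m := m) A
  obtain ⟨B', b⟩ := exists_red (m := m) B
  have c : (B' * e * A').map (red m) = 1 := by
    rw [Matrix.map_mul, Matrix.map_mul, a, b, h1, ← Matrix.mul_assoc, h2, Matrix.one_mul, h2]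
  obtain ⟨C, hC⟩ := isUnit_of_red (c ▸ isUnit_one)
  have c' : (C⁻¹).1.map (red m) = 1 := by
    have := congrArg (·.map (red m)) C.inv_mul
    simp only [Matrix.map_mul, hC, c, Matrix.mul_one] at this
    rw [this]; simp
  obtain ⟨f, hf⟩ : ∃ f, f = e * A' * (C⁻¹).1 * (B' * e) := ⟨_, rfl⟩
  have f1 : e * f = f := by simp only [hf, ← Matrix.mul_assoc, he]
  have f2 : f * e = f := by simp only [hf, Matrix.mul_assoc, he]
  have f3 : f * f = f := by
    calc f * f = e * A' * (C⁻¹).1 * (B' * (e * e) * A' * (C⁻¹).1) * (B' * e) := by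
          simp only [hf, Matrix.mul_assoc]
      _ = f := by rw [he, ← hC, C.mul_inv, Matrix.mul_one, hf]
  obtain ⟨N, hN⟩ := exists_smul_of_red (M := e - f) (by
    rw [← RingHom.mapMatrix_apply, map_sub, sub_eq_zero, hf]
    simp only [RingHom.mapMatrix_apply, Matrix.map_mul, a, b, c', h1, Matrix.mul_one]
    rw [Matrix.mul_assoc A B A, ← Matrix.mul_assoc B A B, h2, Matrix.mul_one, Matrix.one_mul])
  have i : IsIdempotentElem (e - f) := by
    rw [IsIdempotentElem, sub_mul, mul_sub, mul_sub, he, f1, f2, f3, sub_self, sub_zero]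
  have := i.pow_succ_eq m
  rw [hN, smul_pow, smul_eq_zero', ← hN, eq_comm, sub_eq_zero] at this
  rw [this, hf, Matrix.trace_mul_comm, ← Matrix.mul_assoc, ← Matrix.mul_assoc, Matrix.mul_assoc B',
    he, ← hC, C.mul_inv, Matrix.trace_one, Fintype.card_fin]

/-- The fixed space of a subgroup. -/
def fix {k G V : Type*} [CommRing k] [Group G] [AddCommGroup V] [Module k V]
    (ρ : G →* Module.End k V) (A : Subgroup G) : Submodule k V where
  carrier := {v | ∀ a ∈ A, ρ a v = v}
  add_mem' hx hy a ha := by rw [map_add, hx a ha, hy a ha]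
  zero_mem' a _ := map_zero _
  smul_mem' c x hx a ha := by rw [map_smul, hx a ha]

theorem exists_trace {G V : Type*} [Group G] [Fintype G] [AddCommGroup V] [Module (ZMod r) V]
    [Module.Finite (ZMod r) V] (hc : r.Coprime (Nat.card G)) (ρ : G →* Module.End (ZMod r) V)
    (m : ℕ) : ∃ τ : G → ZMod (r ^ (m + 1)), ∀ (A : Subgroup G) [Fintype A],
      ∑ a : A, τ a = Nat.card A * Module.finrank (ZMod r) (fix ρ A) := by
  let b := Module.finBasis (ZMod r) V
  obtain ⟨ρ', h⟩ := exists_rep_lift (m := m) hc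
    ((LinearMap.toMatrixAlgEquiv b).toMonoidHom.comp ρ)
  refine ⟨fun g => (ρ' g).trace, fun A _ => ?_⟩
  obtain ⟨u, hu⟩ : IsUnit ((Nat.card A : ℕ) : ZMod (r ^ (m + 1))) := (ZMod.isUnit_iff_coprime _ _).2
    ((hc.symm.coprime_dvd_left (card_subgroup_dvd_card A)).pow_right _)
  have s : ∀ c : A, ρ' c * ∑ a : A, ρ' a = ∑ a : A, ρ' a := fun c => by
    rw [mul_sum]
    exact Fintype.sum_equiv (Equiv.mulLeft c) _ _ fun a => by simp
  have s' : ∀ c : A, ρ c * ∑ a : A, ρ a = ∑ a : A, ρ a := fun c => by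
    rw [mul_sum]
    exact Fintype.sum_equiv (Equiv.mulLeft c) _ _ fun a => by simp
  have uu : red m (u⁻¹).1 * (Nat.card A : ZMod r) = 1 := by
    rw [← map_natCast (red m), ← hu, ← map_mul, u.inv_mul, map_one]
  let b' := Module.finBasis (ZMod r) (fix ρ A)
  let π : V →ₗ[ZMod r] fix ρ A := (red m (u⁻¹).1 • ∑ a : A, ρ a).codRestrict _ fun v a ha => by
    rw [LinearMap.smul_apply, map_smul, ← Module.End.mul_apply, s' ⟨a, ha⟩]
  have := trace_idem (e := (u⁻¹).1 • ∑ a : A, ρ' a) (A := LinearMap.toMatrix b' b (fix ρ A).subtype)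
    (B := LinearMap.toMatrix b b' π) ?_ ?_ ?_
  · rw [← this, ← hu, Matrix.trace_smul, smul_eq_mul, u.mul_inv_cancel_left, Matrix.trace_sum]
  · rw [smul_mul_smul_comm, sum_mul, sum_congr rfl fun c _ => s c, sum_const, card_univ,
      ← Nat.card_eq_fintype_card, ← Nat.cast_smul_eq_nsmul (ZMod (r ^ (m + 1))), ← hu, smul_smul,
      u.inv_mul_cancel_right]
  · rw [← LinearMap.toMatrix_comp, show (fix ρ A).subtype ∘ₗ π = _ from
      LinearMap.subtype_comp_codRestrict _ _ _, map_smul, map_sum,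
      Matrix.map_smul' _ _ _ (map_mul (red m)), ← RingHom.mapMatrix_apply, map_sum]
    congr 1
    exact sum_congr rfl fun a _ => h a
  · rw [← LinearMap.toMatrix_comp, ← LinearMap.toMatrix_id b']
    congr 1
    ext v
    show (red m (u⁻¹).1 • ∑ a : A, ρ a) v.1 = v.1
    rw [LinearMap.smul_apply, LinearMap.sum_apply, sum_congr rfl fun (a : A) _ => v.2 a a.2, sum_const, card_univ, ← Nat.card_eq_fintype_card,
      ← Nat.cast_smul_eq_nsmul (ZMod r), smul_smul, uu, one_smul]

theorem sum_family {G K M : Type*} [Group G] [Fintype G] [Fintype K] [CommRing M]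
    (C : K → Subgroup G) [∀ k, Fintype (C k)] (τ : G → M) :
    ∑ k, ∑ a : C k, τ a = ∑ g, (Nat.card {k // g ∈ C k} : M) * τ g := by
  classical
  have : ∀ k, ∑ a : C k, τ a = ∑ g, if g ∈ C k then τ g else 0 := fun k => by
    rw [← sum_filter]
    exact (sum_subtype _ (by simp) _).symm
  simp only [this]
  rw [sum_comm]
  refine sum_congr rfl fun g _ => ?_
  rw [← sum_filter, sum_const, nsmul_eq_mul, Nat.card_eq_fintype_card, Fintype.card_subtype]

theorem wielandt_linear {G V I J : Type*} [Group G] [Finite G] [AddCommGroup V] [Module (ZMod r) V]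
    [Module.Finite (ZMod r) V] (hc : r.Coprime (Nat.card G)) (ρ : G →* Module.End (ZMod r) V)
    [Fintype I] [Fintype J] (A : I → Subgroup G) (B : J → Subgroup G)
    (h : ∀ g, Nat.card {i // g ∈ A i} = Nat.card {j // g ∈ B j}) :
    ∑ i, Nat.card (A i) * Module.finrank (ZMod r) (fix ρ (A i)) =
      ∑ j, Nat.card (B j) * Module.finrank (ZMod r) (fix ρ (B j)) := by
  classical
  have := Fintype.ofFinite G
  obtain ⟨x, hx⟩ : ∃ x, x = ∑ i, Nat.card (A i) * Module.finrank (ZMod r) (fix ρ (A i)) := ⟨_, rfl⟩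
  obtain ⟨y, hy⟩ : ∃ y, y = ∑ j, Nat.card (B j) * Module.finrank (ZMod r) (fix ρ (B j)) := ⟨_, rfl⟩
  obtain ⟨τ, hτ⟩ := exists_trace hc ρ (x + y)
  have e : (x : ZMod (r ^ (x + y + 1))) = y := by
    refine (congrArg Nat.cast hx).trans (Eq.trans ?_ (congrArg Nat.cast hy).symm)
    push_cast
    simp only [← hτ, sum_family, h]
  have := Nat.lt_pow_self (n := x + y + 1) hr.out.one_lt
  rw [← hx, ← hy]
  exact Nat.ModEq.eq_of_lt_of_lt ((ZMod.natCast_eq_natCast_iff _ _ _).1 e) (by omega) (by omega)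

end

theorem card_eq_map_mul {X Y : Type*} [Group X] [Group Y] (f : X →* Y) (K : Subgroup X) :
    Nat.card K = Nat.card (K.map f) * Nat.card (K ⊓ f.ker : Subgroup X) := by
  rw [← relIndex_ker, ← inf_relIndex_left, mul_comm]
  exact (Solv.card_mul_relIndex inf_le_left).symm

theorem wielandt_normal {Γ I J : Type*} [Group Γ] [Finite Γ] [Fintype I] [Fintype J]
    (A : I → Subgroup Γ) (B : J → Subgroup Γ)
    (h : ∀ g, Nat.card {i // g ∈ A i} = Nat.card {j // g ∈ B j}) (n : ℕ) :
    ∀ {X : Type u} [Group X] [Finite X] (ι : Γ →* X) (H : Subgroup X) [H.Normal],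
      Nat.card H = n → Group.IsSolvable H → (Nat.card H).Coprime (Nat.card Γ) →
      ∏ i, Nat.card (H ⊓ centralizer ((A i).map ι : Set X) : Subgroup X) ^ Nat.card (A i) =
      ∏ j, Nat.card (H ⊓ centralizer ((B j).map ι : Set X) : Subgroup X) ^ Nat.card (B j) := by
  induction n using Nat.strong_induction_on with
  | _ n ih =>
  intro X _ _ ι H _ hn hs hc
  by_cases h0 : H = ⊥
  · simp [h0]
  obtain ⟨M, m1, m2, m3, -, m4, r, hr, m5⟩ := Solv.exists_elementary_normal_le H hs h0
  have := Fact.mk hr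
  have hM : IsElementaryAbelian r M := ⟨m4, m5⟩
  have cM := hc.coprime_dvd_left (card_dvd_of_le m1)
  let ρ := (Solv.EMod.rep hM).comp (ι.codRestrict _ fun g => (normalizer_eq_top M).ge trivial)
  have key : ∀ C : Subgroup Γ, Nat.card (H ⊓ centralizer (C.map ι : Set X) : Subgroup X) =
      Nat.card (H.map (QuotientGroup.mk' M) ⊓
        centralizer (C.map ((QuotientGroup.mk' M).comp ι) : Set (X ⧸ M)) : Subgroup _) *
      r ^ Module.finrank (ZMod r) (fix ρ C) := fun C => by
    rw [card_eq_map_mul (QuotientGroup.mk' M), Solv.coprime_map_mk_inf_centralizer m1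
      (cM.symm.coprime_dvd_left ((card_map_dvd C ι).trans (card_subgroup_dvd_card C)))
      (Or.inr (Solv.isSolvable_of_le m1 hs)), Subgroup.map_map, QuotientGroup.ker_mk',
      ← Solv.EMod.card_grp_eq_pow]
    congr 3
    ext x
    rw [Solv.EMod.mem_grp, Subgroup.mem_inf, Subgroup.mem_inf, mem_centralizer_iff]
    refine ⟨fun a => ⟨a.2, fun g hg => Solv.EMod.ext' (mul_inv_eq_of_eq_mul (a.1.2 _ ⟨g, hg, rfl⟩))⟩,
      fun ⟨a, b⟩ => ⟨⟨m1 a, ?_⟩, a⟩⟩
    rintro _ ⟨g, hg, rfl⟩
    exact eq_mul_of_mul_inv_eq (congrArg Solv.EMod.val (b g hg))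
  simp only [key, mul_pow, prod_mul_distrib, ← pow_mul, prod_pow_eq_pow_sum, mul_comm (Module.finrank _ _)]
  rw [wielandt_linear (cM.coprime_dvd_left ?_) ρ A B h, ih _ ?_ ((QuotientGroup.mk' M).comp ι)
    (H.map (QuotientGroup.mk' M)) rfl (Solv.isSolvable_map _ hs)
    (hc.coprime_dvd_left (card_map_dvd _ _))]
  · rw [← hn, card_eq_map_mul (QuotientGroup.mk' M) H, QuotientGroup.ker_mk', inf_eq_right.2 m1]
    exact lt_mul_of_one_lt_right Nat.card_pos ((one_lt_card_iff_ne_bot M).2 m3)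
  · obtain ⟨x, x1, x2⟩ := Solv.exists_ne_one_of_ne_bot m3
    rw [← orderOf_eq_prime (m5 x x1) x2]
    exact Subgroup.orderOf_dvd_natCard M x1

/-- Wielandt's fixed point theorem. -/
theorem wielandt {X I J : Type*} [Group X] [Finite X] [Fintype I] [Fintype J] {Γ H : Subgroup X}
    (hn : Γ ≤ normalizer (H : Set X)) (hs : Group.IsSolvable H)
    (hc : (Nat.card H).Coprime (Nat.card Γ)) (A : I → Subgroup X) (B : J → Subgroup X)
    (hA : ∀ i, A i ≤ Γ) (hB : ∀ j, B j ≤ Γ)
    (h : ∀ g ∈ Γ, Nat.card {i // g ∈ A i} = Nat.card {j // g ∈ B j}) :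
    ∏ i, Nat.card (H ⊓ centralizer (A i : Set X) : Subgroup X) ^ Nat.card (A i) =
      ∏ j, Nat.card (H ⊓ centralizer (B j : Set X) : Subgroup X) ^ Nat.card (B j) := by
  have key : ∀ C ≤ Γ, Nat.card (H ⊓ centralizer (C : Set X) : Subgroup X) ^ Nat.card C =
      Nat.card (H.subgroupOf (normalizer (H : Set X)) ⊓ centralizer
        ((C.subgroupOf Γ).map (inclusion hn) : Set (normalizer (H : Set X))) : Subgroup _) ^
        Nat.card (C.subgroupOf Γ) := fun C hC => by
    rw [Nat.card_congr (subgroupOfEquivOfLe hC).toEquiv,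
      ← Nat.card_congr (subgroupOfEquivOfLe (inf_le_left.trans le_normalizer :
        H ⊓ centralizer (C : Set X) ≤ _)).toEquiv]
    congr 4
    ext x
    simp only [Subgroup.mem_inf, mem_subgroupOf, mem_centralizer_iff]
    refine and_congr_right fun _ => ⟨?_, fun a g hg => congrArg Subtype.val
      (a ⟨g, hn (hC hg)⟩ ⟨⟨g, hC hg⟩, hg, rfl⟩)⟩
    rintro a _ ⟨g, hg, rfl⟩
    exact Subtype.ext (a g hg)
  simp only [key _ (hA _), key _ (hB _)]
  have e := subgroupOfEquivOfLe (le_normalizer (H := H))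
  exact wielandt_normal (fun i => (A i).subgroupOf Γ) (fun j => (B j).subgroupOf Γ)
    (fun g => h g g.2) _ (inclusion hn) _ rfl (Group.isSolvable_of_isSolvable_injective (f := e.toMonoidHom)
      e.injective) (by rwa [Nat.card_congr e.toEquiv])

/-- Wielandt's formula for a Frobenius group `U E` acting on `H`. -/
theorem frobenius_wielandt {X : Type*} [Group X] [Finite X] {U E H : Subgroup X}
    (hn : E ≤ normalizer (U : Set X)) (hf : ∀ e ∈ E, e ≠ 1 → U ⊓ centralizer {e} = ⊥)
    (hH : U ⊔ E ≤ normalizer (H : Set X)) (hs : Group.IsSolvable H)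
    (hc : (Nat.card H).Coprime (Nat.card (U ⊔ E : Subgroup X))) :
    Nat.card (H ⊓ centralizer ((U ⊔ E : Subgroup X) : Set X) : Subgroup X) ^ Nat.card E *
      Nat.card H = Nat.card (H ⊓ centralizer (E : Set X) : Subgroup X) ^ Nat.card E *
      Nat.card (H ⊓ centralizer (U : Set X) : Subgroup X) := by
  have := Fintype.ofFinite U
  have := wielandt hH hs hc (fun i : Option U => i.elim (U ⊔ E) fun _ => ⊥)
    (fun i : Option U => i.elim U fun x => MulAut.conj (x : X) • E) ?_ ?_ ?_
  · have e : ∀ x : U, Nat.card (H ⊓ centralizer ((MulAut.conj (x : X) • E : Subgroup X) : Set X) :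
        Subgroup X) = Nat.card (H ⊓ centralizer (E : Set X) : Subgroup X) := fun x => by
      rw [← Solv.card_conj_smul (x : X) (H ⊓ centralizer (E : Set X)), smul_inf,
        Solv.centralizer_conj_smul,
        Solv.conj_smul_eq_self_iff.2 (hH (mem_sup_left x.2))]
    have e' : H ⊓ centralizer ((⊥ : Subgroup X) : Set X) = H :=
      inf_eq_left.2 (le_centralizer_iff.1 bot_le)
    simp only [Fintype.prod_option, Option.elim, e, Solv.card_conj_smul, prod_const, card_univ,
      e', card_bot, pow_one, ← Nat.card_eq_fintype_card] at this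
    rw [sup_comm, Solv.card_sup_of_disjoint hn (by rw [inf_comm]; exact Solv.inf_eq_bot_of_fpf hf),
      pow_mul, ← mul_pow, ← mul_pow, sup_comm] at this
    rw [Nat.pow_left_injective Nat.card_pos.ne' this, mul_comm]
  · rintro (_ | _)
    exacts [le_rfl, bot_le]
  · rintro (_ | x)
    · exact le_sup_left
    · rintro _ ⟨e, he, rfl⟩
      exact mul_mem (mul_mem (mem_sup_left x.2) (mem_sup_right he)) (inv_mem (mem_sup_left x.2))
  · intro g hg
    by_cases g1 : g = 1
    · simp [g1]
    rw [Nat.card_eq_one_iff_exists.2, Nat.card_eq_one_iff_exists.2]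
    · obtain ⟨i, a, b⟩ := Solv.frobenius_partition hn hf hg g1
      exact ⟨⟨i, a⟩, fun j => Subtype.ext (b _ j.2)⟩
    · refine ⟨⟨none, hg⟩, ?_⟩
      rintro ⟨_ | _, a⟩
      exacts [rfl, absurd a g1]

end Cfsg.Agent.FT
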