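import Cfsg.Agent.Lib.FT.Final
import Cfsg.Agent.Lib.Solv.Hall
import Cfsg.Agent.Lib.Solv.Coprime
import Cfsg.Agent.Lib.Solv.Cores
import Cfsg.Prelude.Def_HallClasses

/-! Direct corollaries of the odd order theorem: Schur-Zassenhaus conjugacy without solvability,
Hall subgroups of separable groups. -/

open Pointwise Subgroup

namespace Cfsg.Agent.FTC

open Cfsg.Agent.Solv

universe u

/-- Of two groups of coprime orders one is solvable. -/
theorem solv_or {A B : Type*} [Group A] [Group B] [Finite A] [Finite B]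
    (h : (Nat.card A).Coprime (Nat.card B)) : Group.IsSolvable A ∨ Group.IsSolvable B := by
  rcases Nat.even_or_odd (Nat.card A) with hA | hA
  · refine Or.inr (PF.odd_solvable ?_)
    rcases Nat.even_or_odd (Nat.card B) with hB | hB
    · exact absurd (Nat.eq_one_of_dvd_coprimes h hA.two_dvd hB.two_dvd) (by norm_num)
    · exact hB
  · exact Or.inl (PF.odd_solvable hA)

variable {G : Type u} [Group G] [Finite G]

theorem sz_conj' (N : Subgroup G) [N.Normal] (hN : (Nat.card N).Coprime N.index) {H K : Subgroup G}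
    (hH : IsComplement' N H) (hK : IsComplement' N K) : ∃ g ∈ N, MulAut.conj g • H = K :=
  sz_conj N hN (solv_or (by rwa [← index_eq_card])) hH hK

/-- `n` is a `π`-number. -/
def PiN (π : Set ℕ) (n : ℕ) : Prop := ∀ q : ℕ, q.Prime → q ∣ n → q ∈ π

theorem PiN.of_dvd {π : Set ℕ} {m n : ℕ} (h : PiN π n) (hm : m ∣ n) : PiN π m :=
  fun q hq h1 => h q hq (h1.trans hm)

theorem PiN.mul {π : Set ℕ} {m n : ℕ} (h : PiN π m) (h' : PiN π n) : PiN π (m * n) :=
  fun q hq h1 => ((Nat.Prime.dvd_mul hq).1 h1).elim (h q hq) (h' q hq)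

theorem PiN.one {π : Set ℕ} : PiN π 1 := fun _ hq h => absurd h hq.not_dvd_one

theorem PiN.coprime {π : Set ℕ} {m n : ℕ} (h : PiN π m) (h' : PiN πᶜ n) : m.Coprime n :=
  Nat.coprime_of_dvd fun q hq h1 h2 => h' q hq h2 (h q hq h1)

theorem PiN.eq_one {π : Set ℕ} {m : ℕ} (h : PiN π m) (h' : PiN πᶜ m) : m = 1 :=
  Nat.eq_one_of_self_coprime' (h.coprime h')
  where Nat.eq_one_of_self_coprime' {m : ℕ} (h : m.Coprime m) : m = 1 := by simpa using h

theorem isPiHall_iff {π : Set ℕ} {H : Subgroup G} :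
    IsPiHall π H ↔ PiN π (Nat.card H) ∧ PiN πᶜ H.index :=
  ⟨fun h => ⟨h.1, fun q hq h1 h2 => h.2 q hq h2 h1⟩, fun h => ⟨h.1, fun q hq h1 h2 => h.2 q hq h2 h1⟩⟩

/-- Separability: every chief factor is a `π`-group or a `π'`-group. -/
def Sep (π : Set ℕ) (G : Type u) [Group G] : Prop :=
  ∀ N L : Subgroup G, N.Normal → L.Normal → N < L →
    ∃ M : Subgroup G, M.Normal ∧ N < M ∧ M ≤ L ∧ (PiN π (N.relIndex M) ∨ PiN πᶜ (N.relIndex M))

theorem relIndex_dvd_of_inf_le {N M A B : Subgroup G} [A.Normal] (h1 : M ⊓ A ≤ N) (h2 : M ≤ B) :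
    N.relIndex M ∣ A.relIndex B := by
  have e1 : N.relIndex M ∣ (M ⊓ A).relIndex M := relIndex_dvd_of_le_left _ h1
  rw [inf_relIndex_left] at e1
  refine e1.trans ?_
  rw [← card_map_mk_eq_relIndex, ← card_map_mk_eq_relIndex]
  exact card_dvd_of_le (map_mono h2)

theorem sep_of_chain {π : Set ℕ} {n : ℕ} (H : Fin (n + 1) → Subgroup G) (h0 : H 0 = ⊥)
    (h1 : H (Fin.last n) = ⊤) (hn : ∀ i, (H i).Normal)
    (h : ∀ i : Fin n, PiN π ((H i.castSucc).relIndex (H i.succ)) ∨
      PiN πᶜ ((H i.castSucc).relIndex (H i.succ))) : Sep π G := by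
  intro N L hN hL hNL
  by_contra hc
  have key : ∀ i : Fin (n + 1), (H i ⊔ N) ⊓ L ≤ N := by
    intro i
    induction i using Fin.induction with
    | zero => simp [h0]
    | succ i ih =>
      by_contra h2
      have := hn i.succ
      have := hn i.castSucc
      have hd : N.relIndex ((H i.succ ⊔ N) ⊓ L) ∣ (H i.castSucc).relIndex (H i.succ) := by
        have e1 : N.relIndex ((H i.succ ⊔ N) ⊓ L) ∣ (H i.castSucc ⊔ N).relIndex (H i.succ ⊔ N) :=
          relIndex_dvd_of_inf_le (fun x hx => ih ⟨hx.2, hx.1.2⟩) inf_le_left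
        refine e1.trans ?_
        have e2 : (H i.castSucc ⊔ N).relIndex (H i.succ ⊔ N) ∣
            (H i.castSucc ⊔ N).relIndex (H i.succ ⊔ (H i.castSucc ⊔ N)) :=
          relIndex_dvd_of_inf_le inf_le_right (sup_le_sup_left le_sup_right _)
        rw [relIndex_sup_right] at e2
        exact e2.trans (relIndex_dvd_of_le_left _ le_sup_left)
      refine hc ⟨(H i.succ ⊔ N) ⊓ L, inferInstance, lt_of_le_of_ne (le_inf le_sup_right hNL.le)
        (fun e => h2 e.ge), inf_le_right, (h i).imp (·.of_dvd hd) (·.of_dvd hd)⟩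
  have := key (Fin.last n)
  rw [h1, top_sup_eq, top_inf_eq] at this
  exact hNL.not_ge this

theorem Sep.quotient {π : Set ℕ} (h : Sep π G) (K : Subgroup G) [K.Normal] : Sep π (G ⧸ K) := by
  intro N L hN hL hNL
  obtain ⟨M, hM, h1, h2, h3⟩ := h (N.comap (QuotientGroup.mk' K)) (L.comap (QuotientGroup.mk' K))
    inferInstance inferInstance ((comap_lt_comap_of_surjective (QuotientGroup.mk'_surjective K)).2 hNL)
  have e : (M.map (QuotientGroup.mk' K)).comap (QuotientGroup.mk' K) = M := by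
    rw [comap_map_mk, sup_eq_left.2 ((le_comap_mk K N).trans h1.le)]
  refine ⟨M.map (QuotientGroup.mk' K), inferInstance, ?_, map_le_iff_le_comap.2 h2, ?_⟩
  · rw [← comap_lt_comap_of_surjective (QuotientGroup.mk'_surjective K), e]; exact h1
  · rwa [← relIndex_comap]

theorem Sep.compl {π : Set ℕ} (h : Sep π G) : Sep πᶜ G := by
  intro N L hN hL hNL
  obtain ⟨M, hM, h1, h2, h3⟩ := h N L hN hL hNL
  exact ⟨M, hM, h1, h2, by rw [compl_compl]; exact h3.symm⟩

theorem Sep.exists_normal {π : Set ℕ} (h : Sep π G) {L : Subgroup G} [hL : L.Normal] (h0 : L ≠ ⊥) :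
    ∃ M : Subgroup G, M.Normal ∧ M ≠ ⊥ ∧ M ≤ L ∧ (PiN π (Nat.card M) ∨ PiN πᶜ (Nat.card M)) := by
  obtain ⟨M, hM, h1, h2, h3⟩ := h ⊥ L inferInstance hL (bot_lt_iff_ne_bot.2 h0)
  exact ⟨M, hM, h1.ne', h2, by rwa [relIndex_bot_left] at h3⟩

/-- Lifting a Hall subgroup over a normal `π`- or `π'`-subgroup. -/
theorem exists_hall_of_quotient {π : Set ℕ} (N : Subgroup G) [N.Normal]
    (hN : PiN π (Nat.card N) ∨ PiN πᶜ (Nat.card N)) {H : Subgroup (G ⧸ N)} (hH : IsPiHall π H) :
    ∃ K : Subgroup G, IsPiHall π K ∧ K.map (QuotientGroup.mk' N) = H := by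
  rw [isPiHall_iff] at hH
  rcases hN with hN | hN
  · refine ⟨H.comap (QuotientGroup.mk' N), isPiHall_iff.2 ⟨?_, ?_⟩, map_comap_mk N H⟩
    · rw [card_comap_mk]; exact hH.1.mul hN
    · rw [index_comap_mk]; exact hH.2
  · have h1 : N.relIndex (H.comap (QuotientGroup.mk' N)) = Nat.card H := by
      rw [← card_map_mk_eq_relIndex, map_comap_mk]
    obtain ⟨B, hB, hB1, hB2, hB3⟩ := sz_exists_internal (le_comap_mk N H) le_normalizer_of_normal
      (by rw [h1]; exact (hH.1.coprime hN).symm)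
    rw [h1] at hB3
    have h2 : B.index = Nat.card N * H.index := by
      have e1 := B.card_mul_index
      rw [← (H.comap (QuotientGroup.mk' N)).card_mul_index, card_comap_mk, index_comap_mk, hB3,
        mul_assoc] at e1
      exact Nat.eq_of_mul_eq_mul_left Nat.card_pos e1
    refine ⟨B, isPiHall_iff.2 ⟨by rw [hB3]; exact hH.1, by rw [h2]; exact hN.mul hH.2⟩, ?_⟩
    rw [← map_comap_mk N H, ← hB2, Subgroup.map_sup, (map_mk_eq_bot_iff N).2 le_rfl, bot_sup_eq]

theorem le_conj_of_quotient {π : Set ℕ} (N : Subgroup G) [N.Normal]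
    (hN : PiN π (Nat.card N) ∨ PiN πᶜ (Nat.card N)) {K U : Subgroup G} (hK : IsPiHall π K)
    (hU : PiN π (Nat.card U)) {g : G ⧸ N}
    (h : U.map (QuotientGroup.mk' N) ≤ MulAut.conj g • K.map (QuotientGroup.mk' N)) :
    ∃ g : G, U ≤ MulAut.conj g • K := by
  obtain ⟨g, rfl⟩ := QuotientGroup.mk'_surjective N g
  rw [← map_conj_smul, map_mk_le_map_mk_iff] at h
  have hK' := isPiHall_iff.1 (isPiHall_conj_smul hK g)
  rcases hN with hN | hN
  · rw [sup_eq_left.2 (normal_le_of_coprime_index (hN.coprime hK'.2))] at h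
    exact ⟨g, h⟩
  · have hc := hK'.1.coprime hN
    obtain ⟨k, -, hk⟩ := sz_le_conj (A := MulAut.conj g • K) (B := U) (K := N) le_normalizer_of_normal hc
      (solv_or hc) (inf_eq_bot_of_coprime' (hU.coprime hN).symm) (by rwa [sup_comm])
    exact ⟨k * g, by rwa [conj_smul_conj_smul] at hk⟩

theorem piN_map {G' : Type*} [Group G'] {π : Set ℕ} {U : Subgroup G} (h : PiN π (Nat.card U))
    (f : G →* G') : PiN π (Nat.card (U.map f)) := h.of_dvd (card_map_dvd _ _)

theorem sep_hall_aux (π : Set ℕ) (G : Type u) [Group G] [Finite G] : Sep π G →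
    (∃ K : Subgroup G, IsPiHall π K) ∧ ∀ K U : Subgroup G, IsPiHall π K → PiN π (Nat.card U) →
      ∃ g : G, U ≤ MulAut.conj g • K := by
  induction G, ‹Group G›, ‹Finite G› using card_induction' with
  | h G ih =>
  intro hs
  by_cases hb : (⊤ : Subgroup G) = ⊥
  · refine ⟨⟨⊤, isPiHall_iff.2 ⟨?_, ?_⟩⟩, fun K U _ _ => ⟨1, le_top.trans (hb.le.trans bot_le)⟩⟩
    · rw [hb, card_bot]; exact PiN.one
    · rw [index_top]; exact PiN.one
  obtain ⟨N, hN, h0, -, h⟩ := hs.exists_normal hb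
  obtain ⟨⟨H, hH⟩, h2⟩ := ih (G ⧸ N) (card_quotient_lt h0) (hs.quotient N)
  obtain ⟨K, hK, -⟩ := exists_hall_of_quotient N h hH
  refine ⟨⟨K, hK⟩, fun K U hK hU => ?_⟩
  obtain ⟨g, hg⟩ := h2 _ _ (isPiHall_map (QuotientGroup.mk'_surjective N) hK)
    (piN_map hU (QuotientGroup.mk' N))
  exact le_conj_of_quotient N h hK hU hg

theorem Sep.exists_hall {π : Set ℕ} (h : Sep π G) : ∃ K : Subgroup G, IsPiHall π K :=
  (sep_hall_aux π G h).1

theorem Sep.le_conj {π : Set ℕ} (h : Sep π G) {K U : Subgroup G} (hK : IsPiHall π K)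
    (hU : PiN π (Nat.card U)) : ∃ g : G, U ≤ MulAut.conj g • K :=
  (sep_hall_aux π G h).2 K U hK hU

theorem Sep.hall_conj {π : Set ℕ} (h : Sep π G) {K L : Subgroup G} (hK : IsPiHall π K)
    (hL : IsPiHall π L) : ∃ g : G, MulAut.conj g • K = L := by
  obtain ⟨g, hg⟩ := h.le_conj hK hL.1
  exact ⟨g, (eq_of_le_of_card_le hg (by rw [card_conj_smul, card_eq_of_isPiHall hK hL])).symm⟩

theorem Sep.exists_hall_ge {π : Set ℕ} (h : Sep π G) {U : Subgroup G} (hU : PiN π (Nat.card U)) :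
    ∃ K : Subgroup G, IsPiHall π K ∧ U ≤ K := by
  obtain ⟨K, hK⟩ := h.exists_hall
  obtain ⟨g, hg⟩ := h.le_conj hK hU
  exact ⟨_, isPiHall_conj_smul hK g, hg⟩

/-- Hall-Higman 1.2.3 for separable groups. -/
theorem Sep.centralizer_le {π : Set ℕ} (h : Sep π G) (h0 : piCore πᶜ G = ⊥) :
    centralizer (piCore π G : Set G) ≤ piCore π G := by
  by_contra hc
  set O := piCore π G
  set C := centralizer (O : Set G)
  have hCn : C.Normal := normal_centralizer
  obtain ⟨M, hM, h1, h2, h3⟩ := h (O ⊓ C) C inferInstance hCn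
    (lt_of_le_of_ne inf_le_right fun e => hc (e ▸ inf_le_left))
  have hO : PiN π (Nat.card (O ⊓ C : Subgroup G)) :=
    PiN.of_dvd (piCore_spec π) (card_dvd_of_le inf_le_left)
  rcases h3 with h3 | h3
  · have : PiN π (Nat.card M) := by rw [← card_mul_relIndex h1.le]; exact hO.mul h3
    exact h1.not_ge (le_inf (le_piCore this) h2)
  · obtain ⟨B, hB, hB1, hB2, hB3⟩ := sz_exists_internal h1.le le_normalizer_of_normal (hO.coprime h3)
    have hBp : PiN πᶜ (Nat.card B) := by rw [hB3]; exact h3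
    have hBM : M ≤ normalizer (B : Set G) := by
      rw [← hB2]
      refine sup_le ?_ le_normalizer
      refine le_trans ?_ (centralizer_le_normalizer _)
      exact inf_le_left.trans (le_centralizer_iff.1 (hB.trans h2))
    have : B ≤ piCore πᶜ G :=
      (le_map_subtype_piCore hBp hB hBM).trans (map_subtype_piCore_le M)
    rw [h0, le_bot_iff] at this
    rw [this, sup_bot_eq] at hB2
    exact h1.ne hB2

theorem isPiHall_map_equiv {G' : Type*} [Group G'] (e : G ≃* G') {π : Set ℕ} {H : Subgroup G}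
    (hH : IsPiHall π H) : IsPiHall π (H.map e.toMonoidHom) := isPiHall_map e.surjective hH

theorem exists_hall_of_surj {G' : Type*} [Group G'] {π : Set ℕ} {f : G →* G'} (hf : Function.Surjective f)
    (hN : PiN π (Nat.card f.ker) ∨ PiN πᶜ (Nat.card f.ker)) {H : Subgroup G'} (hH : IsPiHall π H) :
    ∃ K : Subgroup G, IsPiHall π K ∧ K.map f = H := by
  have : Finite G' := Finite.of_surjective f hf
  let e := QuotientGroup.quotientKerEquivOfSurjective f hf
  obtain ⟨K, hK, h⟩ := exists_hall_of_quotient f.ker hN (isPiHall_map_equiv e.symm hH)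
  refine ⟨K, hK, ?_⟩
  have : f = e.toMonoidHom.comp (QuotientGroup.mk' f.ker) := rfl
  rw [this, ← map_map, h, map_map]
  simp

theorem le_conj_of_surj {G' : Type*} [Group G'] {π : Set ℕ} {f : G →* G'} (hf : Function.Surjective f)
    (hN : PiN π (Nat.card f.ker) ∨ PiN πᶜ (Nat.card f.ker)) {K U : Subgroup G} (hK : IsPiHall π K)
    (hU : PiN π (Nat.card U)) {g : G'} (h : U.map f ≤ MulAut.conj g • K.map f) :
    ∃ g : G, U ≤ MulAut.conj g • K := by
  obtain ⟨g, rfl⟩ := hf g
  rw [← map_conj_smul, Subgroup.map_le_map_iff, ← map_mk_le_map_mk_iff, map_conj_smul] at h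
  exact le_conj_of_quotient f.ker hN hK hU h

theorem isPiHall_subgroupOf {π : Set ℕ} {L N : Subgroup G} (hL : IsPiHall π L) (h : L ≤ N) :
    IsPiHall π (L.subgroupOf N) := by
  rw [isPiHall_iff] at hL ⊢
  exact ⟨by rw [card_subgroupOf_of_le h]; exact hL.1,
    hL.2.of_dvd (Dvd.intro _ (relIndex_mul_index h))⟩

/-- The extension theorem for the property `C_π`. -/
theorem isCPi_of_normal {π : Set ℕ} (A : Subgroup G) [A.Normal] (hA : IsCPiGroup π A)
    (hQ : IsCPiGroup π (G ⧸ A)) : IsCPiGroup π G := by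
  have hconj : ∀ H K : Subgroup G, IsPiHallOf π H A → IsPiHallOf π K A →
      ∃ g ∈ A, MulAut.conj g • H = K := by
    intro H K hH hK
    obtain ⟨g, hg⟩ := hA.2 _ _ ((isPiHallOf_iff hH.1).1 hH) ((isPiHallOf_iff hK.1).1 hK)
    exact ⟨g, g.2, conj_of_conj_subgroupOf hH.1 hK.1 g (by rw [conj_smul_eq_map]; exact hg.symm)⟩
  have key : ∀ H : Subgroup G, IsPiHallOf π H A → PiN πᶜ (normalizer (H : Set G)).index ∧
      (∃ K : Subgroup (normalizer (H : Set G)), IsPiHall π K) ∧
      ∀ K U : Subgroup (normalizer (H : Set G)), IsPiHall π K → IsPiHall π U →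
        ∃ g : normalizer (H : Set G), U ≤ MulAut.conj g • K := by
    intro H hH
    set N := normalizer (H : Set G) with hNd
    have hsup : ∀ g : G, ∃ a ∈ A, a⁻¹ * g ∈ N := by
      intro g
      obtain ⟨a, ha, h⟩ := hconj _ _ hH
        (isPiHallOf_conj_smul_of_mem_normalizer hH (le_normalizer_of_normal (mem_top g)))
      refine ⟨a, ha, conj_smul_eq_self_iff.1 ?_⟩
      rw [← conj_smul_conj_smul, ← h, conj_inv_smul_conj_smul]
    have hπ' : PiN πᶜ (H.relIndex A) := fun q hq h1 h2 => hH.2.2 q hq h2 h1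
    have hidx : PiN πᶜ N.index := by
      have e : N ⊔ A = ⊤ := by
        rw [eq_top_iff]; intro g _
        obtain ⟨a, ha, h⟩ := hsup g
        rw [show g = a * (a⁻¹ * g) by group]
        exact mul_mem (mem_sup_right ha) (mem_sup_left h)
      have e2 : N.index = N.relIndex A := by
        have e3 := card_sup_mul_card_inf (H := N) (N := A) le_normalizer_of_normal
        rw [e, card_top, ← N.card_mul_index, mul_assoc, ← card_inf_mul_relIndex N A] at e3
        have e4 := Nat.eq_of_mul_eq_mul_left Nat.card_pos e3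
        rw [mul_comm] at e4
        exact Nat.eq_of_mul_eq_mul_left Nat.card_pos e4
      rw [e2]
      exact hπ'.of_dvd (relIndex_dvd_of_le_left _ le_normalizer)
    let φ : N →* G ⧸ A := (QuotientGroup.mk' A).comp N.subtype
    have hφ : Function.Surjective φ := by
      intro x
      obtain ⟨g, rfl⟩ := QuotientGroup.mk'_surjective A x
      obtain ⟨a, ha, h⟩ := hsup g
      refine ⟨⟨_, h⟩, ?_⟩
      simp only [φ, MonoidHom.comp_apply, coe_subtype, map_mul, map_inv]
      rw [QuotientGroup.mk'_apply A a, (QuotientGroup.eq_one_iff a).2 ha]; simp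
    have hHn : (H.subgroupOf N).Normal := normal_in_normalizer
    have hle : H.subgroupOf N ≤ φ.ker := fun x hx => (QuotientGroup.eq_one_iff _).2 (hH.1 hx)
    let ψ : N ⧸ H.subgroupOf N →* G ⧸ A := QuotientGroup.lift _ φ hle
    have hc : ψ.comp (QuotientGroup.mk' _) = φ := rfl
    have hψ : Function.Surjective ψ := fun x => by
      obtain ⟨y, rfl⟩ := hφ x; exact ⟨QuotientGroup.mk y, rfl⟩
    have hk : PiN πᶜ (Nat.card ψ.ker) := by
      rw [QuotientGroup.ker_lift, card_map_mk_eq_relIndex]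
      have : φ.ker = A.subgroupOf N := by
        ext x; exact QuotientGroup.eq_one_iff _
      rw [this, ← inf_subgroupOf_right A N, relIndex_subgroupOf inf_le_right]
      exact hπ'.of_dvd (Dvd.intro _ (relIndex_mul_relIndex H (A ⊓ N) A
        (le_inf hH.1 le_normalizer) inf_le_left))
    have hk2 : PiN π (Nat.card (QuotientGroup.mk' (H.subgroupOf N)).ker) := by
      rw [QuotientGroup.ker_mk', card_subgroupOf_of_le le_normalizer]; exact hH.2.1
    refine ⟨hidx, ?_, fun K U hK hU => ?_⟩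
    · obtain ⟨K, hK⟩ := hQ.1
      obtain ⟨K1, hK1, -⟩ := exists_hall_of_surj hψ (Or.inr hk) hK
      obtain ⟨K2, hK2, -⟩ := exists_hall_of_surj (QuotientGroup.mk'_surjective _) (Or.inl hk2) hK1
      exact ⟨K2, hK2⟩
    · obtain ⟨g, hg⟩ := hQ.2 _ _ (isPiHall_map hφ hK) (isPiHall_map hφ hU)
      rw [← conj_smul_eq_map, ← hc, ← map_map, ← map_map] at hg
      obtain ⟨g1, hg1⟩ := le_conj_of_surj hψ (Or.inr hk)
        (isPiHall_map (QuotientGroup.mk'_surjective _) hK) (piN_map hU.1 _) hg.le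
      exact le_conj_of_surj (QuotientGroup.mk'_surjective _) (Or.inl hk2) hK hU.1 hg1
  refine ⟨?_, fun K L hK hL => ?_⟩
  · obtain ⟨H, hH⟩ := hA.1
    obtain ⟨h1, ⟨K, hK⟩, -⟩ := key _ (isPiHallOf_map_subtype hH)
    rw [isPiHall_iff] at hK
    refine ⟨K.map (Subgroup.subtype _), isPiHall_iff.2 ⟨piN_map hK.1 _, ?_⟩⟩
    rw [index_map_subtype]
    exact hK.2.mul h1
  · have hKA := isPiHallOf_inf_normal (isPiHallOf_top_iff.2 hK) (le_top (a := A)) le_normalizer_of_normal
    have hLA := isPiHallOf_inf_normal (isPiHallOf_top_iff.2 hL) (le_top (a := A)) le_normalizer_of_normal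
    obtain ⟨a, ha, h⟩ := hconj _ _ hKA hLA
    have hK' := isPiHall_conj_smul hK a
    have e : MulAut.conj a • K ⊓ A = L ⊓ A := by
      rw [← h, smul_inf, conj_smul_eq_self_iff.2 (le_normalizer ha)]
    have n1 : L ≤ normalizer ((L ⊓ A : Subgroup G) : Set G) :=
      le_normalizer_inf le_normalizer le_normalizer_of_normal
    have n2 : MulAut.conj a • K ≤ normalizer ((L ⊓ A : Subgroup G) : Set G) := by
      rw [← e]; exact le_normalizer_inf le_normalizer le_normalizer_of_normal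
    obtain ⟨g, hg⟩ := (key _ hLA).2.2 _ _ (isPiHall_subgroupOf hK' n2) (isPiHall_subgroupOf hL n1)
    have hg' := eq_of_le_of_card_le hg (by
      rw [card_conj_smul, card_subgroupOf_of_le n1, card_subgroupOf_of_le n2,
        card_eq_of_isPiHall hK' hL])
    have := conj_of_conj_subgroupOf n2 n1 g hg'.symm
    exact ⟨g * a, by rw [← conj_smul_eq_map, ← conj_smul_conj_smul, this]⟩

end Cfsg.Agent.FTC
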