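import Cfsg.Agent.Lib.FT.Sec10
import Cfsg.Agent.Lib.Char.Sec11B
/-! Peterfalvi, Section 11: maximal subgroups of types III and IV. -/
set_option autoImplicit false
set_option linter.unusedSectionVars false
set_option linter.unusedVariables false
namespace Cfsg.Agent.PF
open Subgroup Cfsg.Agent.Transfer Cfsg.Agent.MS
open Cfsg.Agent.Char hiding cj
universe u

theorem sec11_1 {p q : ℕ} (hp : p.Prime) (hq : q.Prime) (h2 : p ≠ 2) (h3 : 3 ≤ q) (h : p ≠ q) :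
    4 * q ^ 2 + 1 < p ^ q := by
  have p3 : 3 ≤ p := by have := hp.two_le; omega
  rcases h3.eq_or_lt with rfl | h3
  · calc 4 * 3 ^ 2 + 1 < 4 ^ 3 := by norm_num
      _ ≤ p ^ 3 := Nat.pow_le_pow_left (by omega) 3
  · refine lt_of_lt_of_le ?_ (Nat.pow_le_pow_left p3 q)
    clear hq h
    induction q, h3 using Nat.le_induction with
    | base => norm_num
    | succ n hn ih => have := ih (by omega); rw [pow_succ 3]; nlinarith

section abstract
variable {L : Type u} [Group L] [Fintype L] {G : Type*} [Group G] [Fintype G]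
  {A : Type*} [Group A] {B : Type*} [Group B] {K H U H₀ : Subgroup L} [H₀.Normal] {f : A × B →* L}
  {μ : (A →* ℂˣ) → (B →* ℂˣ) → L → ℂ} {δ : (B →* ℂˣ) → ℤ} {g : A × B →* G}
  {η : (A →* ℂˣ) → (B →* ℂˣ) → G → ℂ} {S₀ : Set L} {τ : (L → ℂ) →ₗ[ℂ] (G → ℂ)}
  {R : (L → ℂ) → Finset (G → ℂ)} {p q : ℕ}

theorem cmod_bot_eq (H : Subgroup L) : cmod H ⊥ = CC H := by
  ext x
  simp only [mem_cmod, mem_bot, mem_CC, mul_inv_eq_iff_eq_mul, one_mul]
  exact forall₂_congr fun _ _ => eq_comm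

/-- (11.3) - (11.7) -/
theorem sec11_7 (h : P10 K f μ δ g η S₀ τ R) (h9 : Sec9 K H U H₀ f p q)
    (hn : ¬ Coh (indD K K ⊥) τ) (nil : Group.IsNilpotent (H ⊔ (U ⊓ CC H) : Subgroup L))
    (hU : ⁅U, U⁆ ≤ CC H) (hc : #H = p ^ q * #(H ⊓ CC U : Subgroup L)) (hle : H ⊓ CC U ≤ H₀) :
    H₀ = ⊥ ∧ ⁅K, K⁆ = H ⊔ (U ⊓ CC H) ∧ U ⊓ CC H = ⁅U, U⁆ ∧
      ¬ Coh (indD K K (H₀ ⊔ (U ⊓ CC H))) τ := by
  have := h9.normalH
  have := h9.pti.normal
  have := Fact.mk h9.primep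
  set C := U ⊓ CC H with hC
  have CU : C ≤ U := inf_le_left
  have : C.Normal := h9.normal_of (nn_of_cc (cc_symm inf_le_right))
    (nn_inf (le_nn U) (nn_cc nn_normal)) fun w => nn_inf (A := zpowers _) (zpowers_le.2 (h9.normU w))
      (nn_cc nn_normal) (mem_zpowers _)
  have Cc : C ≤ cmod H H₀ := fun x hx y hy => by
    rw [← mem_CC.1 hx.2 y hy, mul_inv_cancel_right, mul_inv_cancel]; exact one_mem _
  have HCK : H ⊔ C ≤ K := sup_le h9.HK (CU.trans h9.UK)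
  have c0 := card_mul_relIndex h9.lt.le
  rw [h9.relIndex_eq] at c0
  have n3 : ¬ Coh (indD K K (H₀ ⊔ C)) τ := fun c => hn (h.sys.coh_indD_of_nilpotent h.solvK bot_le
    (sup_le_sup_right h9.lt.le C) HCK
    (Group.nilpotent_of_surjective _ (MonoidHom.subgroupMap_surjective _ _)) c (by
      rw [h9.relIndex_H₀_sup CU, h9.index_K]
      refine sec11_1 h9.primep h9.primeq h9.p_ne_two h9.three_le_q fun e => ?_
      have c1 := h9.pti.cop
      rw [h9.cardA, ← e] at c1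
      exact (h9.primep.coprime_iff_not_dvd.1 c1) (((dvd_pow_self p
        h9.primeq.ne_zero).trans (Dvd.intro_left _ c0)).trans (card_dvd h9.HK))))
  have d1 : ⁅K, K⁆ ≤ H ⊔ ⁅U, U⁆ := h9.sup ▸ der_sup_le nn_normal
  have UC : ⁅U, U⁆ ≤ C := le_inf (der_le U) hU
  have u1 : 1 < C.relIndex U := one_lt_relIndex_of_lt (CU.lt_of_ne fun e => h9.notC (e ▸ Cc))
  have d2 : ⁅K, K⁆ = H ⊔ C := by
    by_contra n
    have lt := (d1.trans (sup_le_sup_left UC H)).lt_of_ne n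
    have a := (h.frobMod.mono HCK).two_mul_add_one_le h.odd (der_le K) lt
    refine n3 (h.sys.coh_indD_of_lt h.solvK h.commutator_lt le_rfl HCK (fun d hd c hc =>
      h9.commutator_le Cc le_sup_left ((der_le C).trans le_sup_right)
        (commutator_mem_commutator hd hc)) h.coh_der ?_)
    rw [← relIndex_mul_relIndex _ _ _ lt.le HCK, h9.relIndex_sup CU, h9.index_sup CU, relIndex_self,
      mul_one, show 4 * (q * C.relIndex U) ^ 2 = (2 * (q * C.relIndex U)) ^ 2 by ring]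
    rw [h9.index_K] at a
    refine Nat.pow_lt_pow_left (Nat.lt_sub_of_add_lt ?_) two_ne_zero
    nlinarith
  have d3 : C = ⁅U, U⁆ := by
    refine (eq_of_relIndex_eq UC CU ?_).symm
    rw [← h9.relIndex_sup CU, ← h9.relIndex_sup (der_le U),
      le_antisymm (sup_le_sup_left UC H) (d2.ge.trans d1)]
  have e0 : H ⊓ CC U = H₀ := eq_of_card_le hle (Nat.le_of_mul_le_mul_right
    (c0.trans (hc.trans (mul_comm _ _))).le (pow_pos h9.primep.pos q))
  have nH := nil_mono nil le_sup_left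
  have d4 : ⁅H, U⁆ = H := by
    by_contra n
    refine (FT.nil_sup_der_lt nH ((comm_le_left nn_normal).lt_of_ne n)).not_ge ?_
    have a : ⁅K, K⁆ ≤ ⁅H, U⁆ ⊔ ⁅H, H⁆ ⊔ C := by
      have b1 : H ≤ NN (⁅H, U⁆ ⊔ ⁅H, H⁆ ⊔ C : Subgroup L) :=
        nn_sup (nn_sup (left_nn_comm H U) nn_normal) nn_normal
      have b2 : U ≤ NN (⁅H, U⁆ ⊔ ⁅H, H⁆ ⊔ C : Subgroup L) :=
        nn_sup (nn_sup (right_nn_comm H U) nn_normal) nn_normal
      rw [← h9.sup]
      exact comm_sup_l b1 b2 (comm_sup_r b1 b2 (le_sup_right.trans le_sup_left)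
        (le_sup_left.trans le_sup_left)) (comm_sup_r b1 b2
          ((commutator_comm U H).le.trans (le_sup_left.trans le_sup_left)) (UC.trans le_sup_right))
    have b := le_inf (le_sup_left.trans (d2.ge.trans a)) (le_refl H)
    rwa [dedekind' (sup_le (comm_le_left nn_normal) (der_le H)) nn_normal,
      inf_bot_mono (inf_comm H U ▸ h9.inf) CU le_rfl, sup_bot_eq] at b
  have e1 : H₀ = ⁅H, H⁆ := le_antisymm (e0 ▸ cop_cc_le_der nn_normal h9.cop.symm d4) h9.comm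
  refine ⟨h9.eq_bot_of_commutator ?_ e1 (e0 ▸ cc_symm inf_le_right), d2, d3, n3⟩
  refine IsPGroup.iff_card.2 ⟨_, Nat.eq_prime_pow_of_unique_prime_dvd (card_ne_zero H) fun hr d => ?_⟩
  have := prime_dvd_relIndex_commutator (K := H) (M := ⊥)
    (Group.nilpotent_of_surjective _ (MonoidHom.subgroupMap_surjective _ _)) hr
    (by rwa [relIndex_bot_left])
  rw [sup_bot_eq, ← e1, h9.relIndex_eq] at this
  exact (Nat.prime_dvd_prime_iff_eq hr h9.primep).1 (hr.dvd_of_dvd_pow this)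

/-- (11.9.c) -/
theorem sec11_9c [Finite A] (h : P10 K f μ δ g η S₀ τ R) (h9 : Sec9 K H U ⊥ f p q) (hH : H ≤ ⁅K, K⁆)
    (hpq : p < q) {ζ : L → ℂ} (hζ : ζ ∈ indD K K ⁅K, K⁆)
    (ha : ∀ i j, classInner (τ (pmu K μ 1 - ζ)) (η i j) = if i = 1 then 1 else 0) :
    Gal9 H U ⊥ := by
  by_contra hG
  have := h9.normalH
  have := h9.pti.normal
  obtain ⟨H₁, a, hA⟩ := h9.caseA hG
  have hP := h.toPDade.mono h9.HK h9.BH
  obtain ⟨ν, hν⟩ := h9.coh hP (h.sys.mono (conjSub_indD (indD_subset _ _ _)))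
  obtain ⟨T, hT, hT'⟩ := h9.caseA_count hA
  have p2 := h9.primep.two_le
  obtain ⟨ψ, hψ⟩ : T.Nonempty := Finset.card_pos.1 (Nat.pos_of_mul_pos_right (lt_of_lt_of_le
    (Nat.mul_pos (by omega) (one_le_relIndex _ _)) hT'))
  obtain ⟨m1, m2, m3⟩ := hT ψ hψ
  have m4 := indD_mono le_rfl (sup_le_sup_left (der_mono (inf_le_left (b := cmod H ⊥))) _) m1
  obtain ⟨j, hj⟩ := h.cyc.ti.exists_ne_oneB
  obtain ⟨j1, j2, -⟩ := h9.red_spec h.fam (hP.pmu_mem hj)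
  have j3 := indD_mono le_rfl (sup_le_sup_left (der_le _) _) j2
  set u := (U ⊓ cmod H ⊥).relIndex U
  have g1 : ((a : ℂ) • pmu K μ j - (u : ℂ) • ψ) 1 = 0 := by
    simp [h.fam.pmu_apply_one, j1, m3, h9.cardA]; ring
  have g2 : (a : ℂ) • pmu K μ j - (u : ℂ) • ψ ∈ Submodule.span ℂ _ :=
    Submodule.sub_mem _ (Submodule.smul_mem _ _ (Submodule.subset_span j3))
      (Submodule.smul_mem _ _ (Submodule.subset_span m4))
  have o : ∀ φ ∈ indD K H ⊥, rip φ (pmu K μ 1 - ζ) = 0 := fun φ b => by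
    rw [rip_sub_right, h.fam.pmu_one, rip_eq_zero (classInner_ind_one_of_mem_indD b),
      rip_eq_zero (orth_of_mem_indD b hζ fun e => not_le_charKer_of_mem_indD h9.HK b
        (hH.trans (e ▸ le_charKer_of_mem_indD (der_le K) hζ))), sub_zero]
  have k := hP.rip_eq (isClassFunction_of_mem_span
    (fun _ b => (isCharacter_of_mem_indD b).isClassFunction) g2) (h.isGen_beta hζ).isClassFunction
    (hP.suppIn_span g2 g1) (h.suppIn_beta hζ)
  rw [← hν.ext _ g1, map_sub, map_smul, map_smul] at k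
  simp only [rip_sub_left (_ • _), rip_natCast_smul_left, o _ (indD_subset_bot _ _ _ j3),
    o _ (indD_subset_bot _ _ _ m4)] at k
  obtain ⟨m, hm⟩ := (hν.gen ψ m4).rip_eq_int (h.gen _ (h.isGen_beta hζ) (h.suppIn_beta hζ))
  have e : ∀ l, rip (ecol η l) (τ (pmu K μ 1 - ζ)) = 1 := fun l => by
    rw [rip_comm, ecol, rip_sum_right, Finset.sum_eq_single 1 (fun i _ n => rip_eq_zero (by
      rw [ha, if_neg n])) (by simp), rip_eq_one (by rw [ha, if_pos rfl])]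
  have d : (u : ℤ) ∣ a := by
    have s := h.fam.sign j
    rcases h.toPDade.coh_pmu h.sys h.red subset_rfl (conjSub_indD (indD_subset _ _ _)) hν m4 m2 j3
      with b | ⟨b, -⟩ <;> rw [b, hm] at k <;>
      simp only [rip_neg_left, rip_intCast_smul_left, e] at k <;>
      rcases s with s | s <;> rw [s] at k <;> push_cast at k
    · exact ⟨m, by exact_mod_cast (by linarith : (a : ℝ) = u * m)⟩
    · exact ⟨-m, by exact_mod_cast (by linarith : (a : ℝ) = u * -m)⟩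
    · exact ⟨-m, by exact_mod_cast (by linarith : (a : ℝ) = u * -m)⟩
    · exact ⟨m, by exact_mod_cast (by linarith : (a : ℝ) = u * m)⟩
  have u1 : 1 < u := one_lt_relIndex_of_lt (inf_le_left.lt_of_ne fun e => h9.notC (inf_eq_left.1 e))
  have b1 := Nat.le_of_dvd (by omega) ((Int.natCast_dvd_natCast.1 d).trans hA.dvd)
  have b2 := Nat.le_of_dvd (by omega) h9.q_dvd
  omega

theorem cyc_of_caseB (hB : CaseB H U ⊥ f p q) (nil : Group.IsNilpotent U)
    (hC : U ⊓ cmod H ⊥ = ⁅U, U⁆) : IsCyclic U := by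
  obtain ⟨k, _, _, φ, ψ, -, -, -, -, a, b, c, -⟩ := hB.field
  let s : U →* kˣ := MonoidHom.mk' (fun x => Units.mk0 (ψ x) (a x x.2).1) fun x y =>
    Units.ext (b x x.2 y y.2)
  obtain ⟨⟨_, x, rfl⟩, hx⟩ := IsCyclic.exists_generator (α := s.range)
  suffices e : zpowers (x : L) = U from e ▸ cyc_zpowers _
  by_contra n
  refine (FT.nil_sup_der_lt nil ((zpowers_le.2 x.2).lt_of_ne n)).not_ge fun y hy => ?_
  obtain ⟨m, hm⟩ := hx ⟨_, ⟨y, hy⟩, rfl⟩
  have e : s ((x ^ m)⁻¹ * ⟨y, hy⟩) = 1 := by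
    rw [map_mul, map_inv, map_zpow, inv_mul_eq_one]; exact congrArg Subtype.val hm
  have := hC.le ⟨((x ^ m)⁻¹ * (⟨y, hy⟩ : U)).2,
    (c _ ((x ^ m)⁻¹ * (⟨y, hy⟩ : U)).2).1 (congrArg Units.val e)⟩
  rw [← mul_inv_cancel_left ((x : L) ^ m) y]
  exact mul_mem (mem_sup_left ⟨m, rfl⟩) (mem_sup_right this)

end abstract

variable {G : Type u} [Group G] [Fintype G] [BG16 G] {M W₁ W₂ U : Subgroup G}

theorem sec11 (hM : IsCoatom M) (h3 : T345 M) (h : TP M W₁ U W₂) :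
    IsElementaryAbelian #W₂ (MF M) ∧ #(MF M) = #W₂ ^ #W₁ ∧ IsCyclic U ∧ #W₂ < #W₁ ∧
      ⁅dK M, dK M⁆ = dH M ∧ ∀ μ δ η, PrimeFam (dK M) (tf h) μ δ → CycFam (tg h) η →
        ∀ ζ ∈ indD (dK M) (dK M) (dH M), ∀ i j,
          classInner (tau M (pmu (dK M) μ 1 - ζ)) (η i j) = if i = 1 then 1 else 0 := by
  have hU := sec10_10 hM h.not_typeI h
  obtain ⟨H₀, _, p, h9, hle⟩ := exists_sec9 hM h hU (prime_W₁ hM h)
  obtain ⟨μ, δ, fam⟩ := (tp_primeTI hM h).exists_fam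
  obtain ⟨η, cyc⟩ := (tp_cycTI h).exists_fam
  obtain ⟨R, h10⟩ := tp_p10 hM h3 h fam cyc
  obtain ⟨c1, c2⟩ := card_34 hM h3 h hU
  have cc : ∀ X, X ≤ M → CC (X.subgroupOf M) = (CC X).subgroupOf M := fun X a => by
    rw [← cmod_bot_eq, FT.sub_cmod_bot a]
  obtain rfl : p = #W₂ := (Nat.prime_dvd_prime_iff_eq h9.primep c1).1 (h9.index_W₂ ▸ index_dvd_card _)
  obtain ⟨rfl, a1, a2, a3⟩ := sec11_7 h10 h9 (sec10_8 hM h3) (by
      rw [cc _ (MF_le M), FT.sub_inf', FT.sub_sup (MF_le M) (inf_le_left.trans h.U_le), ← tp_F h]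
      exact FT.sub_nil (F_le M) (F_nil M))
    (by rw [cc _ (MF_le M), FT.sub_comm h.U_le h.U_le]; exact comap_mono h.der_U)
    (by rw [cc _ h.U_le, FT.sub_inf', card_dH, FT.card_sub (inf_le_left.trans (MF_le M)), c2])
    (by rwa [cc _ h.U_le, FT.sub_inf'])
  rw [bot_sup_eq] at a3
  rw [← cmod_bot_eq] at a1 a2 a3
  obtain ⟨ζ, hζ⟩ := h10.exists_zeta
  obtain ⟨b1, b2⟩ := h10.sec11_9 hζ h9 a1 a3
  have b3 := cyc_of_caseB (h9.caseB (sec11_9c h10 h9 (le_sup_left.trans a1.ge) b2 hζ b1))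
    (FT.sub_nil h.U_le h.U_nilpotent) a2
  have b4 : #(MF M) = #W₂ ^ #W₁ := by rw [← card_dH, ← relIndex_bot_left, h9.relIndex_eq]
  have b5 : ⁅dK M, dK M⁆ = dH M := by rw [a1, a2, ab_iff_der.1 (ab_of_cyc b3), sup_bot_eq]
  refine ⟨elem_of_card hM h b4, b4, (subgroupOfEquivOfLe h.U_le).isCyclic.1 b3, b2, b5,
    fun μ δ η fam cyc ζ hζ => ?_⟩
  obtain ⟨R, h10⟩ := tp_p10 hM h3 h fam cyc
  exact (h10.sec11_9 (b5 ▸ hζ) h9 a1 a3).1

end Cfsg.Agent.PF
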