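import Cfsg.Agent.Lib.FT.Sec8B
import Cfsg.Agent.Lib.Char.Sec7
import Cfsg.Agent.Lib.Char.Sec9B

/-!
Peterfalvi's Section 8: the character-theoretic set-up attached to a maximal subgroup.
-/

set_option autoImplicit false
set_option linter.unusedSectionVars false
set_option linter.unusedVariables false

namespace Cfsg.Agent.FT

open Subgroup Cfsg.Agent.Transfer Cfsg.Agent.MS
open Cfsg.Agent.Char hiding cj

universe u
variable {G : Type u} [Group G]

/-- The uniform `Fintype` structure on subgroups. -/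
noncomputable scoped instance (priority := high) finSub [Fintype G] (M : Subgroup G) : Fintype M :=
  Fintype.ofFinite M

/-- The Dade isometry relative to `(A₀(M), M, G)`. -/
noncomputable abbrev tau (M : Subgroup G) : (M → ℂ) →ₗ[ℂ] (G → ℂ) :=
  dadeLin (typeA0 M) M (supportR M)

/-- `Ã` for `A ⊆ A₀(M)`. -/
abbrev til (M : Subgroup G) (A : Set G) : Set G := dadeSupp A (supportR M)

/-- The map `ρ` of (7.1) for `A ⊆ A₀(M)`. -/
noncomputable abbrev rho [Finite G] (M : Subgroup G) (A : Set G) : (G → ℂ) →ₗ[ℂ] (M → ℂ) :=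
  dadeRho A M (supportR M)

section sub
variable {M X Y : Subgroup G}

theorem normal_sub (h : M ≤ NN X) : (X.subgroupOf M).Normal :=
  ⟨fun x hx g => conj_mem_of_mem_normalizer (H := X) (h g.2) hx⟩

theorem nn_map_of_normal (N : Subgroup M) [hN : N.Normal] : M ≤ NN (N.map M.subtype) := by
  have := le_normalizer_map (H := N) M.subtype
  rwa [normalizer_eq_top, ← MonoidHom.range_eq_map, range_subtype] at this

theorem nil_sup_der_lt [Finite G] (hM : Group.IsNilpotent M) (h : X < M) : X ⊔ ⁅M, M⁆ < M :=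
  (sup_le h.le (der_le M)).lt_of_ne fun e =>
    have a := (Comp.subnIn_of_isNilpotent hM h.le).sup_commutator_lt h.ne
    a.not_ge (le_of_le_sup_commutator_of_nilpotent le_rfl a.le (Comp.le_normalizer_sup_commutator X M)
      (e.ge.trans (sup_le_sup_right le_sup_left _)))

theorem card_sub (h : X ≤ M) : #(X.subgroupOf M) = #X :=
  Nat.card_congr (subgroupOfEquivOfLe h).toEquiv

theorem sub_sup (h1 : X ≤ M) (h2 : Y ≤ M) : X.subgroupOf M ⊔ Y.subgroupOf M = (X ⊔ Y).subgroupOf M :=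
  (subgroupOf_sup h1 h2).symm

theorem sub_inf' (X Y M : Subgroup G) : X.subgroupOf M ⊓ Y.subgroupOf M = (X ⊓ Y).subgroupOf M :=
  (comap_inf _ _ _).symm

theorem map_sub (h : X ≤ M) : (X.subgroupOf M).map M.subtype = X := map_subgroupOf_eq_of_le h

theorem sub_map (Z : Subgroup M) : (Z.map M.subtype).subgroupOf M = Z :=
  comap_map_eq_self_of_injective M.subtype_injective _

theorem sub_comm (h1 : X ≤ M) (h2 : Y ≤ M) :
    ⁅X.subgroupOf M, Y.subgroupOf M⁆ = (⁅X, Y⁆ : Subgroup G).subgroupOf M := by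
  rw [← sub_map ⁅X.subgroupOf M, Y.subgroupOf M⁆, map_commutator, map_sub h1, map_sub h2]

theorem sub_le_sub (h1 : X ≤ M) : X.subgroupOf M ≤ Y.subgroupOf M ↔ X ≤ Y :=
  ⟨fun h x hx => h (x := ⟨x, h1 hx⟩) hx, fun h => comap_mono h⟩

theorem sub_eq_bot (h1 : X ≤ M) : X.subgroupOf M = ⊥ ↔ X = ⊥ := by
  rw [subgroupOf_eq_bot, disjoint_iff, inf_eq_left.2 h1]

theorem sub_nn (h1 : X ≤ M) (h2 : Y ≤ M) : X.subgroupOf M ≤ NN (Y.subgroupOf M) ↔ X ≤ NN Y := by
  rw [← subgroupOf_normalizer_eq h2, sub_le_sub h1]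

theorem sub_nil (h : X ≤ M) (h1 : Group.IsNilpotent X) : Group.IsNilpotent (X.subgroupOf M) :=
  Group.nilpotent_of_mulEquiv (subgroupOfEquivOfLe h).symm

theorem sub_cmod_bot (h : X ≤ M) : cmod (X.subgroupOf M) ⊥ = (CC X).subgroupOf M := by
  ext x
  simp only [mem_cmod, mem_bot, mem_subgroupOf, mem_CC, mul_inv_eq_iff_eq_mul, one_mul]
  exact ⟨fun k y hy => (congrArg Subtype.val (k ⟨y, h hy⟩ hy)).symm,
    fun k y hy => Subtype.ext (k y hy).symm⟩

instance normal_der (M : Subgroup G) : ((⁅M, M⁆ : Subgroup G).subgroupOf M).Normal :=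
  normal_sub (nn_comm (le_nn M) (le_nn M))

instance normal_MF [Finite G] (M : Subgroup G) : ((MF M).subgroupOf M).Normal :=
  normal_sub (nn_MF' le_rfl)

instance normal_F [Finite G] (M : Subgroup G) : ((F M).subgroupOf M).Normal :=
  normal_sub (nn_F (le_nn M))

instance normal_core [Finite G] (M : Subgroup G) : ((typeCore M).subgroupOf M).Normal :=
  normal_sub (nn_core M)

end sub

section
variable [Fintype G] [hG : BG16 G] {M S T X : Subgroup G}

theorem odd_G : Odd (Nat.card G) := hG.out.1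

theorem til_disj (hS : IsCoatom S) (hT : IsCoatom T) (n : ¬ CJ S T) :
    Disjoint (til S (typeA1 S)) (til T (typeA1 T)) := by
  rw [til, til, ← tilde_eq, ← tilde_eq]; exact hG.tilde_disj S T hS hT n

theorem til_disj_or (hS : IsCoatom S) (hT : IsCoatom T) (n : ¬ CJ S T) :
    Disjoint (til S (typeA1 S)) (til T (typeA T)) ∨ Disjoint (til T (typeA1 T)) (til S (typeA S)) := by
  simp only [til, ← tilde_eq]; exact tilde_disj_or hS hT n

/-- Hypothesis (7.6) for `A₁(M)`. -/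
theorem d7_core (hM : IsCoatom M) :
    D7 (typeA1 M) M (supportR M) ((typeCore M).subgroupOf M) (tau M) :=
  d7_of_restrict (dade0 hM) (A1_sub_A0 hM) fun x =>
    and_congr_right fun _ => not_congr (OneMemClass.coe_eq_one (x := x))

theorem d7_MF (hM : IsCoatom M) :
    D7 {x | x ∈ MF M ∧ x ≠ 1} M (supportR M) ((MF M).subgroupOf M) (tau M) :=
  d7_of_restrict (dade0 hM) (fun x hx => A1_sub_A0 hM ⟨MF_le_core M hx.1, hx.2⟩) fun x =>
    and_congr_right fun _ => not_congr (OneMemClass.coe_eq_one (x := x))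

/-- If no element of `A₀(M)` has its centraliser outside `M`, then `τ` is induction. -/
theorem tau_eq_ind (hM : IsCoatom M) {α : M → ℂ} (hα : IsClassFunction M α)
    (h : ∀ x : M, α x ≠ 0 → (x : G) ∈ typeA0 M ∧ C1 (x : G) ≤ M) : tau M α = indFun M α :=
  (dade0 hM).dade_eq_ind hα fun x hx => ⟨(h x hx).1, R_of_le (h x hx).2⟩

end

end Cfsg.Agent.FT

namespace Cfsg.IsTypePWith

open Subgroup Cfsg.Agent Cfsg.Agent.Transfer Cfsg.Agent.MS Cfsg.Agent.FT
open Cfsg.Agent.Char hiding cj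

universe u
variable {G : Type u} [Group G] {M U W₁ W₂ T V X : Subgroup G} (h : IsTypePWith M W₁ U W₂)

/-- The embedding of `W₁ × W₂` in `G`. -/
def g : W₁ × W₂ →* G := prodHom h.selfNormalizing.2.2.2.1

@[simp] theorem g_apply (a : W₁) (b : W₂) : h.g (a, b) = a * b := rfl

theorem g_range : h.g.range = W₁ ⊔ W₂ := range_prodHom _

theorem g_swap (h' : IsTypePWith T W₂ V W₁) : h'.g = swapHom h.g :=
  MonoidHom.ext fun ⟨b, a⟩ => (h.selfNormalizing.2.2.2.1 a a.2 b b.2).symm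

variable [Finite G]

/-- The embedding of `W₁ × W₂` in `M`. -/
def f : W₁ × W₂ →* M := h.g.codRestrict M fun w => mul_mem (h.W₁_le w.1.2) (h.W₂_leM w.2.2)

@[simp] theorem coe_f (w : W₁ × W₂) : (h.f w : G) = h.g w := rfl

theorem coe_f_left (a : W₁) : (h.f (a, 1) : G) = a := mul_one _
theorem coe_f_right (b : W₂) : (h.f (1, b) : G) = b := one_mul _

variable [hG : BG16 G]

theorem cycTI : CycTI h.g := cycTI_of_selfNormalizing h.selfNormalizing (odd_sub _)

theorem primeTI : PrimeTI ((⁅M, M⁆ : Subgroup G).subgroupOf M) h.f where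
  normal := inferInstance
  inj := fun _ _ e => h.cycTI.inj (congrArg Subtype.val e)
  cycA := h.W₁_cyclic
  cycB := h.W₂_cyc
  oddA := odd_sub _
  oddB := odd_sub _
  ntA := h.cycTI.ntA
  ntB := h.cycTI.ntB
  memK a b := ⟨fun c => Subtype.ext (eq_one_of_inf h.der_inf
    ((mul_mem_cancel_right (h.W₂_le' b.2)).1 c) a.2), by
      rintro rfl; rw [mem_subgroupOf, h.coe_f_right]; exact h.W₂_le' b.2⟩
  surj x := by
    obtain ⟨k, hk, a, ha, e⟩ := h.W₁_compl.2.2.2 x x.2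
    exact ⟨⟨k, der_le M hk⟩, hk, ⟨a, ha⟩, Subtype.ext (by rw [e]; simp)⟩
  cop := card_sub (der_le M) ▸ h.cop_W₁
  cent a ha k hk e := by
    have : (k : G) ∈ W₂ := h.W₂_centralizer a a.2 (by simpa using ha) ▸
      mem_inf.2 ⟨hk, mem_C1.2 (by simpa using (congrArg Subtype.val e).symm)⟩
    exact ⟨⟨k, this⟩, Subtype.ext (one_mul _).symm⟩

theorem g_mem_A0 {a : W₁} {b : W₂} (ha : a ≠ 1) (hb : b ≠ 1) : h.g (a, b) ∈ Agent.typeA0 M :=
  (mem_A0_P h).2 (.inr ⟨1, one_mem _, a * b, mul_mem_sup a.2 b.2,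
    mt (mul_mem_left_iff h.W_inf a b).1 hb, mt (mul_mem_right_iff h.W_inf a b).1 ha, by simp⟩)

/-- (9.4): a chief factor `M_F / H₀` of `M` not centralised by `U`. -/
theorem exists_sec9 (hM : IsCoatom M) (h0 : U ≠ ⊥) :
    ∃ (H₀ : Subgroup G) (_ : (H₀.subgroupOf M).Normal) (p : ℕ), H₀ < MF M ∧ M ≤ NN H₀ ∧
      MF M ⊓ CC U ≤ H₀ ∧ p ∣ #W₂ ∧
      Sec9 ((⁅M, M⁆ : Subgroup G).subgroupOf M) ((MF M).subgroupOf M) (U.subgroupOf M)
        (H₀.subgroupOf M) h.f p #W₁ := by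
  have n := nn_MF' (le_refl M)
  have a : (MF M ⊓ CC U) ⊔ ⁅MF M, MF M⁆ < MF M :=
    nil_sup_der_lt (MF_nil M) (inf_le_left.lt_of_ne fun e =>
      h.not_le_cc h0 (cc_symm (e.ge.trans inf_le_right)))
  have b : M ≤ NN ((MF M ⊓ CC U) ⊔ ⁅MF M, MF M⁆ : Subgroup G) := by
    conv_lhs => rw [← h.H_sup_UW]
    have := h.U_normal
    exact sup_le (nn_of_der_le le_sup_right a.le)
      (nn_sup (nn_inf (nn_MF' (sup_le h.U_le h.W₁_le)) (nn_cc (sup_le (le_nn U) this)))
        (nn_comm (nn_MF' (sup_le h.U_le h.W₁_le)) (nn_MF' (sup_le h.U_le h.W₁_le))))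
  obtain ⟨H₀, ⟨c, d, e⟩, m⟩ := Finite.exists_le_maximal
    (p := fun N => (MF M ⊓ CC U) ⊔ ⁅MF M, MF M⁆ ≤ N ∧ N < MF M ∧ M ≤ NN N) ⟨le_rfl, a, b⟩ |>.imp
    fun _ k => k.2
  have hN := normal_sub e
  have l : H₀ ≤ M := d.le.trans (MF_le M)
  have ch : ∀ N, H₀ ≤ N → N ≤ MF M → M ≤ NN N → N = H₀ ∨ N = MF M := fun N k1 k2 k3 =>
    (k2.eq_or_lt.symm.imp_left fun k => le_antisymm (m ⟨c.trans k1, k, k3⟩ k1) k1)
  obtain ⟨p, hp, dp⟩ := Nat.exists_prime_and_dvd (n := H₀.relIndex (MF M))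
    (mt relIndex_eq_one.1 d.not_ge)
  have hc : ⁅MF M, MF M⁆ ≤ H₀ := le_sup_right.trans c
  have pw : ∀ x ∈ MF M, x ^ p ∈ H₀ := by
    let N : Subgroup G :=
      { carrier := {x | x ∈ MF M ∧ x ^ p ∈ H₀}
        one_mem' := ⟨one_mem _, by simp⟩
        inv_mem' := fun k => ⟨inv_mem k.1, by rw [inv_pow]; exact inv_mem k.2⟩
        mul_mem' := fun {x y} k k' => ⟨mul_mem k.1 k'.1, by
          obtain ⟨Q, _, _, φ, q⟩ := exists_qm l e
          have := (q.cc_iff (MF_le M) (MF_le M)).2 hc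
          have c : Commute (φ ⟨x, MF_le M k.1⟩) (φ ⟨y, MF_le M k'.1⟩) :=
            mem_CC.1 (this (mem_im_of k'.1 _)) _ (mem_im_of k.1 _)
          rw [← q.eq_one_iff (pow_mem (mul_mem (MF_le M k.1) (MF_le M k'.1)) p)]
          have e1 := (q.eq_one_iff (pow_mem (MF_le M k.1) p)).2 k.2
          have e2 := (q.eq_one_iff (pow_mem (MF_le M k'.1) p)).2 k'.2
          change φ ((⟨x, MF_le M k.1⟩ * ⟨y, MF_le M k'.1⟩) ^ p) = 1
          change φ (⟨x, MF_le M k.1⟩ ^ p) = 1 at e1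
          change φ (⟨y, MF_le M k'.1⟩ ^ p) = 1 at e2
          rw [map_pow] at e1 e2
          rw [map_pow, map_mul, c.mul_pow, e1, e2, one_mul]⟩ }
    have := ch N (fun x k => ⟨d.le k, pow_mem k p⟩) (fun x k => k.1) fun g hg =>
      mem_normalizer_of_conj_mem fun x k => ⟨conj_mem_of_mem_normalizer (n hg) k.1, by
        rw [conj_pow]; exact conj_mem_of_mem_normalizer (e hg) k.2⟩
    refine fun x hx => (this.resolve_left fun k => ?_).ge hx |>.2
    obtain ⟨Q, _, _, φ, q⟩ := exists_qm l e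
    obtain ⟨Y, y1, y2⟩ := exists_card_eq (H := im φ (MF M)) hp (by rwa [q.card_im (MF_le M)])
    obtain ⟨y, hy, y3⟩ := exists_ne_one (prime_ne_bot (y2 ▸ hp))
    obtain ⟨x, hx, rfl⟩ := mem_im.1 (y1 hy)
    refine y3 ((q.eq_one_iff x.2).2 (k.le ⟨hx, (q.eq_one_iff (pow_mem x.2 p)).1 ?_⟩))
    change φ (x ^ p) = 1
    rw [map_pow, ← orderOf_dvd_iff_pow_eq_one, ← y2]
    exact orderOf_dvd hy
  have s : Sec9 ((⁅M, M⁆ : Subgroup G).subgroupOf M) ((MF M).subgroupOf M) (U.subgroupOf M)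
      (H₀.subgroupOf M) h.f p #W₁ :=
    { pti := h.primeTI
      odd := odd_sub M
      solv := max_sol hM
      cardA := rfl
      primeq := (h.of_ne_bot hM h0).1
      primep := hp
      normalH := inferInstance
      lt := lt_of_le_not_ge (comap_mono d.le) (mt (sub_le_sub (MF_le M)).1 d.not_ge)
      inf := by rw [sub_inf', h.H_inf, bot_subgroupOf]
      sup := by rw [sub_sup (MF_le M) h.U_le, h.H_sup]
      cop := by rw [card_sub (MF_le M), card_sub h.U_le]; exact h.cop_U.symm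
      normU := fun a => (sub_nn h.W₁_le h.U_le).2 h.U_normal (by
        rw [mem_subgroupOf, h.coe_f_left]; exact a.2)
      BH := fun b => by rw [mem_subgroupOf, h.coe_f_right]; exact h.W₂_leH b.2
      chief := fun N hN k1 k2 => by
        have := ch (N.map M.subtype) (map_sub l ▸ map_mono k1) (map_sub (MF_le M) ▸ map_mono k2)
          (nn_map_of_normal N)
        exact this.imp (fun k => by rw [← k, sub_map]) fun k => by rw [← k, sub_map]
      comm := by rw [sub_comm (MF_le M) (MF_le M)]; exact comap_mono hc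
      pow := fun x hx => pw x hx
      notC := fun k => d.not_ge (by
        rw [← cop_comm_sup (nn_MF' h.U_le) h.cop_U (sol_of_nil (MF_nil M)), commutator_comm]
        exact sup_le (commutator_le.2 fun x hx y hy => k (x := ⟨x, h.U_le hx⟩) hx ⟨y, MF_le M hy⟩ hy)
          (le_sup_left.trans c))
      derU := by
        rw [sub_comm h.U_le h.U_le]
        intro x hx y hy
        rw [mem_subgroupOf, coe_mul, coe_mul, coe_mul, coe_inv, coe_inv,
          conj_eq_of_cc (g := (x : G)) (x := (y : G)) (H := MF M) (h.der_U hx) hy, mul_inv_cancel]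
        exact one_mem _ }
  have := Fintype.ofFinite M
  exact ⟨H₀, hN, p, d, e, le_sup_left.trans c, s.index_W₂ ▸ index_dvd_card _, s⟩

end Cfsg.IsTypePWith

namespace Cfsg.IsTypePWith

open Subgroup Cfsg.Agent Cfsg.Agent.Transfer Cfsg.Agent.MS Cfsg.Agent.FT
open Cfsg.Agent.Char hiding cj

universe u
variable {G : Type u} [Group G] [Fintype G] [hG : BG16 G] {M U W₁ W₂ X : Subgroup G}
  (h : IsTypePWith M W₁ U W₂)

/-- (8.15): Hypothesis (4.6) holds for every normal `X` with `W₂ ≤ X ≤ M_s`. -/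
theorem pdade (hM : IsCoatom M)
    {μ : (W₁ →* ℂˣ) → (W₂ →* ℂˣ) → M → ℂ} {δ : (W₂ →* ℂˣ) → ℤ}
    {η : (W₁ →* ℂˣ) → (W₂ →* ℂˣ) → G → ℂ}
    (fam : PrimeFam ((⁅M, M⁆ : Subgroup G).subgroupOf M) h.f μ δ) (cyc : CycFam h.g η)
    (h1 : W₂ ≤ X) (h2 : X ≤ typeCore M) (h3 : M ≤ NN X) :
    PDade ((⁅M, M⁆ : Subgroup G).subgroupOf M) (X.subgroupOf M) h.f μ δ h.g η
      {x | (x : G) ∈ Agent.typeA0 M} (tau M) :=
  pDade_of_dade (hH := normal_sub h3) (dade0 hM) fam cyc (fun _ => rfl)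
    (comap_mono (h2.trans (core_le_der h)))
    (fun b => by rw [mem_subgroupOf, h.coe_f_right]; exact h1 b.2)
    (fun x hx x1 y hy y1 e => A_sub_A0 M ((mem_A_P h.not_typeI).2 ⟨hx, by simpa using x1, y, h2 hy,
      by simpa using y1, congrArg Subtype.val e⟩))
    fun a b ha hb => h.g_mem_A0 ha hb

theorem pdade_MF (hM : IsCoatom M)
    {μ : (W₁ →* ℂˣ) → (W₂ →* ℂˣ) → M → ℂ} {δ : (W₂ →* ℂˣ) → ℤ}
    {η : (W₁ →* ℂˣ) → (W₂ →* ℂˣ) → G → ℂ}
    (fam : PrimeFam ((⁅M, M⁆ : Subgroup G).subgroupOf M) h.f μ δ) (cyc : CycFam h.g η) :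
    PDade ((⁅M, M⁆ : Subgroup G).subgroupOf M) ((MF M).subgroupOf M) h.f μ δ h.g η
      {x | (x : G) ∈ Agent.typeA0 M} (tau M) :=
  h.pdade hM fam cyc h.W₂_leH (MF_le_core M) (nn_MF' le_rfl)

theorem pdade_der (hM : IsCoatom M) (t : ¬ IsOfTypeII M)
    {μ : (W₁ →* ℂˣ) → (W₂ →* ℂˣ) → M → ℂ} {δ : (W₂ →* ℂˣ) → ℤ}
    {η : (W₁ →* ℂˣ) → (W₂ →* ℂˣ) → G → ℂ}
    (fam : PrimeFam ((⁅M, M⁆ : Subgroup G).subgroupOf M) h.f μ δ) (cyc : CycFam h.g η) :
    PDade ((⁅M, M⁆ : Subgroup G).subgroupOf M) ((⁅M, M⁆ : Subgroup G).subgroupOf M) h.f μ δ h.g η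
      {x | (x : G) ∈ Agent.typeA0 M} (tau M) :=
  h.pdade hM fam cyc h.W₂_le' (h.core_eq hM t).ge (nn_comm (le_nn M) (le_nn M))

end Cfsg.IsTypePWith
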