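import Cfsg.Agent.Lib.FT.Final0
import Cfsg.Agent.Lib.FT.Sec11
import Cfsg.Agent.Lib.MS.Sec16

/-!
The odd order theorem.
-/

set_option autoImplicit false

namespace Cfsg.Agent.PF

universe u

theorem not_BG16 (G : Type u) [Group G] [Fintype G] [BG16 G] : False :=
  false_of_sec11 (G := G) fun _ _ _ _ hM h3 h => (sec11 hM h3 h).2

/-- There is no minimal simple group of odd order. -/
theorem not_minSimple (G : Type u) [Group G] [Finite G] : ¬ IsMinSimpleOddOrder G := fun h =>
  have := Fintype.ofFinite G
  have : MS.MinS G := ⟨h⟩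
  have := MS.bg16 (G := G)
  not_BG16 G

/-- The Feit-Thompson theorem. -/
theorem odd_solvable {G : Type u} [Group G] [Finite G] (h : Odd (Nat.card G)) : Group.IsSolvable G :=
  solvable_of_not_minSimple not_minSimple G h

end Cfsg.Agent.PF
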