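import Mathlib.FieldTheory.Finite.GaloisField
import Mathlib.FieldTheory.Finite.Extension
import Mathlib.NumberTheory.LegendreSymbol.Complex
import Mathlib.Algebra.Polynomial.SpecificDegree
import Mathlib.Analysis.Normed.Ring.Finite
import Mathlib.Analysis.SpecialFunctions.Pow.Real
import Mathlib.Algebra.CharP.CharAndCard

/-!
Bender-Glauberman, Appendix C: the field-theoretic lemmas C.1 and C.2.
-/

set_option autoImplicit false

namespace Cfsg.Agent.AppC

open Polynomial Finset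

variable {F : Type*} [Field F] {p q : ℕ}

theorem geom (hp : p.Prime) (q : ℕ) : (p ^ q - 1) / (p - 1) = ∑ i ∈ range q, p ^ i :=
  (Nat.geomSum_eq hp.two_le q).symm

theorem geom_mul (hp : p.Prime) (q : ℕ) : (p ^ q - 1) / (p - 1) * (p - 1) = p ^ q - 1 :=
  Nat.div_mul_cancel (by simpa using Nat.sub_dvd_pow_sub_pow p 1 q)

theorem exists_cast_of_pow_eq [Fact p.Prime] [CharP F p] {x : F} (h : x ^ p = x) :
    ∃ n : ℕ, (n : F) = x := by
  have := (Subfield.mem_bot_iff_pow_eq_self F p).2 h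
  rw [← ZMod.fieldRange_castHom_eq_bot p] at this
  obtain ⟨d, rfl⟩ := this
  exact ⟨d.val, by simp⟩

/-- Lemma C.1. -/
theorem le_of_inv [hp : Fact p.Prime] [CharP F p] (hq : 0 < q) {n : ℕ}
    (hn : n = (p ^ q - 1) / (p - 1))
    (hinv : ∀ a : F, a ^ n = 1 → (2 - a) ^ n = 1 → (2 - a⁻¹) ^ n = 1)
    {a : F} (h1 : a ≠ 1) (h2 : a ^ n = 1) (h3 : (2 - a) ^ n = 1) : p ≤ q := by
  rw [geom hp.out] at hn
  have n0 : n ≠ 0 := by
    rw [hn]
    exact (sum_pos (fun i _ => pow_pos hp.out.pos i) (by simpa using hq.ne')).ne'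
  have step : ∀ x y : F, x ^ n = 1 → y ^ n = 1 → (2 * y - x) ^ n = 1 →
      (2 * (2 * y - x) - y) ^ n = 1 := by
    intro x y a b c
    have y0 : y ≠ 0 := by rintro rfl; simp [n0] at b
    have z0 : 2 * y - x ≠ 0 := fun e => by rw [e] at c; simp [n0] at c
    have := hinv ((2 * y - x) / y) (by rw [div_pow, b, c, div_one])
      (by rw [show 2 - (2 * y - x) / y = x / y by field_simp; ring, div_pow, a, b, div_one])
    rw [show 2 - ((2 * y - x) / y)⁻¹ = (2 * (2 * y - x) - y) / (2 * y - x) by field_simp,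
      div_pow, c, div_one] at this
    exact this
  have key : ∀ k : ℕ, ((k : F) * (1 - a) + a) ^ n = 1 ∧ ((k + 1 : F) * (1 - a) + a) ^ n = 1 ∧
      ((k + 2 : F) * (1 - a) + a) ^ n = 1 := by
    intro k
    induction k with
    | zero => exact ⟨by simpa using h2, by simp, by convert h3 using 2; push_cast; ring⟩
    | succ k ih =>
      obtain ⟨i1, i2, i3⟩ := ih
      refine ⟨by push_cast; exact i2, by convert i3 using 2; push_cast; ring, ?_⟩
      convert step _ _ i1 i2 (by convert i3 using 2; ring) using 2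
      push_cast; ring
  by_contra hlt
  have hg : (∏ i ∈ range q, (C ((1 - a) ^ p ^ i) * X + C (a ^ p ^ i))).natDegree = q := by
    rw [natDegree_prod _ _ fun i _ => ?_, sum_congr rfl fun i _ => natDegree_linear
      (pow_ne_zero _ (sub_ne_zero.2 h1.symm))]
    · simp
    · intro e
      have := natDegree_linear (b := a ^ p ^ i) (pow_ne_zero (p ^ i) (sub_ne_zero.2 h1.symm))
      rw [e] at this
      simp at this
  have := eq_zero_of_natDegree_lt_card_of_eval_eq_zero
    (∏ i ∈ range q, (C ((1 - a) ^ p ^ i) * X + C (a ^ p ^ i)) - 1) (ι := Fin p)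
    (f := fun k => ((k : ℕ) : F)) (fun k l e => Fin.ext (CharP.natCast_injOn_Iio F p k.2 l.2 e))
    (fun k => ?_) ?_
  · rw [sub_eq_zero.1 this] at hg
    simp at hg
    omega
  · rw [eval_sub, eval_one, eval_prod, sub_eq_zero]
    refine Eq.trans ?_ (key k).1
    rw [hn, ← prod_pow_eq_pow_sum]
    refine prod_congr rfl fun i _ => ?_
    rw [add_pow_char_pow, mul_pow, ← iterateFrobenius_def p i (k : F), map_natCast]
    simp [mul_comm]
  · rw [Fintype.card_fin]
    refine (natDegree_sub_le _ _).trans_lt ?_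
    rw [hg, natDegree_one]
    omega

/-- The cubic case of Lemma C.2. -/
theorem exists_of_three [hp : Fact p.Prime] [Fintype F] (hF : Fintype.card F = p ^ 3) :
    ∃ a : F, a ≠ 1 ∧ a ^ ((p ^ 3 - 1) / (p - 1)) = 1 ∧ (2 - a) ^ ((p ^ 3 - 1) / (p - 1)) = 1 := by
  have : CharP F p := charP_of_card_eq_prime_pow hF
  let := ZMod.algebra F p
  obtain ⟨c, hc⟩ : ∃ c : ZMod p, ∀ d : ZMod p, d * (d - 2) * (d - c) + (d - 1) ≠ 0 := by
    by_contra h
    push Not at h
    choose g hg using h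
    have g0 : ∀ c, g c ≠ 0 := fun c e => by simpa [e] using hg c
    have g2 : ∀ c, g c - 2 ≠ 0 := fun c e => by
      have := hg c
      rw [e, sub_eq_zero.1 e] at this
      norm_num at this
    obtain ⟨c, e⟩ := Finite.surjective_of_injective (f := g) (fun c d e => by
      have := hg c
      rw [e] at this
      exact mul_left_cancel₀ (mul_ne_zero (g0 d) (g2 d)) (by linear_combination hg d - this)) 0
    exact g0 c e
  obtain ⟨f, hf⟩ : ∃ f : (ZMod p)[X], f = X * (X - 2) * (X - C c) + (X - 1) := ⟨_, rfl⟩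
  have fd : f.natDegree = 3 := by rw [hf]; compute_degree!
  have fi : Irreducible f := irreducible_of_degree_le_three_of_not_isRoot (by rw [fd]; decide)
    fun d => by simpa [hf] using hc d
  have hs : (f.map (algebraMap (ZMod p) F)).Splits := by
    refine (FiniteField.splits_X_pow_card_sub_X p (K := F)).of_dvd (Polynomial.map_ne_zero ?_)
      (Polynomial.map_dvd _ ?_)
    · exact FiniteField.X_pow_card_sub_X_ne_zero _ Fintype.one_lt_card
    · have := (fi.natDegree_dvd_iff_dvd_X_pow_card_pow_sub_X (n := 3)).1 (by rw [fd])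
      rwa [Nat.card_zmod, ← hF] at this
  obtain ⟨a, ha⟩ := hs.exists_eval_eq_zero (by
    rw [degree_map, degree_eq_natDegree fi.ne_zero, fd]; decide)
  set e : F := algebraMap (ZMod p) F c
  have ha : a * (a - 2) * (a - e) + (a - 1) = 0 := by simpa [hf] using ha
  have fr : ∀ x : F, x * (x - 2) * (x - e) + (x - 1) = 0 →
      x ^ p * (x ^ p - 2) * (x ^ p - e) + (x ^ p - 1) = 0 := fun x hx => by
    have := congrArg (frobenius F p) hx
    simp only [map_add, map_mul, map_sub, map_one, map_zero, map_ofNat, frobenius_def] at this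
    rwa [show e ^ p = e by rw [← map_pow, ZMod.pow_card]] at this
  have inj : ∀ x y : F, x ^ p = y ^ p → x = y := fun x y h => frobenius_inj F p h
  have n1 : a ^ p ≠ a := fun h => by
    obtain ⟨d, rfl⟩ := exists_cast_of_pow_eq h
    refine hc d ((algebraMap (ZMod p) F).injective ?_)
    simpa [map_ofNat] using ha
  have p3 : ((a ^ p) ^ p) ^ p = a := by
    rw [← pow_mul, ← pow_mul, show p * (p * p) = p ^ 3 by ring, ← hF, FiniteField.pow_card]
  have n2 : (a ^ p) ^ p ≠ a ^ p := fun h => n1 (inj _ _ h)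
  have n3 : (a ^ p) ^ p ≠ a := fun h => n1 (by rw [h] at p3; exact p3)
  have hb := fr _ ha
  have hd := fr _ hb
  have g3 : ∀ x : F, x ^ ((p ^ 3 - 1) / (p - 1)) = x * x ^ p * (x ^ p) ^ p := fun x => by
    rw [geom hp.out]; simp [sum_range_succ]; ring
  have s2 : ∀ x : F, (2 - x) ^ p = 2 - x ^ p := fun x => by
    have := map_sub (frobenius F p) 2 x
    rwa [map_ofNat] at this
  refine ⟨a, fun h => n1 (by simp [h]), ?_⟩
  rw [g3, g3, s2, s2]
  generalize (a ^ p) ^ p = d at *
  generalize a ^ p = b at *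
  have e1 : a ^ 2 + a * b + b ^ 2 - (2 + e) * (a + b) + (2 * e + 1) = 0 :=
    mul_left_cancel₀ (sub_ne_zero.2 n1) (by linear_combination hb - ha)
  have e2 : a ^ 2 + a * d + d ^ 2 - (2 + e) * (a + d) + (2 * e + 1) = 0 :=
    mul_left_cancel₀ (sub_ne_zero.2 n3) (by linear_combination hd - ha)
  have e3 : a + b + d - (2 + e) = 0 :=
    mul_left_cancel₀ (sub_ne_zero.2 n2) (by linear_combination e2 - e1)
  obtain rfl : d = 2 + e - a - b := by linear_combination e3
  exact ⟨by linear_combination ha - a * e1, by linear_combination (a - 2) * e1 - ha⟩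

/-- A large multiplicative subgroup has two solutions of `x + y = c`. -/
theorem fourier [Fintype F] (U : Subgroup Fˣ) {c : F} (hc : c ≠ 0)
    (h : ∀ x ∈ U, ∀ y ∈ U, (x : F) + y = c → x = 1) :
    (Nat.card U : ℝ) ^ 2 ≤ Fintype.card F + Fintype.card F * √(Fintype.card F) := by
  classical
  have := Fintype.ofFinite U
  set ψ := AddChar.FiniteField.primitiveChar_to_Complex F
  have hψ : ψ.IsPrimitive := AddChar.FiniteField.primitiveChar_to_Complex_isPrimitive F
  set S : F → ℂ := fun t => ∑ u : U, ψ (t * (u : Fˣ)) with hS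
  set m := Fintype.card F
  set n := Fintype.card U
  have m0 : (0 : ℝ) < m := Nat.cast_pos.2 Fintype.card_pos
  have n0 : (0 : ℝ) < n := Nat.cast_pos.2 Fintype.card_pos
  have inv : ∀ (t : F) (v : U), S (t * (v : Fˣ)) = S t := fun t v =>
    Fintype.sum_equiv (Equiv.mulLeft v) _ _ fun u => by simp [mul_assoc]
  have S0 : S 0 = n := by simp [hS, n]
  have pars : ∑ t, ‖S t‖ ^ 2 = m * n := by
    have : ∑ t, S t * (starRingEnd ℂ) (S t) = m * n := by
      simp only [hS, map_sum, sum_mul_sum, AddChar.starComp_apply (Nat.pos_of_ne_zero (CharP.ringChar_ne_zero_of_finite F)),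
        AddChar.inv_apply, ← AddChar.map_add_eq_mul, ← sub_eq_add_neg, ← mul_sub]
      rw [sum_comm]
      simp_rw [sum_comm (s := (univ : Finset F)), AddChar.sum_mulShift _ hψ, sub_eq_zero,
        Units.val_inj, Subtype.coe_inj]
      simp [m, n, mul_comm]
    simp_rw [Complex.mul_conj, Complex.normSq_eq_norm_sq] at this
    exact_mod_cast this
  have bd : ∀ t ≠ 0, ‖S t‖ ≤ √m := fun t ht => by
    refine Real.le_sqrt_of_sq_le (le_of_mul_le_mul_right ?_ n0)
    rw [← pars]
    calc ‖S t‖ ^ 2 * n = ∑ u : U, ‖S (t * (u : Fˣ))‖ ^ 2 := by simp [inv, n, mul_comm]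
      _ = ∑ s ∈ univ.image (fun u : U => t * (u : Fˣ)), ‖S s‖ ^ 2 :=
        (sum_image (f := fun s => ‖S s‖ ^ 2) fun u _ v _ e =>
          Subtype.ext (Units.ext (mul_left_cancel₀ ht e))).symm
      _ ≤ _ := sum_le_sum_of_subset_of_nonneg (subset_univ _) fun _ _ _ => by positivity
  have cnt : ‖∑ t, S t ^ 2 * ψ (t * -c)‖ ≤ m := by
    have : ∑ t, S t ^ 2 * ψ (t * -c) =
        ∑ x : U, ∑ y : U, if ((x : Fˣ) : F) + (y : Fˣ) + -c = 0 then (m : ℂ) else 0 := by
      simp only [hS, sq, sum_mul_sum]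
      simp only [sum_mul, ← AddChar.map_add_eq_mul, ← mul_add]
      rw [sum_comm]
      simp_rw [sum_comm (s := (univ : Finset F)), AddChar.sum_mulShift _ hψ]
      simp [m]
    rw [this, sum_eq_single 1 (fun x _ x1 => sum_eq_zero fun y _ => if_neg fun e =>
      x1 (Subtype.ext (h _ x.2 _ y.2 (by linear_combination e)))) (by simp)]
    by_cases e : ∃ y : U, (((1 : U) : Fˣ) : F) + (y : Fˣ) + -c = 0
    · obtain ⟨y, e⟩ := e
      rw [sum_eq_single y (fun z _ z1 => if_neg fun e' =>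
        z1 (Subtype.ext (Units.ext (by linear_combination e' - e)))) (by simp), if_pos e]
      simp
    · rw [sum_eq_zero fun y _ => if_neg fun e' => e ⟨y, e'⟩]
      simp
  have avg : n * ∑ t, S t ^ 2 * ψ (t * -c) = ∑ t, S t ^ 2 * S (t * -c) := by
    calc n * ∑ t, S t ^ 2 * ψ (t * -c) = ∑ u : U, ∑ t, S t ^ 2 * ψ (t * -c) := by simp [n]
      _ = ∑ u : U, ∑ t, S t ^ 2 * ψ (t * -c * (u : Fˣ)) := sum_congr rfl fun u _ =>
        (Fintype.sum_equiv (Equiv.mulRight₀ ((u : Fˣ) : F) (Units.ne_zero _)) _ _ fun t => by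
          simp [inv, mul_right_comm]).symm
      _ = _ := by rw [sum_comm]; simp only [hS, mul_sum]
  have rest : ‖∑ t ∈ univ.erase 0, S t ^ 2 * S (t * -c)‖ ≤ m * n * √m := by
    refine (norm_sum_le _ _).trans ?_
    rw [← pars, sum_mul]
    refine (sum_le_sum fun t ht => ?_).trans
      (sum_le_sum_of_subset_of_nonneg (erase_subset 0 _) fun _ _ _ => by positivity)
    rw [norm_mul, norm_pow]
    gcongr
    exact bd _ (mul_ne_zero (ne_of_mem_erase ht) (neg_ne_zero.2 hc))
  rw [← add_sum_erase _ (fun t => S t ^ 2 * S (t * -c)) (mem_univ 0), zero_mul, S0] at avg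
  have : ‖(n : ℂ) ^ 2 * n‖ ≤ n * m + m * n * √m := by
    rw [eq_sub_of_add_eq avg.symm]
    refine (norm_sub_le _ _).trans (add_le_add ?_ rest)
    rw [norm_mul, Complex.norm_natCast]
    gcongr
  rw [norm_mul, norm_pow, Complex.norm_natCast] at this
  rw [Nat.card_eq_fintype_card]
  exact le_of_mul_le_mul_right (by linarith) n0

theorem card_ker_pow [Fintype F] (hp : p.Prime) (hF : Fintype.card F = p ^ q) :
    Nat.card (powMonoidHom ((p ^ q - 1) / (p - 1)) : Fˣ →* Fˣ).ker = (p ^ q - 1) / (p - 1) := by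
  rw [IsCyclic.card_powMonoidHom_ker, Nat.card_units, Nat.card_eq_fintype_card, hF]
  exact Nat.gcd_eq_right (Dvd.intro _ (geom_mul hp q))

/-- Lemma C.2. -/
theorem exists_ne_one [hp : Fact p.Prime] [Fintype F] (hF : Fintype.card F = p ^ q) (hp2 : p ≠ 2)
    (hq : q.Prime) (hq2 : q ≠ 2) :
    ∃ a : F, a ≠ 1 ∧ a ^ ((p ^ q - 1) / (p - 1)) = 1 ∧ (2 - a) ^ ((p ^ q - 1) / (p - 1)) = 1 := by
  by_cases h3 : q = 3
  · subst h3; exact exists_of_three hF
  have : CharP F p := charP_of_card_eq_prime_pow hF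
  obtain ⟨r, rfl⟩ : ∃ r, q = r + 5 := Nat.exists_eq_add_of_le' (hq.five_le_of_ne_two_of_ne_three hq2 h3)
  by_contra h
  have h2 : (2 : F) ≠ 0 := fun e => hp2 ((Nat.prime_dvd_prime_iff_eq hp.out Nat.prime_two).1
    ((CharP.cast_eq_zero_iff F p 2).1 e))
  have := fourier (powMonoidHom ((p ^ (r + 5) - 1) / (p - 1)) : Fˣ →* Fˣ).ker h2 fun x hx y hy e => by
    by_contra x1
    refine h ⟨x, fun e => x1 (Units.ext e), ?_, ?_⟩
    · exact (Units.val_pow_eq_pow_val _ _).symm.trans (congrArg Units.val hx)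
    · rw [← e, add_sub_cancel_left]
      exact (Units.val_pow_eq_pow_val _ _).symm.trans (congrArg Units.val hy)
  rw [card_ker_pow hp.out hF, hF, geom hp.out, sum_range_succ] at this
  push_cast at this
  have p2 : (2 : ℝ) ≤ p := by exact_mod_cast hp.out.two_le
  have s0 : (0 : ℝ) ≤ ∑ i ∈ range (r + 4), (p : ℝ) ^ i := by positivity
  have e1 : (p : ℝ) ^ (r + 5) * (p ^ (r + 3) - 1) ≤ p ^ (r + 5) * √(p ^ (r + 5)) := by
    have : ((p : ℝ) ^ (r + 4)) ^ 2 ≤ (∑ i ∈ range (r + 4), (p : ℝ) ^ i + p ^ (r + 4)) ^ 2 := by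
      gcongr; linarith
    have e : ((p : ℝ) ^ (r + 4)) ^ 2 = p ^ (r + 5) * p ^ (r + 3) := by ring
    linarith
  have e2 := le_of_mul_le_mul_left e1 (by positivity)
  have e3 : (p : ℝ) ^ 3 ≤ p ^ (r + 3) := pow_le_pow_right₀ (by linarith) (by omega)
  have e4 : (2 : ℝ) ^ 3 ≤ p ^ 3 := by gcongr
  have e5 := (Real.le_sqrt (by linarith) (by positivity)).1 e2
  rw [show (p : ℝ) ^ (r + 5) = p ^ (r + 3) * p ^ 2 by ring] at e5
  have e6 : (p : ℝ) ^ 2 + 2 ≤ p ^ 3 := by nlinarith
  nlinarith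

end Cfsg.Agent.AppC
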