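import Cfsg.Agent.Lib.FT.AppC1
import Cfsg.Agent.Lib.Solv.Coprime

/-!
Bender-Glauberman, Appendix C: Lemma C.3 and Theorem C.
-/

set_option autoImplicit false

namespace Cfsg.Agent.AppC

open Subgroup
open scoped commutatorElement

variable {G : Type*} [Group G] {F : Type*} [Field F] {p n : ℕ}

theorem mul_pow_mul_inv_mem {P : Subgroup G} {x g : G} (hx : x ∈ P)
    (hg : g ∈ normalizer (P : Set G)) (k : ℕ) : (x * g) ^ k * (g ^ k)⁻¹ ∈ P := by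
  induction k with
  | zero => simp
  | succ k ih =>
    have := mul_mem hx ((mem_normalizer_iff.1 hg _).1 ih)
    convert this using 1
    rw [pow_succ', pow_succ']
    group

/-- The configuration of Theorem C. -/
structure Cfg (p n : ℕ) (σ : Multiplicative F →* G) (φ : G → F) (U Q : Subgroup G) (y : G) :
    Prop where
  inj : Function.Injective σ
  act : ∀ u ∈ U, ∀ x : F, u⁻¹ * σ (.ofAdd x) * u = σ (.ofAdd (φ u * x))
  mul : ∀ u ∈ U, ∀ v ∈ U, φ (u * v) = φ u * φ v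
  injOn : Set.InjOn φ U
  pow : ∀ u ∈ U, φ u ^ n = 1
  cop : n.Coprime (p - 1)
  dec : ∀ z : F, ∃ c, c ^ p = c ∧ ∃ v ∈ U, z = c * φ v
  ne_bot : U ≠ ⊥
  comm : IsMulCommutative Q
  copQ : (Nat.card Q).Coprime p
  normQ : σ (.ofAdd 1) ∈ normalizer (Q : Set G)
  mem : y ∈ Q
  normU : y⁻¹ * σ (.ofAdd 1) * y ∈ normalizer (U : Set G)
  two : (2 : F) ≠ 0

namespace Cfg

variable [hp : Fact p.Prime] [CharP F p] {σ : Multiplicative F →* G} {φ : G → F}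
  {U Q : Subgroup G} {y : G} (h : Cfg p n σ φ U Q y)

local notation "S" x => σ (Multiplicative.ofAdd x)

omit hp [CharP F p] in
theorem S_add (a b : F) : (S (a + b)) = (S a) * (S b) := map_mul σ (.ofAdd a) (.ofAdd b)

omit hp [CharP F p] in
theorem S_neg (a : F) : (S (-a)) = (S a)⁻¹ := map_inv σ (.ofAdd a)

omit hp [CharP F p] in
theorem S_zero : (S (0 : F)) = 1 := map_one σ

omit hp [CharP F p] in
theorem S_nat (k : ℕ) : (S (k : F)) = (S (1 : F)) ^ k := by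
  rw [← map_pow, ← ofAdd_nsmul, nsmul_one]

omit hp in
theorem S_pow (a : F) : (S a) ^ p = 1 := by
  rw [← map_pow, ← ofAdd_nsmul, nsmul_eq_mul, CharP.cast_eq_zero, zero_mul, S_zero]

theorem S_mem {c : F} (hc : c ^ p = c) : (S c) ∈ zpowers (S (1 : F)) := by
  obtain ⟨k, rfl⟩ := exists_cast_of_pow_eq hc
  rw [S_nat]
  exact npow_mem_zpowers _ _

theorem fx_neg {c : F} (hc : c ^ p = c) : (-c) ^ p = -c := by
  have := map_neg (frobenius F p) c
  rwa [frobenius_def, frobenius_def, hc] at this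

theorem fx_add {c d : F} (hc : c ^ p = c) (hd : d ^ p = d) : (c + d) ^ p = c + d := by
  rw [add_pow_char, hc, hd]

theorem fx_nat (k : ℕ) : (k : F) ^ p = k := map_natCast (frobenius F p) k

theorem fx_two : (2 : F) ^ p = 2 := by exact_mod_cast fx_nat (F := F) (p := p) 2

theorem fx_three : (3 : F) ^ p = 3 := by exact_mod_cast fx_nat (F := F) (p := p) 3

omit hp [CharP F p] in
theorem S_two : (S (2 : F)) = (S (1 : F)) ^ 2 := by
  rw [← S_nat]; norm_num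

omit hp [CharP F p] in
theorem S_three : (S (3 : F)) = (S (1 : F)) ^ 3 := by
  rw [← S_nat]; norm_num

omit hp [CharP F p] in
theorem S_comm (a b : F) : (S a) * (S b) = (S b) * (S a) := by
  rw [← S_add, add_comm, S_add]

include h

omit hp [CharP F p] in
theorem S_eq_one {a : F} : (S a) = 1 ↔ a = 0 := map_eq_one_iff σ h.inj

omit hp [CharP F p] in
theorem phi_one : φ 1 = 1 := by
  have := h.act 1 (one_mem _) 1
  rw [inv_one, one_mul, mul_one, mul_one] at this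
  exact (h.inj this).symm

omit hp [CharP F p] in
theorem eq_one {u : G} (hu : u ∈ U) (e : φ u = 1) : u = 1 :=
  h.injOn hu (one_mem U) (e.trans h.phi_one.symm)

omit hp [CharP F p] in
theorem phi_ne {u : G} (hu : u ∈ U) : φ u ≠ 0 := fun e => by
  have := h.mul u hu u⁻¹ (inv_mem hu)
  rw [mul_inv_cancel, h.phi_one, e, zero_mul] at this
  exact one_ne_zero this

omit hp [CharP F p] in
theorem phi_pow {u : G} (hu : u ∈ U) (k : ℕ) : φ (u ^ k) = φ u ^ k := by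
  induction k with
  | zero => simpa using h.phi_one
  | succ k ih => rw [pow_succ, h.mul _ (pow_mem hu k) _ hu, ih, pow_succ]

omit hp [CharP F p] in
theorem commute {u v : G} (hu : u ∈ U) (hv : v ∈ U) : Commute u v :=
  h.injOn (mul_mem hu hv) (mul_mem hv hu) (by rw [h.mul _ hu _ hv, h.mul _ hv _ hu, mul_comm])

omit [CharP F p] in
theorem eq_one_of_pow {u : G} (hu : u ∈ U) (e : φ u ^ p = φ u) : u = 1 := by
  refine h.eq_one hu (orderOf_eq_one_iff.1 (Nat.eq_one_of_dvd_coprimes h.cop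
    (orderOf_dvd_of_pow_eq_one (h.pow u hu)) (orderOf_dvd_of_pow_eq_one ?_)))
  refine mul_right_cancel₀ (h.phi_ne hu) ?_
  rw [← pow_succ, Nat.sub_add_cancel hp.out.one_le, e, one_mul]

omit [CharP F p] in
theorem eq_one_of_pow' {u : G} (hu : u ∈ U) (e : u ^ p = u) : u = 1 :=
  h.eq_one_of_pow hu (by rw [← h.phi_pow hu, e])

omit hp [CharP F p] in
theorem eq_zero_of_mem {a : F} (ha : (S a) ∈ U) : a = 0 := by
  have := h.act _ ha 1
  rw [mul_assoc, ← S_add, add_comm, S_add, inv_mul_cancel_left, mul_one] at this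
  exact h.S_eq_one.1 (h.eq_one ha (h.inj this).symm)

omit hp [CharP F p] in
theorem S_mul {u : G} (hu : u ∈ U) (a : F) : (S a) * u = u * S (φ u * a) := by
  rw [← h.act u hu]; group

omit hp [CharP F p] in
theorem dec_iff {a u v : G} (ha : a ∈ U) (hu : u ∈ U) (hv : v ∈ U) {α β γ : F} :
    (S α) * a * (S β) = u * (S γ) * v ↔ a = u * v ∧ φ a * α + β = φ v * γ := by
  rw [h.S_mul ha, mul_assoc u, h.S_mul hv, mul_assoc, ← S_add, ← mul_assoc]
  refine ⟨fun e => ?_, fun e => by rw [e.1, ← e.2, ← e.1]⟩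
  have : (S (φ a * α + β - φ v * γ)) = a⁻¹ * (u * v) := by
    rw [sub_eq_add_neg, S_add, S_neg, mul_inv_eq_iff_eq_mul, mul_assoc, ← e, inv_mul_cancel_left]
  have e2 := h.eq_zero_of_mem (this ▸ mul_mem (inv_mem ha) (mul_mem hu hv))
  rw [e2, S_zero, eq_inv_mul_iff_mul_eq, mul_one] at this
  exact ⟨this, sub_eq_zero.1 e2⟩

omit hp [CharP F p] in
theorem dec_exists {a : G} (ha : a ∈ U) (α β : F) :
    ∃ c, c ^ p = c ∧ ∃ u ∈ U, ∃ v ∈ U, (S α) * a * (S β) = u * (S c) * v := by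
  obtain ⟨c, hc, v, hv, e⟩ := h.dec (φ a * α + β)
  have := mul_mem ha (inv_mem hv)
  exact ⟨c, hc, _, this, v, hv, (h.dec_iff ha this hv).2 ⟨by group, by rw [e, mul_comm]⟩⟩

theorem dec_pow {a u v : G} (ha : a ∈ U) (hu : u ∈ U) (hv : v ∈ U) {α β γ : F} (h1 : α ^ p = α)
    (h2 : β ^ p = β) (h3 : γ ^ p = γ) (e : (S α) * a * (S β) = u * (S γ) * v) :
    (S α) * a ^ p * (S β) = u ^ p * (S γ) * v ^ p := by
  obtain ⟨e1, e2⟩ := (h.dec_iff ha hu hv).1 e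
  refine (h.dec_iff (pow_mem ha p) (pow_mem hu p) (pow_mem hv p)).2
    ⟨by rw [e1, (h.commute hu hv).mul_pow], ?_⟩
  have := congrArg (· ^ p) e2
  simp only [add_pow_char, mul_pow, h1, h2, h3] at this
  rw [h.phi_pow ha, h.phi_pow hv, this]

/-- Step 2. -/
theorem step2 {a : G} (ha : a ∈ U) {α β : F} (h1 : α ^ p = α) (h2 : β ^ p = β)
    (e : (S α) * a * (S β) ∈ U) : α = 0 ∨ a = 1 ∧ α + β = 0 := by
  have := ((h.dec_iff ha e (one_mem U) (α := α) (β := β) (γ := 0)).1 (by rw [S_zero, mul_one, mul_one])).2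
  rw [mul_zero] at this
  refine (eq_or_ne α 0).imp_right fun a0 => ?_
  have e1 : a = 1 := h.eq_one_of_pow ha (mul_right_cancel₀ a0 (by
    have e := congrArg (· ^ p) this
    simp only [add_pow_char, mul_pow, h1, h2, zero_pow hp.out.ne_zero] at e
    linear_combination e - this))
  rw [e1, h.phi_one, one_mul] at this
  exact ⟨e1, this⟩

theorem normQ' {c : F} (hc : c ^ p = c) : (S c) ∈ normalizer (Q : Set G) :=
  zpowers_le.2 h.normQ (S_mem hc)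

theorem normU' {c : F} (hc : c ^ p = c) : y⁻¹ * (S c) * y ∈ normalizer (U : Set G) := by
  obtain ⟨k, rfl⟩ := exists_cast_of_pow_eq hc
  have := pow_mem h.normU k
  rwa [show y⁻¹ * (S (1 : F)) * y = y⁻¹ * (S (1 : F)) * y⁻¹⁻¹ by rw [inv_inv], conj_pow, inv_inv,
    ← S_nat] at this

theorem eq_zero_of_norm {c : F} (hc : c ^ p = c) (e : (S c) ∈ normalizer (U : Set G)) : c = 0 := by
  obtain ⟨⟨u, hu⟩, u1⟩ := (ne_bot_iff_exists_ne_one).1 h.ne_bot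
  refine (h.step2 hu hc (β := -c) (fx_neg hc) ?_).resolve_right
    fun a => u1 (Subtype.ext a.1)
  rw [S_neg]
  exact (mem_normalizer_iff.1 e u).1 hu

omit hp [CharP F p] in
theorem eq_one_of_mem_Q {x : G} (hx : x ∈ Q) {k : ℕ} (e : x ^ p ^ k = 1) : x = 1 :=
  orderOf_eq_one_iff.1 (Nat.eq_one_of_dvd_coprimes (h.copQ.pow_right k)
    (Subgroup.orderOf_dvd_natCard Q hx) (orderOf_dvd_of_pow_eq_one e))

/-- Step 3. -/
theorem step3 [Finite G] {c : F} (hc : c ^ p = c) (c0 : c ≠ 0) {a b : F} {u v : G} (hu : u ∈ U)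
    (hv : v ∈ U) (e : (y⁻¹ * (S c) * y) * ((S a) * u) = (S b) * v * (y⁻¹ * (S c) * y)) :
    a = 0 := by
  by_contra a0
  have tU := h.normU' hc
  obtain ⟨t, ht⟩ : ∃ t, t = y⁻¹ * (S c) * y := ⟨_, rfl⟩
  rw [← ht] at e tU
  have UP : U ≤ normalizer (σ.range : Set G) := fun w hw =>
    inv_mem_iff.1 (mem_normalizer_fintype (by
      rintro _ ⟨x, rfl⟩
      exact ⟨_, by rw [inv_inv]; exact (h.act w hw x.toAdd).symm⟩))
  have H : ∀ z : F, t * (S z) * t⁻¹ ∈ σ.range ⊔ U := by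
    have a1 : t * (S a) * t⁻¹ ∈ σ.range ⊔ U := by
      rw [show t * (S a) * t⁻¹ = (S b) * v * (t * u⁻¹ * t⁻¹) by
        rw [← mul_inv_eq_iff_eq_mul] at e; rw [← e]; group]
      exact mul_mem (mul_mem (mem_sup_left ⟨_, rfl⟩) (mem_sup_right hv))
        (mem_sup_right ((mem_normalizer_iff.1 tU _).1 (inv_mem hu)))
    intro z
    obtain ⟨d, hd, w, hw, e⟩ := h.dec (z / a)
    obtain ⟨k, rfl⟩ := exists_cast_of_pow_eq hd
    have : t * (S z) * t⁻¹ = ((t * w⁻¹ * t⁻¹) * (t * (S a) * t⁻¹) * (t * w * t⁻¹)) ^ k := by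
      rw [show (t * w⁻¹ * t⁻¹) * (t * (S a) * t⁻¹) * (t * w * t⁻¹) = t * (w⁻¹ * (S a) * w) * t⁻¹ by
        group, h.act w hw, conj_pow, ← map_pow, ← ofAdd_nsmul, nsmul_eq_mul, ← mul_assoc, ← e,
        div_mul_cancel₀ _ a0]
    rw [this]
    exact pow_mem (mul_mem (mul_mem (mem_sup_right ((mem_normalizer_iff.1 tU _).1 (inv_mem hw))) a1)
      (mem_sup_right ((mem_normalizer_iff.1 tU _).1 hw))) k
  have tP : t ∈ normalizer (σ.range : Set G) := mem_normalizer_fintype (by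
    rintro _ ⟨x, rfl⟩
    have := H x.toAdd
    rw [← SetLike.mem_coe, coe_mul_of_right_le_normalizer_left _ _ UP] at this
    obtain ⟨z, hz, w, hw, e⟩ := this
    have e : z * w = t * σ x * t⁻¹ := e
    have := mul_pow_mul_inv_mem hz (UP hw) p
    rw [e, conj_pow, show σ x ^ p = 1 from S_pow x.toAdd, mul_one, mul_inv_cancel, one_mul] at this
    obtain ⟨r, hr⟩ := inv_mem_iff.1 this
    have r0 := h.eq_zero_of_mem (a := r.toAdd) (by
      show σ r ∈ U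
      rw [hr]; exact pow_mem hw p)
    have : φ w ^ p = 1 := by
      rw [← h.phi_pow hw, ← hr, show r = 1 from r0, map_one, h.phi_one]
    have : w = 1 := h.eq_one hw (frobenius_inj F p (by rw [map_one]; exact this))
    rw [← e, this, mul_one]
    exact hz)
  have q1 : (S c)⁻¹ * t ∈ Q := by
    rw [ht, ← mul_assoc, ← mul_assoc]
    exact mul_mem ((mem_normalizer_iff''.1 (h.normQ' hc) _).1 (inv_mem h.mem)) h.mem
  have := mul_pow_mul_inv_mem (inv_mem (show (S c) ∈ σ.range from ⟨_, rfl⟩)) tP p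
  rw [show t ^ p = 1 by
    rw [ht, show y⁻¹ * (S c) * y = y⁻¹ * (S c) * y⁻¹⁻¹ by rw [inv_inv], conj_pow, S_pow]; group,
    inv_one, mul_one] at this
  obtain ⟨r, hr⟩ := this
  have := h.eq_one_of_mem_Q q1 (k := 2) (by rw [sq, pow_mul, ← hr]; exact S_pow r.toAdd)
  exact c0 (h.eq_zero_of_norm hc (by rw [inv_mul_eq_one.1 this]; exact tU))

theorem memQ {c : F} (hc : c ^ p = c) {x : G} (hx : x ∈ Q) : (S c)⁻¹ * x * (S c) ∈ Q :=
  (mem_normalizer_iff''.1 (h.normQ' hc) _).1 hx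

omit hp [CharP F p] in
theorem commQ {x z : G} (hx : x ∈ Q) (hz : z ∈ Q) : x * z = z * x :=
  Solv.isMulCommutative_iff.1 h.comm x hx z hz

theorem main_eq {t a b u₁ v₁ u₂ v₂ u₃ v₃ s₁ s₂ s₃ : G} (ht : t = y⁻¹ * (S (1 : F)) * y)
    (ha : a ∈ U) (hb : b ∈ U) (hab : φ a + φ b = 2)
    (e1 : (S (1 : F)) * ((t ^ 3)⁻¹ * a⁻¹ * t ^ 3) * (S (-2 : F)) = u₁ * s₁ * v₁)
    (e2 : (S (3 : F)) * ((t ^ 2)⁻¹ * (a * b⁻¹) * t ^ 2) * (S (-1 : F)) = u₂ * s₂ * v₂)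
    (e3 : (S (2 : F)) * (t⁻¹ * b * t) * (S (-3 : F)) = u₃ * s₃ * v₃) :
    t * s₂⁻¹ * t = (t * v₂ * t⁻¹ * u₃) * s₃ * (v₃ * (t ^ 2 * u₁ * (t ^ 2)⁻¹)) * t ^ 2 * s₁ *
      (v₁ * (t⁻¹ * u₂ * t)) := by
  have e0 : a⁻¹ * (S (1 : F)) * a * (b⁻¹ * (S (1 : F)) * b) = S (2 : F) := by
    rw [h.act a ha, h.act b hb, ← S_add, mul_one, mul_one, hab]
  have q : ∀ k : ℕ, ((S (1 : F)) ^ k)⁻¹ * t ^ k ∈ Q := fun k => by
    rw [ht, show y⁻¹ * (S (1 : F)) * y = y⁻¹ * (S (1 : F)) * y⁻¹⁻¹ by rw [inv_inv], conj_pow,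
      ← S_nat, ← mul_assoc, ← mul_assoc]
    exact mul_mem (h.memQ (fx_nat k) (inv_mem h.mem)) (inv_mem (inv_mem h.mem))
  have c1 := h.commQ (inv_mem (q 3)) (q 2)
  have c2 := h.commQ (inv_mem (q 2)) (q 1)
  have c3 := h.commQ (inv_mem (q 1)) (q 3)
  rw [S_neg, S_two] at e1
  rw [S_neg, S_three] at e2
  rw [S_neg, S_two, S_three] at e3
  rw [S_two] at e0
  clear q ht
  generalize (S (1 : F)) = s at *
  have : (s * ((t ^ 3)⁻¹ * a⁻¹ * t ^ 3) * (s ^ 2)⁻¹) * t⁻¹ *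
      (s ^ 3 * ((t ^ 2)⁻¹ * (a * b⁻¹) * t ^ 2) * s⁻¹) * t⁻¹ *
      (s ^ 2 * (t⁻¹ * b * t) * (s ^ 3)⁻¹) * t ^ 2 = 1 := by
    calc _ = s * ((t ^ 3)⁻¹ * a⁻¹ * t ^ 3) * ((s ^ 2)⁻¹ * t ^ 2 * ((s ^ 3)⁻¹ * t ^ 3)⁻¹) *
        ((t ^ 2)⁻¹ * (a * b⁻¹) * t ^ 2) * ((s ^ 1)⁻¹ * t ^ 1 * ((s ^ 2)⁻¹ * t ^ 2)⁻¹) *
        (t⁻¹ * b * t) * ((s ^ 3)⁻¹ * t ^ 3 * ((s ^ 1)⁻¹ * t ^ 1)⁻¹) * s⁻¹ := by group
      _ = s * (t ^ 3)⁻¹ * (a⁻¹ * s * a * (b⁻¹ * s * b)) * (s ^ 2)⁻¹ * t ^ 3 * s⁻¹ := by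
        rw [← c1, ← c2, ← c3]; group
      _ = 1 := by rw [e0]; group
  rw [e1, e2, e3] at this
  calc t * s₂⁻¹ * t = t * s₂⁻¹ * (u₁ * s₁ * v₁ * t⁻¹ * u₂)⁻¹ * (u₁ * s₁ * v₁ * t⁻¹ * (u₂ * s₂ * v₂) *
      t⁻¹ * (u₃ * s₃ * v₃) * t ^ 2) * (u₁ * s₁ * v₁ * t⁻¹ * u₂) * t * (t⁻¹ * s₂ * t) *
      (t⁻¹ * s₂⁻¹ * t) := by rw [this]; group
    _ = _ := by group

theorem final [Finite G] {c₁ c₂ c₃ : F} (h1 : c₁ ^ p = c₁) (h2 : c₂ ^ p = c₂) (h3 : c₃ ^ p = c₃)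
    (n1 : c₁ ≠ 0) {t : G} (ht : t = y⁻¹ * (S (1 : F)) * y)
    (e : t * (S c₂)⁻¹ * t = (S c₃) * t ^ 2 * (S c₁)) : c₁ = -1 := by
  have f1 : (1 : F) ^ p = 1 := one_pow p
  obtain ⟨Y, hY⟩ : ∃ Y : F → G, Y = fun c => (S c)⁻¹ * y * (S c) := ⟨_, rfl⟩
  have YQ : ∀ {c}, c ^ p = c → Y c ∈ Q := fun hc => hY ▸ h.memQ hc h.mem
  have key : (S (2 + (c₁ + (-1 + (c₂ + (-1 + c₃)))))) * ((Y (2 + (c₁ + (-1 + (c₂ + (-1 + c₃))))))⁻¹ *
      Y (c₁ + (-1 + (c₂ + (-1 + c₃)))) * (Y (-1 + (c₂ + (-1 + c₃))))⁻¹ * Y (c₂ + (-1 + c₃)) *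
      (Y (-1 + c₃))⁻¹ * Y c₃) = 1 := by
    calc _ = (S c₃)⁻¹ * ((S c₃) * t ^ 2 * (S c₁)) * (t * (S c₂)⁻¹ * t)⁻¹ * (S c₃) := by
          rw [show t ^ 2 = y⁻¹ * (S (1 : F)) ^ 2 * y by rw [ht, sq, sq]; group]
          simp only [hY, ht, S_add, S_neg, S_two]; group
      _ = 1 := by rw [← e]; group
  have m1 := fx_neg f1
  have k1 := fx_add m1 h3
  have k2 := fx_add h2 k1
  have k3 := fx_add m1 k2
  have k4 := fx_add h1 k3
  have k5 := fx_add fx_two k4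
  have d0 : 2 + (c₁ + (-1 + (c₂ + (-1 + c₃)))) = 0 := h.S_eq_one.1 (h.eq_one_of_mem_Q (k := 1) (by
    rw [mul_eq_one_iff_eq_inv.1 key]
    exact inv_mem (mul_mem (mul_mem (mul_mem (mul_mem (mul_mem (inv_mem (YQ k5)) (YQ k4))
      (inv_mem (YQ k3))) (YQ k2)) (inv_mem (YQ k1))) (YQ h3))) (by rw [pow_one, S_pow]))
  rw [d0, S_zero, one_mul, show c₁ + (-1 + (c₂ + (-1 + c₃))) = -1 + -1 by linear_combination d0,
    show -1 + (c₂ + (-1 + c₃)) = -1 + -c₁ + -1 by linear_combination d0,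
    show c₂ + (-1 + c₃) = -1 + -c₁ by linear_combination d0, add_comm (-1) c₃] at key
  have sh : ∀ c, (S (1 : F)) * Y c * (S (1 : F))⁻¹ = Y (c + -1) := fun c => by
    simp only [hY, S_add, S_neg]; group
  have f0 : (0 : F) ^ p = 0 := zero_pow hp.out.ne_zero
  have j1 := fx_add m1 (fx_neg h1)
  have cm : ∀ {c}, c ^ p = c → (Y 0)⁻¹ * Y c ∈ ⁅Q, zpowers (S (1 : F))⁆ := fun {c} hc => by
    have := commutator_mem_commutator (inv_mem h.mem) (inv_mem (S_mem (σ := σ) hc))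
    convert this using 1
    simp only [hY, S_zero, commutatorElement_def]; group
  have z1 : ((Y 0)⁻¹ * Y c₃) * ((Y 0)⁻¹ * Y (-1))⁻¹ * ((Y 0)⁻¹ * Y (-1 + -c₁)) = 1 := by
    refine mem_bot.1 ((Solv.coprime_abelian_inf_eq_bot h.comm (zpowers_le.2 h.normQ) ?_).le
      (mem_inf.2 ⟨mem_inf.2 ⟨?_, ?_⟩, mul_mem (mul_mem (cm h3) (inv_mem (cm m1))) (cm j1)⟩))
    · rw [Nat.card_zpowers]
      exact (h.copQ.symm.coprime_dvd_left (orderOf_dvd_of_pow_eq_one (S_pow 1)))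
    · exact mul_mem (mul_mem (mul_mem (inv_mem (YQ f0)) (YQ h3))
        (inv_mem (mul_mem (inv_mem (YQ f0)) (YQ m1)))) (mul_mem (inv_mem (YQ f0)) (YQ j1))
    · rw [zpowers_eq_closure, centralizer_closure, Subgroup.mem_centralizer_singleton_iff, eq_comm,
        ← mul_inv_eq_iff_eq_mul]
      calc _ = ((S (1 : F)) * Y 0 * (S (1 : F))⁻¹)⁻¹ * ((S (1 : F)) * Y c₃ * (S (1 : F))⁻¹) *
          (((S (1 : F)) * Y 0 * (S (1 : F))⁻¹)⁻¹ * ((S (1 : F)) * Y (-1) * (S (1 : F))⁻¹))⁻¹ *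
          (((S (1 : F)) * Y 0 * (S (1 : F))⁻¹)⁻¹ * ((S (1 : F)) * Y (-1 + -c₁) * (S (1 : F))⁻¹)) := by
            group
        _ = _ := ?_
      simp only [sh, zero_add]
      have a0 := YQ f0
      have a1 := YQ m1
      have a2 := YQ (fx_add m1 m1)
      have a3 := YQ (fx_add j1 m1)
      have a4 := YQ j1
      have a5 := YQ (fx_add h3 m1)
      have a6 := YQ h3
      generalize Y 0 = x0, Y (-1) = x1, Y (-1 + -1) = x2, Y (-1 + -c₁ + -1) = x3, Y (-1 + -c₁) = x4,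
        Y (c₃ + -1) = x5, Y c₃ = x6 at *
      lift x0 to Q using a0
      lift x1 to Q using a1
      lift x2 to Q using a2
      lift x3 to Q using a3
      lift x4 to Q using a4
      lift x5 to Q using a5
      lift x6 to Q using a6
      have := h.comm
      let _ : CommGroup Q := { (inferInstance : Group Q) with mul_comm := h.comm.is_comm.comm }
      norm_cast at key ⊢
      apply Additive.ofMul.injective
      have key := congrArg Additive.ofMul key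
      simp only [ofMul_mul, ofMul_inv, ofMul_one] at key ⊢
      rw [← sub_eq_zero, ← neg_eq_zero, ← key]
      abel
  have E : (S c₃) * (y⁻¹ * (S (c₁ + 1)) * y) = (y⁻¹ * (S (c₃ + 1)) * y) * (S c₁) := by
    have c1 := h.commQ (inv_mem (YQ h3)) (YQ m1)
    have c2 := h.commQ (YQ f0) (mul_mem (YQ m1) (inv_mem (YQ h3)))
    have : (Y 0)⁻¹ * Y (-1 + -c₁) = (Y c₃)⁻¹ * Y (-1) := by
      rw [eq_inv_of_mul_eq_one_right z1, c1]
      calc _ = (Y 0)⁻¹ * (Y (-1) * (Y c₃)⁻¹ * Y 0) := by group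
        _ = _ := by rw [← c2]; group
    simp only [hY, S_add, S_neg, S_zero] at this ⊢
    calc _ = (S c₃) * ((1⁻¹ * y * 1)⁻¹ * (((S (1 : F))⁻¹ * (S c₁)⁻¹)⁻¹ * y *
        ((S (1 : F))⁻¹ * (S c₁)⁻¹))) * ((S c₁) * (S (1 : F))) := by group
      _ = _ := by rw [this, S_comm c₁ 1]; group
  obtain ⟨⟨u, hu⟩, u1⟩ := (ne_bot_iff_exists_ne_one).1 h.ne_bot
  have t1 := h.normU' (fx_add h1 f1)
  by_cases c0 : c₃ + 1 = 0
  · rw [c0, S_zero, mul_one, inv_mul_cancel, one_mul, ← eq_inv_mul_iff_mul_eq, ← S_neg,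
      ← S_add] at E
    rw [E] at t1
    linear_combination h.eq_zero_of_norm (fx_add (fx_neg h3) h1) t1 + c0
  · have u' := (mem_normalizer_iff.1 t1 u).1 hu
    have := h.step3 (fx_add h3 f1) c0 (a := c₁ - φ u⁻¹ * c₁) 
      (b := c₃ - φ (y⁻¹ * (S (c₁ + 1)) * y * u * (y⁻¹ * (S (c₁ + 1)) * y)⁻¹)⁻¹ * c₃) hu u' ?_
    · refine absurd (Subtype.ext (inv_eq_one.1 (h.eq_one (inv_mem hu) ?_))) u1
      exact mul_right_cancel₀ n1 (by linear_combination -this)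
    · rw [sub_eq_add_neg, sub_eq_add_neg, S_add c₁ (-_), S_add c₃ (-_), S_neg, S_neg,
        ← h.act _ (inv_mem hu), ← h.act _ (inv_mem u'), eq_mul_inv_of_mul_eq E.symm]
      group

/-- Lemma C.3, one step. -/
theorem step4 [Finite G] {a b : G} (ha : a ∈ U) (hb : b ∈ U) (hab : φ a + φ b = 2) {t : G}
    (ht : t = y⁻¹ * (S (1 : F)) * y) : ∃ v ∈ U, φ ((t ^ 3)⁻¹ * a⁻¹ * t ^ 3) + φ v = 2 := by
  have f1 : (1 : F) ^ p = 1 := one_pow p
  have tU : t ∈ normalizer (U : Set G) := ht ▸ h.normU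
  have cj : ∀ {g u : G}, g ∈ normalizer (U : Set G) → u ∈ U → g * u * g⁻¹ ∈ U := fun hg hu =>
    (mem_normalizer_iff.1 hg _).1 hu
  have cj' : ∀ {g u : G}, g ∈ normalizer (U : Set G) → u ∈ U → g⁻¹ * u * g ∈ U := fun hg hu =>
    (mem_normalizer_iff''.1 hg _).1 hu
  have cp : ∀ g u : G, (g⁻¹ * u * g) ^ p = g⁻¹ * u ^ p * g := fun g u => by
    simpa using conj_pow (a := g⁻¹) (b := u) (i := p)
  have mp : ∀ {u v : G}, u ∈ U → v ∈ U → (u * v) ^ p = u ^ p * v ^ p := fun hu hv =>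
    (h.commute hu hv).mul_pow p
  have hA := cj' (pow_mem tU 3) (inv_mem ha)
  have hB := cj' (pow_mem tU 2) (mul_mem ha (inv_mem hb))
  have hC := cj' tU hb
  obtain ⟨c₁, f₁, u₁, hu₁, v₁, hv₁, e1⟩ := h.dec_exists hA 1 (-2)
  obtain ⟨c₂, f₂, u₂, hu₂, v₂, hv₂, e2⟩ := h.dec_exists hB 3 (-1)
  obtain ⟨c₃, f₃, u₃, hu₃, v₃, hv₃, e3⟩ := h.dec_exists hC 2 (-3)
  have n1 : c₁ ≠ 0 := by
    rintro rfl
    rcases h.step2 hA f1 (fx_neg fx_two) (by
      rw [e1, S_zero, mul_one]; exact mul_mem hu₁ hv₁) with a | ⟨-, a⟩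
    · exact one_ne_zero a
    · exact one_ne_zero (α := F) (by linear_combination -a)
  have n3 : c₃ ≠ 0 := by
    rintro rfl
    rcases h.step2 hC fx_two (fx_neg fx_three) (by
      rw [e3, S_zero, mul_one]; exact mul_mem hu₃ hv₃) with a | ⟨-, a⟩
    · exact h.two a
    · exact one_ne_zero (α := F) (by linear_combination -a)
  have E1 := h.main_eq ht ha hb hab e1 e2 e3
  have e1' := h.dec_pow hA hu₁ hv₁ f1 (fx_neg fx_two) f₁ e1
  have e2' := h.dec_pow hB hu₂ hv₂ fx_three (fx_neg f1) f₂ e2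
  have e3' := h.dec_pow hC hu₃ hv₃ fx_two (fx_neg fx_three) f₃ e3
  rw [cp, inv_pow a] at e1'
  rw [cp, mp ha (inv_mem hb), inv_pow b] at e2'
  rw [cp] at e3'
  have E2 := h.main_eq ht (pow_mem ha p) (pow_mem hb p) (by
    rw [h.phi_pow ha, h.phi_pow hb, ← add_pow_char, hab, fx_two]) e1' e2' e3'
  have w1 := mul_mem (cj tU hv₂) hu₃
  have w2 := mul_mem hv₃ (cj (pow_mem tU 2) hu₁)
  have w3 := mul_mem hv₁ (cj' tU hu₂)
  rw [← conj_pow, ← mp (cj tU hv₂) hu₃, ← conj_pow (b := u₁), ← mp hv₃ (cj (pow_mem tU 2) hu₁),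
    ← cp, ← mp hv₁ (cj' tU hu₂)] at E2
  generalize t * v₂ * t⁻¹ * u₃ = w₁, v₃ * (t ^ 2 * u₁ * (t ^ 2)⁻¹) = w₂,
    v₁ * (t⁻¹ * u₂ * t) = w₃ at E1 E2 w1 w2 w3
  have E := E1.symm.trans E2
  have r1 := mul_mem (inv_mem w1) (pow_mem w1 p)
  have r2 := mul_mem (inv_mem w2) (pow_mem w2 p)
  have r3 := mul_mem w3 (inv_mem (pow_mem w3 p))
  have t2 : t ^ 2 = y⁻¹ * (S (2 : F)) * y := by rw [ht, S_two, sq, sq]; group
  have E3 : t ^ 2 * ((S c₁) * (w₃ * (w₃ ^ p)⁻¹) * (S (-c₁))) =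
      w₂⁻¹ * ((S (-c₃)) * (w₁⁻¹ * w₁ ^ p) * (S c₃)) * w₂ ^ p * t ^ 2 := by
    rw [S_neg, S_neg]
    calc _ = w₂⁻¹ * (S c₃)⁻¹ * w₁⁻¹ * (w₁ * (S c₃) * w₂ * t ^ 2 * (S c₁) * w₃) * (w₃ ^ p)⁻¹ *
        (S c₁)⁻¹ := by group
      _ = _ := by rw [E]; group
  have sw : ∀ {u : G} (c : F), u ∈ U → (S c) * u * (S (-c)) = (S (c - φ u⁻¹ * c)) * u :=
    fun {u} c hu => by
      rw [sub_eq_add_neg, S_add, S_neg, S_neg, ← h.act _ (inv_mem hu)]; group
  have a3 : w₃ = 1 := by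
    have := h.step3 fx_two h.two (a := c₁ - φ (w₃ * (w₃ ^ p)⁻¹)⁻¹ * c₁)
      (b := φ w₂ * (-c₃ - φ (w₁⁻¹ * w₁ ^ p)⁻¹ * -c₃)) r3
      (mul_mem (mul_mem (inv_mem w2) r1) (pow_mem w2 p)) (by
        have := sw (-c₃) r1
        rw [neg_neg] at this
        rw [← t2, ← sw c₁ r3, E3, this, ← h.act _ w2]; group)
    have := h.eq_one (inv_mem r3) (mul_right_cancel₀ n1 (by linear_combination -this))
    exact h.eq_one_of_pow' w3 (mul_inv_eq_one.1 (inv_eq_one.1 this)).symm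
  subst a3
  rw [one_pow, inv_one, mul_one, mul_one, ← S_add, add_neg_cancel, S_zero, mul_one,
    eq_comm, mul_eq_right, mul_assoc, inv_mul_eq_one, ← mul_inv_eq_iff_eq_mul] at E3
  have a1 : w₁ = 1 := by
    rcases h.step2 r1 (fx_neg f₃) f₃ (E3 ▸ mul_mem w2 (inv_mem (pow_mem w2 p))) with a | ⟨a, -⟩
    · exact absurd (neg_eq_zero.1 a) n3
    · exact h.eq_one_of_pow' w1 (inv_mul_eq_one.1 a).symm
  subst a1
  rw [one_pow, mul_one, inv_one, mul_one, ← S_add, neg_add_cancel, S_zero, mul_inv_eq_one] at E3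
  obtain rfl := h.eq_one_of_pow' w2 E3.symm
  rw [one_mul, mul_one, mul_one] at E1
  obtain rfl := h.final f₁ f₂ f₃ n1 ht E1
  exact ⟨v₁, hv₁, by linear_combination ((h.dec_iff hA hu₁ hv₁).1 e1).2⟩

/-- Lemma C.3. -/
theorem inv [Finite G] {a b : G} (ha : a ∈ U) (hb : b ∈ U) (hab : φ a + φ b = 2) :
    ∃ v ∈ U, φ a⁻¹ + φ v = 2 := by
  obtain ⟨t, ht⟩ : ∃ t, t = y⁻¹ * (S (1 : F)) * y := ⟨_, rfl⟩
  have tU : t ∈ normalizer (U : Set G) := ht ▸ h.normU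
  have key : ∀ k : ℕ, ∃ v ∈ U, φ (((t ^ 3) ^ k)⁻¹ * a ^ (-1 : ℤ) ^ k * (t ^ 3) ^ k) + φ v = 2 := by
    intro k
    induction k with
    | zero => exact ⟨b, hb, by simpa using hab⟩
    | succ k ih =>
      obtain ⟨v, hv, e⟩ := ih
      obtain ⟨w, hw, e⟩ := h.step4 ((mem_normalizer_iff''.1 (pow_mem (pow_mem tU 3) k) _).1
        (zpow_mem ha _)) hv e ht
      refine ⟨w, hw, ?_⟩
      rw [← e, pow_succ, pow_succ (-1 : ℤ), mul_neg_one, zpow_neg]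
      congr 2
      generalize t ^ 3 = r
      group
  have odd : Odd p := hp.out.odd_of_ne_two fun e => h.two (by
    subst e; exact_mod_cast CharP.cast_eq_zero F 2)
  have := key p
  rwa [odd.neg_one_pow, ← pow_mul, mul_comm, pow_mul, show t ^ p = 1 by
    rw [ht, show y⁻¹ * (S (1 : F)) * y = y⁻¹ * (S (1 : F)) * y⁻¹⁻¹ by rw [inv_inv], conj_pow,
      S_pow]; group, one_pow, inv_one, one_mul, mul_one, zpow_neg_one] at this

end Cfg

/-- Theorem C. -/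
theorem theoremC [Finite G] (p q : ℕ) [hp : Fact p.Prime] [hq : Fact q.Prime]
    (hA : Nat.Coprime ((p ^ q - 1) / (p - 1)) (p - 1))
    (F : Type*) [Field F] [Fintype F] (hF : Fintype.card F = p ^ q) (P U Q : Subgroup G)
    (f ψ : G → F) (hf : Set.BijOn f (P : Set G) Set.univ)
    (hfadd : ∀ x ∈ P, ∀ z ∈ P, f (x * z) = f x + f z) (hUP : U ≤ normalizer (P : Set G))
    (hψ : ∀ u ∈ U, ψ u ≠ 0 ∧ ∀ x ∈ P, f (u * x * u⁻¹) = ψ u * f x)
    (hψmul : ∀ u ∈ U, ∀ v ∈ U, ψ (u * v) = ψ u * ψ v) (hψinj : Set.InjOn ψ (U : Set G))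
    (hUcard : Nat.card U * (p - 1) = p ^ q - 1) (hQ : IsMulCommutative Q)
    (hQp : (Nat.card Q).Coprime p) (hP0Q : ∀ x ∈ P, f x ^ p = f x → x ∈ normalizer (Q : Set G))
    (y : G) (hy : y ∈ Q) (hP0U : ∀ x ∈ P, f x ^ p = f x → y * x * y⁻¹ ∈ normalizer (U : Set G)) :
    p ≤ q := by
  classical
  by_cases hp2 : p = 2
  · exact hp2 ▸ hq.out.two_le
  have p1 : 0 < p - 1 := Nat.sub_pos_of_lt hp.out.one_lt
  have hq2 : q ≠ 2 := by
    rintro rfl
    rw [geom hp.out] at hA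
    obtain ⟨k, hk⟩ := hp.out.odd_of_ne_two hp2
    have := Nat.eq_one_of_dvd_coprimes hA (k := 2) ⟨k + 1, by simp [Finset.sum_range_succ]; omega⟩
      ⟨k, by omega⟩
    omega
  have : CharP F p := charP_of_card_eq_prime_pow hF
  obtain ⟨n, hn⟩ : ∃ n, n = (p ^ q - 1) / (p - 1) := ⟨_, rfl⟩
  have nm : n * (p - 1) = p ^ q - 1 := hn ▸ geom_mul hp.out q
  have hU : Nat.card U = n := Nat.eq_of_mul_eq_mul_right p1 (hUcard.trans nm.symm)
  choose g g1 g2 using fun z : F => hf.surjOn (Set.mem_univ z)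
  have gi : ∀ x ∈ P, g (f x) = x := fun x hx => hf.injOn (g1 _) hx (g2 _)
  let σ : Multiplicative F →* G := MonoidHom.mk' (fun z => g z.toAdd) fun a b =>
    hf.injOn (g1 _) (mul_mem (g1 _) (g1 _)) (by rw [hfadd _ (g1 _) _ (g1 _), g2, g2, g2, toAdd_mul])
  let φ : U →* Fˣ := MonoidHom.mk' (fun u => Units.mk0 (ψ u.1⁻¹) (hψ _ (inv_mem u.2)).1) fun a b =>
    Units.ext (by
      simp only [Units.val_mk0, Units.val_mul, coe_mul, mul_inv_rev]
      rw [hψmul _ (inv_mem b.2) _ (inv_mem a.2), mul_comm])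
  have φi : Function.Injective φ := fun a b e =>
    Subtype.ext (inv_injective (hψinj (inv_mem a.2) (inv_mem b.2) (congrArg Units.val e)))
  have φr : φ.range = (powMonoidHom n : Fˣ →* Fˣ).ker := by
    refine eq_of_le_of_card_ge ?_ ?_
    · rintro _ ⟨u, rfl⟩
      rw [MonoidHom.mem_ker, powMonoidHom_apply, ← map_pow, ← hU, pow_card_eq_one', map_one]
    · rw [hn, card_ker_pow hp.out hF, ← hn, ← hU]
      exact (Nat.card_congr (MonoidHom.ofInjective φi).toEquiv).le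
  have sj : ∀ x : F, x ^ n = 1 → ∃ u ∈ U, ψ u⁻¹ = x := fun x hx => by
    have x0 : x ≠ 0 := by
      rintro rfl
      rw [zero_pow (hU ▸ Nat.card_pos.ne')] at hx
      exact zero_ne_one hx
    obtain ⟨u, e⟩ : Units.mk0 x x0 ∈ φ.range := φr ▸ Units.ext (by simpa using hx)
    exact ⟨u, u.2, congrArg Units.val e⟩
  have pw : ∀ u ∈ U, ψ u⁻¹ ^ n = 1 := fun u hu => by
    have : φ ⟨u, hu⟩ ∈ (powMonoidHom n : Fˣ →* Fˣ).ker := φr ▸ ⟨_, rfl⟩
    exact (Units.val_pow_eq_pow_val _ _).symm.trans (congrArg Units.val this)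
  obtain ⟨a, a1, a2, a3⟩ := exists_ne_one hF hp2 hq.out hq2
  rw [← hn] at a2 a3 hA
  have h : Cfg p n σ (fun u => ψ u⁻¹) U Q y⁻¹ :=
    { inj := fun a b e => Multiplicative.toAdd.injective ((g2 _).symm.trans
        ((congrArg f e).trans (g2 _)))
      act := fun u hu x => by
        have := (hψ _ (inv_mem hu)).2 _ (g1 x)
        rw [g2, inv_inv] at this
        exact (gi _ ((mem_normalizer_iff''.1 (hUP hu) _).1 (g1 x))).symm.trans (congrArg g this)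
      mul := fun u hu v hv => by
        rw [mul_inv_rev, hψmul _ (inv_mem hv) _ (inv_mem hu), mul_comm]
      injOn := fun u hu v hv e => inv_injective (hψinj (inv_mem hu) (inv_mem hv) e)
      pow := pw
      cop := hA
      dec := fun z => by
        by_cases z0 : z = 0
        · exact ⟨0, zero_pow hp.out.ne_zero, 1, one_mem _, by rw [z0, zero_mul]⟩
        have zc : z ^ (n * (p - 1)) = 1 := by
          rw [nm, ← hF]; exact FiniteField.pow_card_sub_one_eq_one z z0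
        obtain ⟨k, k1, k2⟩ := Nat.chineseRemainder hA 1 0
        obtain ⟨l, rfl⟩ := Nat.modEq_zero_iff_dvd.1 k2
        obtain ⟨v, hv, e⟩ := sj (z ^ ((p - 1) * l)) (by
          rw [← pow_mul, show (p - 1) * l * n = n * (p - 1) * l by ring, pow_mul, zc, one_pow])
        refine ⟨z / z ^ ((p - 1) * l), ?_, v, hv, by
          rw [e, div_mul_cancel₀ _ (pow_ne_zero _ z0)]⟩
        have : z ^ ((p - 1) * l * (p - 1)) = z ^ (1 * (p - 1)) :=
          pow_eq_pow_of_modEq (k1.mul_right' _) zc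
        conv_lhs => rw [← Nat.sub_add_cancel hp.out.one_le, pow_succ]
        rw [div_pow, Nat.sub_add_cancel hp.out.one_le, ← pow_mul, this, one_mul,
          div_self (pow_ne_zero _ z0), one_mul]
      ne_bot := by
        rintro rfl
        obtain ⟨u, rfl, e⟩ := sj a a2
        obtain ⟨v, rfl, e'⟩ := sj 1 (one_pow n)
        exact a1 (e.symm.trans e')
      comm := hQ
      copQ := hQp
      normQ := hP0Q (g 1) (g1 _) (by rw [g2]; exact one_pow p)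
      mem := inv_mem hy
      normU := by
        rw [inv_inv]
        exact hP0U (g 1) (g1 _) (by rw [g2]; exact one_pow p)
      two := fun e => hp2 ((Nat.prime_dvd_prime_iff_eq hp.out Nat.prime_two).1
        ((CharP.cast_eq_zero_iff F p 2).1 e)) }
  refine le_of_inv hq.out.pos hn (fun x x1 x2 => ?_) a1 a2 a3
  obtain ⟨u, hu, rfl⟩ := sj x x1
  obtain ⟨v, hv, e⟩ := sj _ x2
  obtain ⟨w, hw, e⟩ := h.inv hu hv (by rw [e]; ring)
  have := h.mul u hu _ (inv_mem hu)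
  rw [mul_inv_cancel, h.phi_one] at this
  rw [← eq_inv_of_mul_eq_one_right this.symm, ← eq_sub_of_add_eq' e]
  exact pw w hw

end Cfsg.Agent.AppC
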