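import Cfsg.Agent.Lib.Comp.Bal
import Cfsg.Agent.Lib.Comp.Loc
import Cfsg.Prelude.Def_Balance

/-! The extended `2`-layer. -/

namespace Cfsg.Agent.Comp

open Subgroup

universe u

variable {G : Type u} [Group G] [Finite G]

theorem extendedTwoLayer_le_iff {X : Subgroup G} : extendedTwoLayer G ≤ X ↔ pLayer 2 G ⊔ oddCore G ≤ X ∧
    ∀ T, SylIn 2 T (pLayer 2 G ⊔ pPrimePCore 2 G) → Opp 2 (centralizer (T : Set G)) ≤ X := by
  rw [extendedTwoLayer, sup_le_iff, iSup_le_iff]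
  refine and_congr_right fun _ => ⟨fun h T hT => ?_, fun h T => ?_⟩
  · have := h hT.toSylow
    rwa [hT.map_toSylow, map_pPrimeCore] at this
  · rw [map_pPrimeCore]; exact h _ (sylIn_sylow T)

theorem extendedTwoLayer_eq {T : Subgroup G} (hT : SylIn 2 T (pLayer 2 G ⊔ pPrimePCore 2 G)) :
    extendedTwoLayer G = pLayer 2 G ⊔ oddCore G ⊔ Opp 2 (centralizer (T : Set G)) := by
  refine le_antisymm (extendedTwoLayer_le_iff.2 ⟨le_sup_left, fun T' hT' => ?_⟩)
    (sup_le (extendedTwoLayer_le_iff.1 le_rfl).1 ((extendedTwoLayer_le_iff.1 le_rfl).2 T hT))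
  obtain ⟨g, hg, rfl⟩ := hT.exists_cj_eq hT'
  have h1 : pLayer 2 G ⊔ pPrimePCore 2 G ≤ (pLayer 2 G ⊔ oddCore G) ⊔ T := by
    refine sup_le (le_sup_left.trans le_sup_left) ?_
    have := (hT.inf_normal le_sup_right (le_normalizer_normal _ T))
    rw [← Oppp_top] at this ⊢
    rw [← this.Opp_sup_eq_Oppp, Opp_top]
    exact sup_le_sup le_sup_right inf_le_left
  obtain ⟨a, ha, s, hs, rfl⟩ := (mem_sup_of_le_normalizer' (le_normalizer_normal _ T)).1 (h1 hg)
  rw [cj_mul, cj_eq_self_of_mem hs, ← cj_centralizer, ← cj_Opp]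
  exact cj_le_of_mem le_sup_right (le_normalizer (mem_sup_left ha))

theorem extendedTwoLayer_normal : (extendedTwoLayer G).Normal := by
  obtain ⟨T, hT⟩ := exists_sylIn 2 (pLayer 2 G ⊔ pPrimePCore 2 G)
  refine normal_iff_cj.2 fun g => ?_
  conv_rhs => rw [extendedTwoLayer_eq (hT.cj_of_mem (le_normalizer_normal _ ⊤ (mem_top g)))]
  rw [extendedTwoLayer_eq hT, cj_sup, cj_eq_self_of_normal, cj_Opp, cj_centralizer]

end Cfsg.Agent.Comp
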