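import Cfsg.Agent.Lib.FT.Grp12
import Cfsg.Agent.Lib.Char.Sec12
/-! Peterfalvi, Section 12: maximal subgroups of type I are Frobenius groups. -/
set_option autoImplicit false
set_option linter.unusedSectionVars false
set_option linter.unusedVariables false
namespace Cfsg.Agent.PF
open Subgroup Cfsg.Agent.Transfer Cfsg.Agent.MS
open Cfsg.Agent.Char hiding cj
universe u
variable {G : Type u} [Group G] [Fintype G] [BG16 G] {M L N : Subgroup G} {x k g u : G}
  {Y : G → ℂ} {ν : (L → ℂ) →ₗ[ℂ] (G → ℂ)} {ζ : L → ℂ}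

theorem odd_subI (M : Subgroup G) : Odd (Nat.card M) := odd_card_sub FT.odd_G M

theorem memA1_I (hM : IsCoatom M) (h : IsOfTypeI M) : x ∈ typeA1 M ↔ x ∈ MF M ∧ x ≠ 1 := by
  rw [memA1, core_I hM h]

theorem d7_I (hM : IsCoatom M) (h : IsOfTypeI M) :
    D7 (typeA1 M) M (supportR M) (dH M) (tau M) :=
  d7_of_restrict (dade0 hM) (FT.A1_sub_A0 hM) fun x => by
    rw [memA1_I hM h]; simp [mem_subgroupOf]

theorem isoOn_I (hM : IsCoatom M) (h : IsOfTypeI M) : IsoOn (indD (dH M) (dH M) ⊥) (tau M) :=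
  (d7_I hM h).isoOn.mono indD_subset_indT

theorem tau_ind (hM : IsCoatom M) {α : M → ℂ} (hα : IsClassFunction M α)
    (h : ∀ x : M, α x ≠ 0 → (x : G) ∈ typeA0 M ∧ C1 (x : G) ≤ M) : tau M α = indFun M α :=
  FT.tau_eq_ind hM hα h

theorem dH_ne_bot (hM : IsCoatom M) : dH M ≠ ⊥ := mt (FT.sub_eq_bot (MF_le M)).1 (MF_ne_bot hM)

/-- (12.6) -/
theorem sec12_6 (hM : IsCoatom M) (h : IsOfTypeI M) (hf : Frob M) :
    Coh (indD (dH M) (dH M) ⊥) (tau M) := by
  have fr := frobMod_of_frob hf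
  have nil : Group.IsNilpotent (dH M) := FT.sub_nil (MF_le M) (MF_nil M)
  obtain ⟨R, sys⟩ := (isoOn_I hM h).exists_cohSys_irr (fun _ => fr.irr) (fun _ => conj_mem_indD)
    fun _ => conj_ne_of_mem_indD (odd_subI M)
  rcases I_cases hM h hf with a | a | a
  · refine (sibley_frob (odd_subI M) nil (fun x hx x1 y hy g e =>
      a x hx (by simpa using x1) g (e ▸ hy)) fr).congr fun α hα h1 => ?_
    have hα := Submodule.span_mono indD_subset_indT hα
    refine tau_ind hM (isClassFunction_of_mem_span_indT hα) fun x hx => ?_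
    have b : (x : G) ∈ typeA1 M := by_contra fun n =>
      hx ((d7_I hM h).supp (fun _ => eq_zero_of_mem_span_indT hα) h1 x n)
    have c := (memA1_I hM h).1 b
    refine ⟨FT.A1_sub_A0 hM b, fun g hg => a x c.1 c.2 g ?_⟩
    rw [mem_C1.1 hg, mul_inv_cancel_right]; exact c.1
  · refine sys.coh_indD_of_commutator_le ?_
    rw [FT.sub_comm (MF_le M) (MF_le M), (commutator_eq_bot_iff_le_centralizer.2
      (le_centralizer_iff_isMulCommutative.2 a)), bot_subgroupOf]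
  · rcases sys.coh_or_chief inferInstance (odd_subI M) (bot_lt_iff_ne_bot.2 (dH_ne_bot hM))
      (Group.nilpotent_of_surjective _ (MonoidHom.subgroupMap_surjective _ _))
      (fr.of_le bot_le (sup_le (commutator_le_self' _) bot_le)) with c | ⟨-, -, -, p, m, hp, e, n⟩
    · exact c
    · rw [relIndex_bot_left, FT.card_sub (MF_le M)] at e
      refine (n (a p hp (e ▸ dvd_pow_self p ?_))).elim
      rintro rfl
      exact MF_ne_bot hM (card_eq_one.1 (e.trans (pow_zero p)))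

theorem exists_c7_I (hM : IsCoatom M) (h : IsOfTypeI M) (hf : Frob M) :
    ∃ ν ζ, C7 (typeA1 M) M (supportR M) (dH M) (tau M) ν ζ := by
  have nil : Group.IsNilpotent (dH M) := FT.sub_nil (MF_le M) (MF_nil M)
  obtain ⟨ν, hν⟩ := sec12_6 hM h hf
  obtain ⟨ζ, h2, h3⟩ := exists_mem_indD_index (K := dH M) (H := dH M) (M := ⊥) le_rfl bot_le
    (not_le_commutator_sup inferInstance (bot_lt_iff_ne_bot.2 (dH_ne_bot hM)))
  exact ⟨ν, ζ, d7_I hM h, hν, h2, (frobMod_of_frob hf).irr h2, h3, odd_subI M⟩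

theorem tyI (hM : IsCoatom M) (h : IsOfTypeI M) : TyI (dH M) := by
  have k : ∀ x : M, (∃ k ∈ dH M, k ≠ 1 ∧ x * k = k * x) → MF M ⊓ C1 (x : G) ≠ ⊥ :=
    fun x ⟨k, a, b, c⟩ e => b (Subtype.ext (mem_bot.1 (e.le ⟨a, mem_C1.2 (congrArg Subtype.val c).symm⟩)))
  refine ⟨odd_subI M, ?_, fun x y a b => I_comm hM h x.2 y.2 (k x a) (k y b)⟩
  rw [FT.card_sub (MF_le M)]
  exact (MF_hallG hM).symm.coprime_dvd_left (relIndex_dvd_index_of_le (MF_le M))

theorem irrN_zero (h : IsOfTypeI M) {φ : M → ℂ} (a : φ ∈ irrN (dH M)) (x : M) (x1 : x ≠ 1)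
    (hx : (x : G) ∉ typeA0 M) : φ x = 0 :=
  a.1.eq_zero_of_fpf a.2 fun k hk e => by_contra fun k1 => hx (A_sub_A0 ((memA_I h).2
    ⟨x.2, by simpa using x1, k, hk, by simpa using k1, congrArg Subtype.val e⟩))

theorem isoOn_irrN (hM : IsCoatom M) (h : IsOfTypeI M) : IsoOn (irrN (dH M)) (tau M) :=
  (dade0 hM).isoOn (fun _ a => a.1.isCharacter) fun _ => irrN_zero h

/-- (12.3) -/
theorem orth_I (c : C7 (typeA1 L) L (supportR L) (dH L) (tau L) ν ζ) (hL : IsCoatom L)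
    (hN : IsCoatom N) (h : IsOfTypeI N) (n : ¬ CJ L N) :
    ∀ χ ∈ indD (dH N) (dH N) ⊥, classInner (tau N (χ - conjFun χ)) (ν ζ) = 0 := fun χ a => by
  have e : (χ - conjFun χ) 1 = 0 := sub_eq_zero.2 (isCharacter_of_mem_indD a).conjFun_one.symm
  refine ((isoOn_I hN h).gen _ (sub_mem_span a (conj_mem_indD a)) e).classInner_eq_zero c.isDirr.isGen
    (c.rip_nu_of_conj (fun g hg => (d7_I hN h).tau_eq_zero (sub_mem_span (indD_subset_indT a)
      (indD_subset_indT (conj_mem_indD a))) e (Set.disjoint_left.1 (til1_disjoint hL hN n) hg))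
      ?_ c.mem_S c.irr)
  rw [← (d7_I hN h).cj, ← map_neg, conjFun_sub, conjFun_conjFun, neg_sub]

/-- (12.4) -/
theorem const_I (hN : IsCoatom N) (h : IsOfTypeI N) (hY : IsDirr G Y)
    (h0 : ∀ χ ∈ indD (dH N) (dH N) ⊥, classInner (tau N (χ - conjFun χ)) Y = 0)
    (hx : x ∈ N) (hx' : x ∉ MF N) (hk : k ∈ MF N) : Y (k * x) = Y x := by
  refine (tyI hN h).const_coset (hY.isClassFunction.res N) (fun φ a φ' b e => ?_)
    (x := ⟨x, hx⟩) (k := ⟨k, MF_le N hk⟩) hx' hk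
  have := ((tyI hN h).orth (isoOn_irrN hN h) (isoOn_I hN h) hY h0).1 φ a φ' b (e 1 (one_mem _))
  rwa [tau_ind hN (a.1.isClassFunction.sub b.1.isClassFunction) fun y hy => ?_,
    frobenius_left _ _ hY.isClassFunction, classInner_eq_zero_comm, classInner_sub_right,
    sub_eq_zero] at this
  have n : y ∉ dH N := fun m => hy (sub_eq_zero.2 (e y m))
  have m : (y : G) ∈ typeA0 N := by_contra fun m => hy (by
    have y1 : y ≠ 1 := fun z => n (z ▸ one_mem _)
    rw [Pi.sub_apply, irrN_zero h a y y1 m, irrN_zero h b y y1 m, sub_zero])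
  exact ⟨m, FT.C1_le_of_not_A1 hN m fun z => n ((memA1_I hN h).1 z).1⟩

/-- (12.15), first part -/
theorem const_R (c : C7 (typeA1 L) L (supportR L) (dH L) (tau L) ν ζ) (hL : IsCoatom L)
    (fL : Frob L) (hM : IsCoatom M) (nM : ¬ Frob M) (hg : g ∈ typeA1 M)
    (hu : u ∈ supportR M g) : ν ζ (g * u) = ν ζ g := by
  by_cases h : C1 g ≤ M
  · rw [R_eq_bot h, mem_bot] at hu
    rw [hu, mul_one]
  obtain ⟨N, s⟩ := exists_supp hM (FT.A1_sub_A0 hM hg) h
  have tN := s.ty.resolve_right fun t => nM (s.frob t)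
  rw [s.R_eq] at hu
  rw [← mem_C1.1 hu.2]
  exact const_I s.max tN c.isDirr (orth_I c hL s.max tN fun e =>
    s.notA1 (A_frob s.max tN (frob_CJ e fL) ▸ s.memA)) (FT.A_spec s.memA).1
    (fun e => s.notA1 ((memA1_I s.max tN).2 ⟨e, hg.2⟩)) hu.1

/-- (12.5), (12.15) -/
theorem exists_int_I (hM : IsCoatom M) (h : IsOfTypeI M) (hY : IsDirr G Y)
    (h0 : ∀ χ ∈ indD (dH M) (dH M) ⊥, classInner (tau M (χ - conjFun χ)) Y = 0)
    (h1 : ∀ g ∈ typeA1 M, ∀ u ∈ supportR M g, Y (g * u) = Y g) :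
    ∃ c : ℤ, ∀ g ∈ MF M, g ∉ ⁅MF M, MF M⁆ → Y g = c := by
  obtain ⟨c, hc⟩ := exists_int_off_commutator ((hY.isGen.res M).res (dH M))
    fun θ θ' a a' n n' e => by
      have m := ind_mem_indD a (kerOn_bot θ) (mt (kerOn_self_iff a).1 n)
      have m' := ind_mem_indD a' (kerOn_bot θ') (mt (kerOn_self_iff a').1 n')
      have e' : indFun (dH M) θ 1 = indFun (dH M) θ' 1 := by rw [indFun_one, indFun_one, e]
      have s := sub_mem_span (R := ℂ) (indD_subset_indT m) (indD_subset_indT m')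
      have := ((tyI hM h).orth (isoOn_irrN hM h) (isoOn_I hM h) hY h0).2 _ m _ m' e'
      rwa [(d7_I hM h).eq_span s (sub_eq_zero.2 e'), (dade1 hM).reciprocity_res
        (isClassFunction_of_mem_span_indT s) ((d7_I hM h).supp (fun _ => eq_zero_of_mem_span_indT s)
          (sub_eq_zero.2 e')) hY.isClassFunction h1, ← indFun_sub,
        frobenius_left _ _ (hY.isClassFunction.res M), classInner_eq_zero_comm,
        classInner_sub_right, sub_eq_zero] at this
  refine ⟨c, fun g a b => hc ⟨⟨g, MF_le M a⟩, a⟩ ?_⟩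
  rwa [← commutator_subgroupOf, FT.sub_comm (MF_le M) (MF_le M)]

theorem int_eq_zero_12 {a : ℤ} {e h : ℝ} (he : 3 ≤ e) (hh : (2 * e - 1) ^ 2 ≤ h)
    (H : 0 ≤ e - 1 + 2 * a - a ^ 2 * ((h - 1) / e)) : a = 0 := by
  by_contra n
  have a1 : (1 : ℝ) ≤ a ^ 2 := one_le_sq_of_ne ⟨a, rfl⟩ (by exact_mod_cast n)
  have a2 := int_le_sq a
  have : 4 * (e - 1) ≤ (h - 1) / e := by rw [le_div_iff₀ (by linarith)]; nlinarith
  nlinarith

/-- (12.7) -/
theorem sec12_7
    (h11 : ∀ L W₁ U W₂ : Subgroup G, IsCoatom L → T345 L → TP L W₁ U W₂ → U ≠ ⊥ ∧ IsCyclic U)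
    (hM : IsCoatom M) (h : IsOfTypeI M) : Frob M := by
  by_contra hf
  obtain ⟨p, M, L, x, hp, hM, tM, nM, hL, tL, fL, n, s, ox, nle, LM, he, hh⟩ :=
    sec12_group h11 ⟨M, hM, h, hf⟩
  obtain ⟨ν, ζ, c⟩ := exists_c7_I hL tL fL
  have o := orth_I c hL hM tM n
  have cR := fun g hg u hu => const_R (g := g) (u := u) c hL fL hM nM hg hu
  obtain ⟨k, hk⟩ := exists_int_I hM tM c.isDirr o cR
  have xL := (memA1_I hL tL).1 s.memA1
  have c4 : ∀ y ∈ MF M ⊓ C1 x, ν ζ (x * y) = ν ζ x := fun y hy => by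
    rw [← mem_C1.1 hy.2]
    exact const_I hM tM c.isDirr o (FT.A_spec s.memA).1
      (fun e => s.notA1 ((memA1_I hM tM).2 ⟨e, xL.2⟩)) hy.1
  have cH : #(dH L) = #(MF L) := FT.card_sub (MF_le L)
  have e3 : 3 ≤ (dH L).index := by
    have a := odd_index (odd_subI L) (dH L)
    have b : (dH L).index ≠ 1 := fun e =>
      (MF_lt hL).not_ge (subgroupOf_eq_top.1 (index_eq_one.1 e))
    obtain ⟨m, hm⟩ := a
    omega
  have e3' : (3 : ℝ) ≤ (dH L).index := by exact_mod_cast e3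
  have he' : 2 * ((dH L).index : ℝ) ≤ p + 1 := by exact_mod_cast he
  have hh' : (p : ℝ) ^ 2 ≤ #(dH L) := by rw [cH]; exact_mod_cast hh
  -- (12.14)
  have a0 : rip (ν (indFun (dH L) fun _ => 1)) (ν ζ) = 0 := by
    obtain ⟨a, ha⟩ := c.exists_int
    have := c.gamma_le' (Y := 0) (by simp) (by simp) (by simp)
    rw [ha, rip_zero_left] at this
    rw [ha, int_eq_zero_12 e3' (le_trans (by nlinarith) hh') this, Int.cast_zero]
  have r := c.rho_zeta (x := ⟨x, MF_le L xL.1⟩) xL.1 (by simpa using xL.2)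
  rw [dadeRho_of_mem _ _ s.memA1, avg_congr (f' := fun _ => ν ζ x) (s.R_eq ▸ c4), avg_const, a0,
    Complex.ofReal_zero, add_zero] at r
  -- (12.16)
  obtain ⟨g, g1, g2⟩ := SetLike.not_le_iff_exists.1 nle
  have ε := Complex.isPrimitiveRoot_exp p hp.ne_zero
  have xp : x ^ p = 1 := ox ▸ pow_orderOf_eq_one x
  obtain ⟨ω, w1, w2⟩ := c.isDirr.isGen.exists_sub_eq_mul (mem_C1.1 g1.2).symm xp ε hp.ne_zero
  obtain ⟨ω', w1', w2'⟩ := c.irr.isGen.exists_sub_eq_mul (Commute.one_right ⟨x, MF_le L xL.1⟩)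
    (Subtype.ext xp) ε hp.ne_zero
  rw [c4 g g1, hk g g1.1 g2, r] at w2
  rw [mul_one, c.one] at w2'
  obtain ⟨j, hj⟩ := prime_dvd_of_eq_one_sub_mul (k := 1) (n := k - (dH L).index) hp
    (by rw [pow_one]; exact ε.pow_eq_one) (w1'.sub w1) (by push_cast; linear_combination w2' - w2)
  have k2 : (((dH L).index : ℝ) - 1) ^ 2 ≤ k ^ 2 := by
    have hj' : (k : ℝ) = (dH L).index + p * j := by exact_mod_cast sub_eq_iff_eq_add'.1 hj
    have p0 : (0 : ℝ) ≤ p := p.cast_nonneg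
    rcases le_or_gt 0 j with a | a
    · have : (0 : ℝ) ≤ j := by exact_mod_cast a
      have := mul_nonneg p0 this
      nlinarith
    · have : (j : ℝ) ≤ -1 := by exact_mod_cast Int.le_sub_one_of_lt a
      have := mul_le_mul_of_nonneg_left this p0
      nlinarith
  have n1 := nrm_add_le (til1_disjoint hL hM n) (ν ζ)
  have n2 := c.le_nrm (by
    have : 2 * ((dH L).index : ℝ) + 1 ≤ #(dH L) := by nlinarith
    exact_mod_cast this)
  have n3 := (dade1 hM).nrm_dadeSupp c.isDirr.isClassFunction cR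
  have sub : ((⁅MF M, MF M⁆ : Subgroup G).subgroupOf M : Set M) ⊆ dH M :=
    fun y hy => commutator_le_self' (MF M) hy
  have n4 : nrm ((dH M : Set M) \ (⁅MF M, MF M⁆ : Subgroup G).subgroupOf M) (fun y => ν ζ y) ≤
      nrm {y : M | (y : G) ∈ typeA1 M} fun y => ν ζ y := by
    refine nrm_mono ?_ _
    exact fun y hy => (memA1_I hM tM).2 ⟨hy.1, fun e => hy.2 (by
      rw [show y = 1 from Subtype.ext e]; exact one_mem _)⟩
  rw [nrm_of_eq (c := k) (fun y hy => by exact hk y hy.1 hy.2), Complex.norm_intCast, sq_abs] at n4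
  have c1 : _ + #((⁅MF M, MF M⁆ : Subgroup G).subgroupOf M) = #(dH M) :=
    Set.ncard_sdiff_add_ncard_of_subset sub
  rw [FT.card_sub (MF_le M), FT.card_sub ((commutator_le_self' _).trans (MF_le M))] at c1
  have c2 := card_mul_relIndex (commutator_le_self' (MF M))
  have c3 := I_five_le hM tM
  have c5 := (isComplIn_iff (nn_MF' inf_le_right)).1 s.compl
  have c6 := card_sup_l (nn_MF' inf_le_right) c5.2
  rw [c5.1] at c6
  have c7 : #(L ⊓ M : Subgroup G) ≤ #(dH L) := cH ▸ card_le_of_le LM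
  generalize Set.ncard _ = d at n4 c1
  have c8 : 4 * #M ≤ 5 * d * #(dH L) := by
    have : 4 * #(MF M) ≤ 5 * d := by nlinarith
    rw [c6, ← mul_assoc]
    exact Nat.mul_le_mul this c7
  have c9 : 4 * (#M : ℝ) ≤ 5 * d * #(dH L) := by exact_mod_cast c8
  have m0 : (0 : ℝ) < #M := by exact_mod_cast card_pos' M
  have h0 : (0 : ℝ) < #(dH L) := by exact_mod_cast card_pos' (dH L)
  have c10 : 4 / 5 / (#(dH L) : ℝ) ≤ d / #M := by rw [div_le_div_iff₀ h0 m0]; linarith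
  rw [c.isDirr.rip_self] at n1
  have f : (k : ℝ) ^ 2 * (4 / 5 / #(dH L)) ≤ (dH L).index / #(dH L) := by
    have := mul_le_mul_of_nonneg_left c10 (sq_nonneg (k : ℝ))
    unfold til at n1
    linarith
  rw [← mul_div_assoc, div_le_div_iff_of_pos_right h0] at f
  nlinarith

end Cfsg.Agent.PF
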