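import Cfsg.Agent.Lib.FT.Sec8D
import Cfsg.Agent.Lib.Solv.Frob2
/-! The group-theoretic steps of Peterfalvi's Sections 13 and 14. -/
set_option autoImplicit false
set_option linter.unusedSectionVars false
set_option linter.unusedVariables false
namespace Cfsg.Agent.PF
open Subgroup Cfsg.Agent.Transfer Cfsg.Agent.MS
open Cfsg.Agent.Char hiding cj
universe u
variable {G : Type u} [Group G] [Fintype G] {M L S T W₁ W₂ U V : Subgroup G} {x y g : G} {p q r : ℕ}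

theorem cmod_bot (hU : U ≤ S) : U.subgroupOf S ⊓ cmod (dH S) ⊥ = (U ⊓ CC (MF S)).subgroupOf S := by
  rw [FT.sub_cmod_bot (MF_le S), FT.sub_inf']

/-- in a solvable Frobenius complement of odd order the subgroups of prime order are normal -/
theorem prime_nn_of_reg {H E X : Subgroup G} (h : Reg H E) (hn : E ≤ NN H) (h0 : H ≠ ⊥)
    (hs : Group.IsSolvable E) (ho : Odd #E) (hX : X ≤ E) (hp : (#X).Prime) : E ≤ NN X := by
  have cy : ∀ A ≤ E, Group.IsNilpotent A → IsCyclic A := fun A a b => nil_cyc b (odd_mono ho a)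
    fun ⟨r, hr, B, c⟩ => by
      have := Fact.mk hr
      exact c.not_cyc (Solv.isCyclic_of_fpf_of_abelian ((c.le.trans a).trans hn)
        (h.mono le_rfl (c.le.trans a)) h0 c.ab)
  refine cyc_nn (cy _ (F_le E) (F_nil E)) (le_trans (le_inf hX (cc_symm (F_le_of_O fun r hr d => ?_)))
    (cc_F_le hs)) (by nrm)
  have := Fact.mk hr
  have n : X ≤ NN (O {r} E) := by nrm
  by_cases e : #X = r
  · exact ab_le_cc (ab_of_cyc (cy _ (sup_le (O_le _ E) hX)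
      (nil_of_pg (pg_sup_l (O_pg E) (pg_of_card e) n)))) le_sup_left le_sup_right
  have c := cy _ (O_le {r} E) (nil_of_pg (O_pg E))
  have d' : r ∣ #(O {r} E) := O1_F (p := r) E ▸ (nil_hall (F_nil E) {r}).dvd hr rfl d
  have k := omega_cyc c d'
  have n' : X ≤ NN (omegaOne r (O {r} E)) := by nrm
  have l := (omega_le r _).trans (O_le {r} E)
  have := Solv.isCyclic_of_fpf_of_card_mul_primes ((sup_le l hX).trans hn) (h.mono le_rfl (sup_le l hX))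
    h0 hr hp (by rw [card_sup_l n' (inf_of_coprime (by rw [k]; exact (Nat.coprime_primes hr hp).2 (Ne.symm e))), k])
  exact cc_symm (cop_cyc (O_pg E) c n (pi_of_card rfl hp e) fun b => prime_ne_bot (k ▸ hr)
    (le_bot_iff.1 (b ▸ le_inf (omega_le _ _) (ab_le_cc (ab_of_cyc this) le_sup_left le_sup_right))))

theorem tp_hall_U (h : TP M W₁ U W₂) : Hall ({p | p ∣ #(MF M)}ᶜ ∩ {p | p ∣ #W₁}ᶜ) U M :=
  (((MF_hall M).mono h.H_le (der_le M)).compl (nn_MF' h.U_le) h.H_sup h.H_inf).trans' h.hall_der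

namespace Half
variable (hS : Half S W₁ U W₂ p q)
include hS
theorem ne : p ≠ q := fun e => hS.primep.one_lt.ne' (by
  have := hS.tp.cop_W; rwa [hS.cq, hS.cp, ← e, Nat.coprime_self] at this)
theorem pg : IsPGroup p (MF S) := IsPGroup.of_card hS.card
theorem ab : IsMulCommutative (MF S) := hS.elem.1
theorem dvd : p ∣ #(MF S) := hS.card ▸ dvd_pow_self p hS.primeq.ne_zero
theorem not_sq_dvd : ¬ q ^ 2 ∣ #S := fun d => by
  have c := hS.tp.cop_W₁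
  rw [hS.tp.card_M, hS.cq] at d
  rw [hS.cq] at c
  have := Nat.le_of_dvd hS.primeq.pos ((c.pow_left 2).dvd_of_dvd_mul_left d)
  have := hS.primeq.two_le
  nlinarith
theorem le_C1 (hx : x ∈ F S) : MF S ≤ C1 x :=
  le_C1_iff.2 ((hS.tp.F_eq.le.trans (sup_le (ab_cc hS.ab) inf_le_right)) hx)
theorem memA0 [BG16 G] (hx : x ∈ MF S) (h1 : x ≠ 1) : x ∈ typeA0 S :=
  FT.A1_sub_A0 hS.max ⟨FT.MF_le_core S hx, h1⟩
theorem nn_le [BG16 G] {X : Subgroup G} (hX : X ≤ MF S) (h0 : X ≠ ⊥) : NN X ≤ S := fun g hg => by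
  obtain ⟨x, hx, x1⟩ := exists_ne_one h0
  exact FT.mem_of_conj_A0 hS.max (hS.memA0 (hX hx) x1) (hS.ti x (hS.memA0 (hX hx) x1))
    (hS.memA0 (hX (conj_mem_of_mem_normalizer hg hx)) (mt conj_eq_one_iff.1 x1))
/-- last step of (13.12): `P C` is a normal nilpotent Hall subgroup -/
theorem c_eq_one (h : (#(U ⊓ CC (MF S) : Subgroup G)).Coprime ((U ⊓ CC (MF S)).relIndex U)) :
    U ⊓ CC (MF S) = ⊥ := by
  refine eq_bot_of_le hS.tp.H_inf (le_MF ((hall_of_coprime inf_le_left h).trans' (tp_hall_U hS.tp)) ?_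
    (nil_of_ab (ab_mono hS.abU inf_le_left))) inf_le_left
  conv_lhs => rw [← hS.tp.H_sup_UW]
  exact sup_le (nn_of_cc (cc_symm inf_le_right)) (sup_le (ab_nn hS.abU le_rfl inf_le_left)
    (nn_inf hS.tp.U_normal (nn_cc (nn_MF' hS.tp.W₁_le))))
/-- in case (9.7.b) with `C = 1`, `P U` is a Frobenius group and `U` is cyclic -/
theorem reg (hB : CaseB (dH S) (U.subgroupOf S) ⊥ (tf hS.tp) p q)
    (hC : U ⊓ CC (MF S) = ⊥) : Reg (MF S) U ∧ IsCyclic U := by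
  obtain ⟨K, _, _, φ, ψ, -, -, -, a, b, -, c, -⟩ := hB.field
  have : Reg (MF S) U := fun u hu u1 => eq_bot_iff.2 fun x hx => by
    have e := (b ⟨u, hS.tp.U_le hu⟩ hu).2 ⟨x, MF_le S hx.1⟩ hx.1
    have : (⟨u, hS.tp.U_le hu⟩ * ⟨x, MF_le S hx.1⟩ * ⟨u, hS.tp.U_le hu⟩⁻¹ : S) = ⟨x, MF_le S hx.1⟩ :=
      Subtype.ext (conj_eq_of_C1 (mem_C1_comm.1 hx.2))
    rw [this] at e
    rcases mul_left_eq_self₀.1 e.symm with e | e
    · rw [c _ hu, FT.sub_cmod_bot (MF_le S)] at e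
      exact absurd (eq_one_of_inf hC hu e) u1
    · simpa using (a _ hx.1).1 e
  exact ⟨this, Solv.isCyclic_of_fpf_of_abelian (nn_MF' hS.tp.U_le) this hS.tp.H_ne hS.abU⟩
end Half

/-- (14.7) and Appendix C -/
theorem sec14_7 (hS : Half S W₁ U W₂ p q) (hT : Half T W₂ V W₁ q p)
    (hB : CaseB (dH S) (U.subgroupOf S) ⊥ (tf hS.tp) p q) (hC : U ⊓ CC (MF S) = ⊥)
    (hu : #U = (p ^ q - 1) / (p - 1)) (hy : y ∈ MF T) (h1 : cj y W₂ ≤ NN U) : p ≤ q := by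
  classical
  obtain ⟨K, _, _, φ, ψ, a1, a2, a3, a4, a5, a6, a7, a8⟩ := hB.field
  have c := hB.cop
  rw [cmod_bot hS.tp.U_le, hC, bot_subgroupOf, relIndex_bot_left, FT.card_sub hS.tp.U_le, hu] at c
  have := Fact.mk hS.primep
  have := Fact.mk hS.primeq
  have P := MF_le S
  have Ul := hS.tp.U_le
  have w : ∀ x (h : x ∈ MF S), φ ⟨x, P h⟩ ^ p = φ ⟨x, P h⟩ → x ∈ W₂ := fun x h e => by
    obtain ⟨b, e⟩ := (a8 _ h).1 e
    have : x = 1 * b := congrArg Subtype.val (mul_inv_eq_one.1 (mem_bot.1 e))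
    rw [this, one_mul]; exact b.2
  refine AppC.theoremC p q c K a1 (MF S) U (MF T) (fun g => if h : g ∈ S then φ ⟨g, h⟩ else 0)
    (fun g => if h : g ∈ S then ψ ⟨g, h⟩ else 0) ⟨fun _ _ => trivial, fun x hx z hz e => ?_, fun t _ => ?_⟩
    (fun x hx z hz => ?_) (nn_MF' Ul) (fun u hu => ⟨?_, fun x hx => ?_⟩) (fun u hu v hv => ?_)
    (fun u hu v hv e => ?_) ?_ hT.ab ?_ (fun x hx e => ?_) y hy fun x hx e => ?_
  all_goals beta_reduce at *
  · rw [dif_pos (P hx), dif_pos (P hz)] at e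
    have k := a3 (⟨x, P hx⟩ * ⟨z, P hz⟩⁻¹) (mul_mem hx (inv_mem hz)) ⟨z, P hz⟩ hz
    rw [inv_mul_cancel_right, e, right_eq_add, a4 _ (mul_mem hx (inv_mem hz))] at k
    simpa [mul_inv_eq_one] using k
  · obtain ⟨x, hx, e⟩ := a2 (Set.mem_univ t)
    exact ⟨x, hx, (dif_pos x.2).trans e⟩
  · rw [dif_pos (P hx), dif_pos (P hz), dif_pos (P (mul_mem hx hz))]
    exact a3 ⟨x, P hx⟩ hx ⟨z, P hz⟩ hz
  · rw [dif_pos (Ul hu)]; exact (a5 ⟨u, Ul hu⟩ hu).1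
  · rw [dif_pos (Ul hu), dif_pos (P hx), dif_pos (mul_mem (mul_mem (Ul hu) (P hx)) (inv_mem (Ul hu)))]
    exact (a5 ⟨u, Ul hu⟩ hu).2 ⟨x, P hx⟩ hx
  · rw [dif_pos (Ul hu), dif_pos (Ul hv), dif_pos (Ul (mul_mem hu hv))]
    exact a6 ⟨u, Ul hu⟩ hu ⟨v, Ul hv⟩ hv
  · rw [dif_pos (Ul hu), dif_pos (Ul hv)] at e
    have k := a6 (⟨u, Ul hu⟩ * ⟨v, Ul hv⟩⁻¹) (mul_mem hu (inv_mem hv)) ⟨v, Ul hv⟩ hv
    rw [inv_mul_cancel_right, e, eq_comm, mul_left_eq_self₀, or_iff_left (a5 ⟨v, Ul hv⟩ hv).1,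
      a7 _ (mul_mem hu (inv_mem hv)), FT.sub_cmod_bot P] at k
    exact mul_inv_eq_one.1 (eq_one_of_inf hC (mul_mem hu (inv_mem hv)) k)
  · rw [hu]; exact Nat.div_mul_cancel (Nat.sub_one_dvd_pow_sub_one p q)
  · rw [hT.card]; exact ((Nat.coprime_primes hS.primeq hS.primep).2 hS.ne.symm).pow_left _
  · rw [dif_pos (P hx)] at e
    exact nn_MF' hT.tp.W₁_le (w x hx e)
  · rw [dif_pos (P hx)] at e
    exact h1 (conj_mem_cj (w x hx e))

variable [BG16 G]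
/-- (13.2.e) for type III, from (12.7) -/
theorem ti_of_frob (h7 : ∀ M : Subgroup G, IsCoatom M → IsOfTypeI M → Frob M) (hM : IsCoatom M)
    (h : TP M W₁ U W₂) (hx : x ∈ typeA0 M) : C1 x ≤ M := by_contra fun k => by
  obtain ⟨L, s⟩ := exists_supp hM hx k
  exact s.ty.elim (fun t => s.notA1 (A_frob s.max t (h7 L s.max t) ▸ s.memA))
    fun t => tp_not_frob h (s.frob t)
/-- in (13.4): `F(S)^#` and `F(T)^#` are not fused -/
theorem Half.F_disjoint (hS : Half S W₁ U W₂ p q) (hT : Half T W₂ V W₁ q p) :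
    Disjoint (ccl {x | x ∈ F S ∧ x ≠ 1}) (ccl {x | x ∈ F T ∧ x ≠ 1}) := by
  rw [Set.disjoint_left]
  rintro g ⟨y, a, -⟩ ⟨z, b, b1⟩
  have c := cj_mono (z * y⁻¹) (hS.le_C1 a)
  rw [cj_centralizer_singleton, show z * y⁻¹ * (y * g * y⁻¹) * (z * y⁻¹)⁻¹ = z * g * z⁻¹ by group] at c
  have d := card_dvd (c.trans (hT.tp.C1_le_of_F hT.max hT.neU b b1))
  rw [card_cj, hS.card] at d
  exact hT.not_sq_dvd ((pow_dvd_pow p hS.primeq.two_le).trans d)
/-- (13.16) -/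
theorem Half.nn_W (hT : Half T W₂ V W₁ q p) (hD : V ⊓ CC (MF T) = ⊥) : NN W₁ = MF T ⊔ W₂ := by
  have t := hT.tp
  have n := hT.nn_le t.W₂_leH t.W₂_ne
  have a : MF T ≤ CC W₁ := ab_le_cc hT.ab le_rfl t.W₂_leH
  have b := t.W_cc
  have nK : W₂ ≤ NN (V ⊓ NN W₁ : Subgroup G) := nn_inf t.U_normal (by nrm)
  have r := t.reg.mono (inf_le_left : V ⊓ NN W₁ ≤ V) le_rfl
  have c : V ⊓ NN W₁ ≤ CC W₁ := by
    rw [← cop_comm_eq nK (r.coprime nK) (sol_of_ab (ab_mono hT.abU inf_le_left)) (r.cc le_rfl t.W₁_ne)]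
    exact (commutator_mono inf_le_right (nn_of_cc b)).trans (der_cc_of_cyc t.W₂_cyc le_rfl)
  have l : V ⊓ NN W₁ ⊔ W₂ ≤ V ⊔ W₂ := sup_le_sup_right inf_le_left _
  have w := FT.frobenius_wielandt nK r (nn_MF' (l.trans (sup_le t.U_le t.W₁_le))) (sol_of_ab hT.ab)
    (coprime_mono t.cop_UW l le_rfl).symm
  have e : MF T ⊓ CC (V ⊓ NN W₁ ⊔ W₂ : Subgroup G) = MF T ⊓ CC W₂ :=
    le_antisymm (inf_le_inf_left _ (cc_anti le_sup_right))
      (le_inf inf_le_left (t.H_cc.le.trans (cc_symm (sup_le c b))))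
  rw [e] at w
  have := eq_of_card_le (inf_le_left : MF T ⊓ CC (V ⊓ NN W₁ : Subgroup G) ≤ _)
    (Nat.eq_of_mul_eq_mul_left (pow_pos (card_pos' _) _) w).le
  have k : V ⊓ NN W₁ = ⊥ := le_bot_iff.1 (hD ▸ le_inf inf_le_left (cc_symm (this.ge.trans inf_le_right)))
  rw [← inf_eq_right.2 n]
  conv_lhs => rw [← t.der_sup, sup_comm, dedekind' (nn_of_cc b) (by have := t.W₁_le; nrm), ← t.H_sup,
    dedekind (nn_of_cc a) (nn_MF' t.U_le), k, sup_bot_eq, sup_comm]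
/-- (13.17) -/
theorem sec13_17 (h : FTPair S T W₁ W₂ U V) (hS : Half S W₁ U W₂ p q) (hT : Half T W₂ V W₁ q p)
    (hC : U ⊓ CC (MF S) = ⊥) (hD : V ⊓ CC (MF T) = ⊥)
    (h7 : ∀ M : Subgroup G, IsCoatom M → IsOfTypeI M → Frob M) (h2 : IsOfTypeII S)
    (hL : IsCoatom L) (hU : NN U ≤ L) :
    IsOfTypeI L ∧ U ≤ MF L ∧ (#(MF L)).Coprime (p * q) ∧
      (((dH L).index = q ∧ MF L ⊔ W₁ = L) ∨
        ((dH L).index = p * q ∧ ∃ y ∈ MF T, cj y W₂ ≤ L)) := by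
  have s := hS.tp
  have := Fact.mk hS.primep
  have := Fact.mk hS.primeq
  have uL := (le_nn U).trans hU
  have nW := s.U_normal
  have wL := nW.trans hU
  have cW := s.reg.cc le_rfl s.W₁_ne
  have hq : ¬ q ∣ #(MF L) := fun d => by
    have a := (MF_hall L).le_of_normal (nn_MF' le_rfl) wL (pi_of_card hS.cq hS.primeq d)
    have b : U ≤ MF L := by
      rw [← cop_comm_eq nW (s.reg.coprime nW) (sol_of_ab hS.abU) cW]
      exact (commutator_mono le_rfl a).trans (comm_le_right (nn_MF' uL))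
    exact hS.neU (eq_bot_of_le cW le_rfl (nil_cc (MF_nil L) b a (s.reg.coprime nW).symm))
  have nS : ¬ CJ S L := fun ⟨g, e⟩ => by
    subst e
    obtain ⟨m, hm, e⟩ := Hall.conj (max_sol hS.max)
      ((tp_hall_U s).of_card (le_cj_iff_cj_inv_le.1 uL) (card_cj _ _)) (tp_hall_U s)
    rw [cj_cj, ← mem_normalizer_iff_cj] at e
    have := cj_eq_of_mem (hU e)
    rw [cj_cj, inv_mul_cancel_right, cj_eq_of_mem hm] at this
    exact (s.of_II h2).2.2.2.2.1 (this ▸ hU)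
  have tI : IsOfTypeI L := (h.all L hL).resolve_right fun k => k.elim nS fun ⟨g, e⟩ =>
    hq (by rw [← e, ← cj_MF, card_cj]; exact hT.dvd)
  have f := h7 L hL tI
  have cq : (#(MF L)).Coprime q := ((Nat.Prime.coprime_iff_not_dvd hS.primeq).2 hq).symm
  have cp : (#(MF L)).Coprime p := (Nat.Coprime.coprime_dvd_left hS.dvd (coprime_mono
    (core_coprime hS.max hL nS) (FT.MF_le_core S) (FT.MF_le_core L))).symm
  have H0 := MF_ne_bot hL
  refine ⟨tI, by_contra fun c => ?_, cp.mul_right cq, ?_⟩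
  · have a : MF L ⊓ U = ⊥ := by_contra fun k => by
      obtain ⟨x, hx, x1⟩ := exists_ne_one k
      exact c ((le_inf uL (le_C1_iff.2 (ab_cc hS.abU hx.2))).trans (f x hx.1 x1))
    have r := FT.Frob.reg f uL a
    have r' := f.reg wL (hS.cq ▸ cq.symm)
    exact H0 (eq_bot_of_le (r.cc le_rfl hS.neU) le_rfl (Solv.frobenius_nilpotent_le_centralizer nW s.reg
      (MF_nil L) (nn_MF' uL) (nn_MF' wL) (r.coprime (nn_MF' uL)) (r'.coprime (nn_MF' wL))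
      (r'.cc le_rfl s.W₁_ne)))
  obtain ⟨E, a, b⟩ := exists_hall_ge (max_sol hL) wL (pi_of_coprime (K := MF L) (hS.cq ▸ cq.symm))
  have r := FT.Frob.reg f a.le ((MF_hall L).pi.inf a.pi)
  have nE := nn_MF' a.le
  have l := prime_nn_of_reg r nE H0 (sol_of_le hL a.le) (odd_sub E) b (hS.cq ▸ hS.primeq)
  rw [hT.nn_W hD] at l
  have i : (dH L).index = #E := Nat.eq_of_mul_eq_mul_left (card_pos' (MF L))
    ((card_mul_relIndex (MF_le L)).trans ((MF_hall L).card_mul a).symm)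
  have nQ := nn_MF' hT.tp.W₁_le
  have iQ : MF T ⊓ W₂ = ⊥ := inf_bot_mono hT.tp.der_inf hT.tp.H_le le_rfl
  have e : MF T ⊓ E = W₁ := by
    have cy := Solv.isCyclic_of_fpf_of_abelian (inf_le_right.trans nE)
      (r.mono le_rfl (inf_le_right : MF T ⊓ E ≤ E)) H0 (ab_mono hT.ab inf_le_left)
    refine (eq_of_card_le (le_inf hT.tp.W₂_leH b) ?_).symm
    exact (card_le_of_not_rk (not_rk2_of_cyc (p := q) cy) le_rfl
      ⟨ab_mono hT.ab inf_le_left, fun z hz => hT.elem.2 z hz.1⟩).trans_eq (by rw [hS.cq, pow_one])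
  have d := relIndex_dvd_of_nn le_sup_left l (l.trans (sup_le (le_nn _) nQ))
  rw [relIndex_sup_l nQ, ← inf_relIndex_right _ W₂, iQ, relIndex_bot_left, hS.cp] at d
  have k := card_mul_relIndex (inf_le_right : MF T ⊓ E ≤ E)
  rw [inf_relIndex_right, e, hS.cq] at k
  rcases (Nat.dvd_prime hS.primep).1 d with d | d
  · have : W₁ = E := eq_of_card_le b (by rw [← k, d, hS.cq, mul_one])
    exact .inl ⟨by rw [i, ← this, hS.cq], this ▸ (MF_hall L).sup a⟩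
  refine .inr ⟨by rw [i, ← k, d, mul_comm], ?_⟩
  obtain ⟨X, c1, c2⟩ := exists_card_eq (H := E) hS.primep (by rw [← k, d]; simp)
  have hW : IsSyl p W₂ (MF T ⊔ W₂) := (Hall.of_sup' (π := {p}) (pi_of_card hS.cp hS.primep rfl)
    (pi_of_pg (π := {p}ᶜ) hT.pg hS.ne.symm) nQ).syl |> (sup_comm W₂ _ ▸ ·)
  obtain ⟨z, hz, c⟩ := (hW.of_card_le (pg_of_card c2) (c1.trans l) (by rw [c2, hS.cp])).exists_cj_eq hW
  obtain ⟨y, hy, w, hw, rfl⟩ := (mem_sup_l nQ).1 hz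
  rw [← cj_cj, cj_eq_of_mem hw] at c
  exact ⟨y, hy, c ▸ c1.trans a.le⟩
/-- in (14.6) -/
theorem sec14_6 (hS : Half S W₁ U W₂ p q) (h2 : IsOfTypeII S) (hL : IsCoatom L) (hf : Frob L)
    (hU : U ≤ MF L) {X : Subgroup G} (hX : X ≤ L) (hp : #X = p) (hc : (#(MF L)).Coprime p)
    (hr : r.Prime) (hx : x ∈ U) (ho : orderOf x = r) (h1 : MF S ⊓ C1 x ≠ ⊥) : p ∣ r ^ 2 - 1 := by
  have := Fact.mk hr
  obtain ⟨a, b, -⟩ := FT.BG16.compl S U hS.max (.inr ⟨h2, hS.tp.U_compl⟩)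
  have z : #(zpowers x) = r := by rw [Nat.card_zpowers, ho]
  have c := (b _ (zpowers_le.2 hx) (prime_ne_bot (z ▸ hr)) (by rwa [cc_zpowers])).le
  have xR := nil_le_O (MF_nil L) (zpowers_le.2 (hU hx)) (pi_of_card z hr (Set.mem_singleton r))
  obtain ⟨R, hR⟩ : ∃ R, R = O {r} (MF L) := ⟨_, rfl⟩
  rw [← hR] at xR
  have pR : IsPGroup r R := hR ▸ O_pg _
  have Z0 : R ⊓ CC R ≠ ⊥ := nil_meet (nil_of_pg pR) le_rfl (le_nn R)
    fun e => prime_ne_bot (z ▸ hr) (le_bot_iff.1 (e ▸ xR))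
  have el := omega_elem (p := r) (ab_center R)
  have l := omega_le r (R ⊓ CC R)
  have n : X ≤ NN (omegaOne r (R ⊓ CC R)) := by rw [hR]; nrm
  have d := ((hf.reg hX (hp ▸ hc.symm)).mono (l.trans (inf_le_left.trans (hR ▸ O_le _ _))) le_rfl).dvd n
  obtain ⟨P, hP⟩ := exists_isSyl r U
  have u := tp_hall_U hS.tp
  have k := card_le_of_not_rk (n := 2) (fun k => (a r hr P hP).2
    ((k.hall u (u.pi r hr (ho ▸ orderOf_dvd hx))).syl hP))
    (l.trans (inf_le_right.trans ((cc_anti xR).trans c))) el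
  obtain ⟨m, e⟩ := elem_exists_el el
  have m0 := omega_ne_bot (pg_dvd (pR.to_le inf_le_left) Z0)
  rw [e.card] at k d
  have := (Nat.pow_le_pow_iff_right hr.one_lt).1 k
  interval_cases m
  · exact absurd (card_eq_one.1 e.card) m0
  · exact hp ▸ d.trans (by simpa using Nat.sub_one_dvd_pow_sub_one r 2)
  · exact hp ▸ d

end Cfsg.Agent.PF
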