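import Cfsg.Agent.Lib.Char.Sec10
import Cfsg.Agent.Lib.FT.Grp13

/-!
Peterfalvi's Section 10 for the maximal subgroups of a minimal simple group of odd order, and (13.2).
-/

set_option autoImplicit false

namespace Cfsg.Agent.PF

open Subgroup Cfsg.Agent.Transfer Cfsg.Agent.MS
open Cfsg.Agent.Char hiding cj

universe u

variable {G : Type u} [Group G] [Fintype G] {M L S T W₁ W₂ U V : Subgroup G} {p q : ℕ} {x g : G}

theorem card_dK (M : Subgroup G) : #(dK M) = #(⁅M, M⁆ : Subgroup G) := FT.card_sub (der_le M)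

theorem card_dH (M : Subgroup G) : #(dH M) = #(MF M) := FT.card_sub (MF_le M)

theorem card_subU (h : TP M W₁ U W₂) : #(U.subgroupOf M) = #U := FT.card_sub h.U_le

theorem nil_dH (M : Subgroup G) : Group.IsNilpotent (dH M) := FT.sub_nil (MF_le M) (MF_nil M)

theorem ccl_sharp_le (M : Subgroup G) :
    nrm (ccl {x | x ∈ MF M ∧ x ≠ 1}) (fun _ => 1) ≤ (#(MF M) - 1) / #M := by
  refine (nrm_ccl_le (X := {x | x ∈ MF M ∧ x ≠ 1}) (N := M) fun n hn x hx =>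
    ⟨(mem_normalizer_iff.1 (nn_MF' le_rfl hn) x).1 hx.1, by simpa using hx.2⟩).trans_eq ?_
  rw [← ncard_sharp (MF M)]; simp

theorem ccl_V_le (h : TP M W₁ U W₂) :
    nrm (ccl (Vset W₁ W₂)) (fun _ => 1) ≤ (#W₁ - 1) * (#W₂ - 1) / (#W₁ * #W₂) := by
  refine (nrm_ccl_le (N := W₁ ⊔ W₂) fun n hn x hx => ?_).trans_eq ?_
  · obtain ⟨a, ha, b, hb, -, -, rfl⟩ := id hx
    rwa [conj_eq_of_cc (ab_cc (ab_of_cyc h.W_cyc) hn) (mul_mem_sup ha hb)]
  · rw [ncard_Vset h, h.card_W, Nat.cast_mul, Nat.cast_mul, Nat.cast_pred (card_pos' _),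
      Nat.cast_pred (card_pos' _)]

theorem Vset_comm (h : TP M W₁ U W₂) : Vset W₂ W₁ = Vset W₁ W₂ := by
  ext x
  constructor
  · rintro ⟨b, hb, a, ha, h1, h2, rfl⟩
    exact ⟨a, ha, b, hb, h2, h1, mem_CC.1 (h.W_cc ha) b hb⟩
  · rintro ⟨a, ha, b, hb, h1, h2, rfl⟩
    exact ⟨b, hb, a, ha, h2, h1, (mem_CC.1 (h.W_cc ha) b hb).symm⟩

variable [BG16 G]

theorem odd_M (M : Subgroup G) : Odd #M := odd_sub M

theorem tau_eq_zero (hM : IsCoatom M) {A₁ : Set G} {α : M → ℂ} (hα : IsClassFunction M α)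
    (h : ∀ x : M, (x : G) ∉ A₁ → α x = 0) (hg : g ∉ til M A₁) : tau M α g = 0 :=
  (dade0 hM).dade_of_not_mem hα (fun x _ => h x) hg

theorem tau_conj (M : Subgroup G) (α : M → ℂ) : tau M (conjFun α) = conjFun (tau M α) :=
  dadeLin_conjFun _ _ _ α

/-- Images of combinations of characters of `S(M)` vanish outside `Ã(M)`. -/
theorem tau_eq_zero_A (hM : IsCoatom M) (hI : ¬ IsOfTypeI M) {α : M → ℂ}
    (hα : α ∈ Submodule.span ℂ (indD (dK M) (dH M) ⊥)) (h1 : α 1 = 0) (hg : g ∉ til M (typeA M)) :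
    tau M α g = 0 := by
  refine tau_eq_zero hM (isClassFunction_of_mem_span
    (fun _ h => (isCharacter_of_mem_indD h).isClassFunction) hα) (fun x hx => ?_) hg
  by_cases e : x = 1
  · rw [e, h1]
  refine (Submodule.span_le (p := LinearMap.ker (LinearMap.proj x))).2 (fun φ hφ => ?_) hα
  by_contra h2
  obtain ⟨h3, y, h4, h5, h6⟩ := exists_comm_of_mem_indD hφ h2
  exact hx (memA_P hM hI h3 (by simpa using e) h4 (by simpa using h5) (congrArg Subtype.val h6))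

theorem d7_der (hM : IsCoatom M) (h3 : T345 M) : D7 (typeA1 M) M (supportR M) (dK M) (tau M) := by
  have := FT.d7_core hM
  rwa [core_345 hM h3] at this

theorem II_reg (hM : IsCoatom M) (h2 : IsOfTypeII M) (h : TP M W₁ U W₂) (hc : IsCyclic U) :
    Reg (MF M) U := fun x hx h1 => by
  by_contra e
  obtain ⟨y, hy, h3⟩ := exists_ne_one e
  have key : ∀ z ∈ zpowers x, z ≠ 1 → z ∈ typeA0 M := fun z hz h4 => A_sub_A0 (memA_P hM h.not_typeI
    (h.U_le' (zpowers_le.2 hx hz)) h4 hy.1 h3 (mem_C1.1 (C1_le_of_mem_zpowers hz hy.2)).symm)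
  refine (II_data hM h2 h).2.2.2 fun n hn => ?_
  have h5 := key x (mem_zpowers x) h1
  exact FT.mem_of_conj_A0 hM h5 (ti_II hM h2 h5) (key _ ((mem_normalizer_iff.1
    (cyc_nn hc (zpowers_le.2 hx) le_rfl hn) x).1 (mem_zpowers x)) (by simpa using h1))

theorem FTPair.II (h : FTPair M S W₁ W₂ U V) (h3 : T345 M) : IsOfTypeII S := h.two.resolve_left h3.2

theorem pdade_swap (hM : TP M W₁ U W₂) (hS : IsCoatom S) (h : TP S W₂ V W₁) {μ δ η}
    (fam : PrimeFam (dK S) (tf h) μ δ) (cyc : CycFam (tg hM) η) :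
    PDade (dK S) (dH S) (tf h) μ δ (swapHom (tg hM)) (fun j i => η i j) {x | (x : G) ∈ typeA0 S}
      (tau S) :=
  tg_swap hM h ▸ tp_pdade hS h.not_typeI h fam (tg_swap hM h ▸ cyc.swap)

/-- Peterfalvi 10.7. -/
theorem sec10_7 (h : FTPair M S W₁ W₂ U V) (h3 : T345 M) (hc : Coh (indD (dK M) (dK M) ⊥) (tau M)) :
    Reg (MF S) V := by
  have h2 := h.II h3
  obtain ⟨h4, h5, -⟩ := II_data h.maxT h2 h.tpT
  obtain ⟨H₀, _, p, h9, -⟩ := exists_sec9 h.maxT h.tpT h4 h5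
  rcases h9.core_cases with ⟨ψ, hψ, hi, hd, -⟩ | ⟨-, -, -, hc⟩
  swap
  · exact II_reg h.maxT h2 h.tpT ((subgroupOfEquivOfLe h.tpT.U_le).isCyclic.1 hc)
  exfalso
  obtain ⟨ν, hν⟩ := hc
  obtain ⟨μ, δ, fam⟩ := (tp_primeTI h.maxS h.tpS).exists_fam
  obtain ⟨μ', δ', fam'⟩ := (tp_primeTI h.maxT h.tpT).exists_fam
  obtain ⟨η, cyc⟩ := (tp_cycTI h.tpS).exists_fam
  obtain ⟨R, h10⟩ := tp_p10 h.maxS h3 h.tpS fam cyc
  have hP := pdade_swap h.tpS h.maxT h.tpT fam' cyc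
  obtain ⟨R', hS', hR'⟩ := hP.exists_cohSys (odd_M S)
  obtain ⟨ζ, hζ⟩ := h10.exists_zeta
  obtain ⟨d, n, ε, dn⟩ := h10.exists_dn
  obtain ⟨j, hj⟩ := cyc.ti.exists_ne_oneB
  obtain ⟨i, hi'⟩ : Nonempty {i // pmu (dK S) μ' i ∈ indD (dK S) (dH S) H₀} :=
    Nat.card_pos_iff.1 (by rw [h9.card_red fam']; have := h9.primep.two_le; omega) |>.1
  obtain ⟨ν', hν'⟩ := hS'.coh_deg (ψ 1)
  have e : pmu (dK S) μ' i 1 = ψ 1 := by rw [fam'.pmu_apply_one, (h9.red_spec fam' hi').1, hd]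
  have hn : ¬ CJ M S := fun e => h3.2 (tyII_CJ h.maxT e.symm h2)
  have hD : Disjoint (til M (typeA1 M)) (til S (typeA S)) := by
    by_contra e
    obtain ⟨T', x, e1, e2⟩ := supp_of_til h.maxS h.maxT hn e
    exact tp_not_frob h.tpS (e2.frob (tyII_CJ h.maxT e1 h2))
  have key : ∀ α ∈ Submodule.span ℂ (indD (dK M) (dK M) ⊥), α 1 = 0 →
      ∀ β ∈ Submodule.span ℂ (indD (dK S) (dH S) ⊥), β 1 = 0 →
      classInner (tau M α) (tau S β) = 0 := fun α hα h1 β hβ h2 =>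
    classInner_eq_zero_of_disjoint hD
      (fun _ => (d7_der h.maxS h3).tau_eq_zero (Submodule.span_mono indD_subset_indT hα) h1)
      fun _ => tau_eq_zero_A h.maxT h.notIT hβ h2
  have hψ' := indD_subset_bot _ _ _ hψ
  have hi'' := indD_subset_bot _ _ _ hi'
  have hd' : pmu (dK M) μ j 1 = d * ζ 1 := by rw [h10.pmu_deg hζ dn hj, h10.deg_eq hζ]
  exact h10.toPDade.cross hP h10.sys h10.red subset_rfl h10.sys.conjSub hν (h10.mem_bot hζ)
    (h10.irr hζ) (h10.pmu_mem hj) hd' hS' hR' subset_rfl (hS'.conjSub_deg _) hν' ⟨hψ', rfl⟩ hi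
    ⟨hi'', e⟩ (c' := 1) (by simp [e])
    (key _ (sub_mem_span (h10.mem_bot hζ) (conj_mem_indD (h10.mem_bot hζ)))
      (by simp [(h10.irr hζ).isCharacter.conjFun_one]) _ (sub_mem_span hψ' (conj_mem_indD hψ'))
      (by simp [hi.isCharacter.conjFun_one]))
    (key _ (sub_smul_mem_span (h10.pmu_mem hj) (h10.mem_bot hζ) _) (by simp [hd']) _
      (sub_smul_mem_span hi'' hψ' _) (by simp [e]))

theorem two_mul_add_one_le (h : TP M W₁ U W₂) (hU : U ≠ ⊥) : 2 * #W₁ + 1 ≤ #U :=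
  two_mul_add_one_le_of_dvd (odd_sub _) (odd_sub _) ((one_lt_card_iff_ne_bot U).2 hU)
    ((tp_reg h).dvd h.U_normal)

/-- Peterfalvi 10.8. -/
theorem sec10_8 (hM : IsCoatom M) (h3 : T345 M) : ¬ Coh (indD (dK M) (dK M) ⊥) (tau M) := fun hc => by
  obtain ⟨W₁, U, W₂, h⟩ := exists_tp hM h3.1
  obtain ⟨S, V, hp⟩ := exists_pair hM h3.1 h
  obtain ⟨μ, δ, fam⟩ := (tp_primeTI hM h).exists_fam
  obtain ⟨η, cyc⟩ := (tp_cycTI h).exists_fam
  obtain ⟨R, h10⟩ := tp_p10 hM h3 h fam cyc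
  have h2 := hp.II h3
  refine h10.not_coh (d7_der hM h3) (X := ccl {x | x ∈ MF S ∧ x ≠ 1} ∪ ccl (Vset W₂ W₁))
    (fun x hx => ?_) ((nrm_union_le _ _ _).trans (add_le_add ((ccl_sharp_le S).trans ?_) ?_)) hc
  · obtain ⟨r, hr, h4, h5⟩ := Nat.Prime.not_coprime_iff_dvd.1 hx
    exact conj_cover hp.maxT hp.tpT (fun a ha h1 => ti_II hp.maxT h2 (FT.A1_sub_A0 hp.maxT
      (memA1.2 ⟨MF_le_core hp.maxT ha, h1⟩))) (sec10_7 hp h3 hc) hr
      (h5.trans (card_dvd hp.tpT.W₂_leH)) h4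
  · have h4 := two_mul_add_one_le hp.tpT (II_data hp.maxT h2 hp.tpT).1
    have h5 : (7 : ℝ) ≤ #V := by have := cyc.ti.three_le_B; exact_mod_cast (by omega)
    have h6 : (0 : ℝ) < #(MF S) := by exact_mod_cast card_pos' _
    have h7 : (0 : ℝ) < #W₂ := by exact_mod_cast card_pos' _
    rw [(tp_card hp.tpT).1, Nat.cast_mul, Nat.cast_mul, div_le_div_iff₀ (by positivity) (by positivity)]
    nlinarith [mul_pos h6 h7]
  · rw [Vset_comm h]; exact ccl_V_le h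

/-- Peterfalvi 10.10. -/
theorem sec10_10 (hM : IsCoatom M) (hI : ¬ IsOfTypeI M) (h : TP M W₁ U W₂) : U ≠ ⊥ := by
  rintro rfl
  have h3 : T345 M := ⟨hI, fun h2 => (II_data hM h2 h).1 rfl⟩
  obtain ⟨μ, δ, fam⟩ := (tp_primeTI hM h).exists_fam
  obtain ⟨η, cyc⟩ := (tp_cycTI h).exists_fam
  obtain ⟨R, h10⟩ := tp_p10 hM h3 h fam cyc
  have e := h.der_eq_of_bot rfl
  have hn : Group.IsNilpotent (dK M) := FT.sub_nil (der_le M) (e ▸ MF_nil M)
  refine sec10_8 hM h3 ?_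
  rcases V_data hM hI h with h1 | h1
  · have key : ∀ α ∈ Submodule.span ℂ (indD (dK M) (dK M) ⊥), α 1 = 0 → tau M α = indLin M α :=
      fun α hα h2 => by
        have h4 := Submodule.span_mono indD_subset_indT hα
        refine FT.tau_eq_ind hM (isClassFunction_of_mem_span_indT h4) fun x hx => ?_
        have h5 : (x : G) ∈ MF M := e ▸ by_contra fun h5 => hx (eq_zero_of_mem_span_indT h4 h5)
        have h6 : (x : G) ≠ 1 := fun h6 => hx (by rw [OneMemClass.coe_eq_one.1 h6, h2])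
        exact ⟨FT.A1_sub_A0 hM (memA1.2 ⟨MF_le_core hM h5, h6⟩),
          fun g hg => h1 x h5 h6 g (by rwa [conj_eq_of_C1 hg])⟩
    exact (sibley_prime fam (h10.sys.congr fun α hα h2 => (key α hα h2).symm) h10.odd hn
      (fun x hx h2 y hy g hg => h1 x (e ▸ hx) (by simpa using h2) g (hg ▸ e ▸ hy)) h10.primeB
      h10.BK).congr key
  · rcases h10.sys.coh_or_chief h10.solvK h10.odd h10.bot_lt (Group.nilpotent_of_surjective _
      (MonoidHom.subgroupMap_surjective _ _)) (by simpa using h10.frobMod) with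
      h2 | ⟨-, h4, -, p, m, hp, h5, h6⟩
    · exact h2
    rw [relIndex_bot_left] at h5
    obtain ⟨rfl, h7⟩ := (h1 p m hp (by rw [← h5, card_dK, e])).resolve_left (h10.index ▸ h6)
    exact h10.coh_of_cube hp h5 h7 (by simpa using h4)

theorem prime_W₁ (hM : IsCoatom M) (h : TP M W₁ U W₂) : (#W₁).Prime :=
  (h.of_ne_bot hM (sec10_10 hM h.not_typeI h)).1

/-- Peterfalvi 10.11. -/
theorem sec10_11 (hM : IsCoatom M) (hI : ¬ IsOfTypeI M) (h : TP M W₁ U W₂) :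
    (#W₁).Prime ∧ (#W₂).Prime := by
  obtain ⟨S, V, hp⟩ := exists_pair hM hI h
  exact ⟨prime_W₁ hM h, prime_W₁ hp.maxT hp.tpT⟩

/-- If `|M_F| = |W₂| ^ |W₁|` then `M_F` is a chief factor. -/
theorem sec9_bot (hM : IsCoatom M) (h : TP M W₁ U W₂) (hc : #(MF M) = #W₂ ^ #W₁) :
    Sec9 (dK M) (dH M) (U.subgroupOf M) ⊥ (tf h) #W₂ #W₁ := by
  obtain ⟨h1, h2⟩ := sec10_11 hM h.not_typeI h
  obtain ⟨H₀, _, p, h9, -⟩ := exists_sec9 hM h (sec10_10 hM h.not_typeI h) h1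
  have h3 := relIndex_mul_relIndex ⊥ _ _ bot_le h9.lt.le
  rw [relIndex_bot_left, relIndex_bot_left, h9.relIndex_eq, card_dH, hc] at h3
  obtain rfl : p = #W₂ := (Nat.prime_dvd_prime_iff_eq h9.primep h2).1 (h9.primep.dvd_of_dvd_pow
    ((dvd_pow_self p h1.ne_zero).trans (Dvd.intro_left _ h3)))
  obtain rfl : H₀ = ⊥ := card_eq_one.1 ((Nat.mul_eq_right (pow_pos h2.pos _).ne').1 h3)
  exact h9

theorem Half.sec9 (hS : Half S W₁ U W₂ p q) :
    Sec9 (dK S) (dH S) (U.subgroupOf S) ⊥ (tf hS.tp) p q := by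
  obtain ⟨rfl, rfl⟩ := And.intro hS.cp hS.cq
  exact sec9_bot hS.max hS.tp hS.card

theorem elem_of_card (hM : IsCoatom M) (h : TP M W₁ U W₂) (hc : #(MF M) = #W₂ ^ #W₁) :
    IsElementaryAbelian #W₂ (MF M) := by
  have h9 := sec9_bot hM h hc
  have h1 := h9.comm
  rw [FT.sub_comm (MF_le M) (MF_le M), le_bot_iff, FT.sub_eq_bot ((der_le _).trans (MF_le M))] at h1
  exact ⟨ab_iff_der.2 h1, fun a ha => congrArg Subtype.val (mem_bot.1 (h9.pow ⟨a, MF_le M ha⟩ ha))⟩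

/-- Peterfalvi 13.2, from Sections 11 and 12. -/
theorem half_of (h7 : ∀ M : Subgroup G, IsCoatom M → IsOfTypeI M → Frob M) (hM : IsCoatom M)
    (h : TP M W₁ U W₂) (h11 : T345 M → #(MF M) = #W₂ ^ #W₁ ∧ IsCyclic U) :
    Half M W₁ U W₂ #W₂ #W₁ := by
  obtain ⟨h1, h2⟩ := sec10_11 hM h.not_typeI h
  have : #(MF M) = #W₂ ^ #W₁ ∧ IsMulCommutative U := by
    by_cases h2 : IsOfTypeII M
    exacts [⟨(card_II hM h2 h).2, (II_data hM h2 h).2.2.1⟩,
      (h11 ⟨h.not_typeI, h2⟩).imp_right ab_of_cyc]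
  exact ⟨hM, h, h.not_typeI, rfl, rfl, h2, h1, elem_of_card hM h this.1, this.1, this.2,
    sec10_10 hM h.not_typeI h, fun x => ti_of_frob h7 hM h⟩

end Cfsg.Agent.PF
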