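import Cfsg.Agent.Lib.Char.Sec13
import Cfsg.Agent.Lib.Char.Sec9C
import Cfsg.Agent.Lib.FT.Sec10
import Cfsg.Agent.S1546

/-! Peterfalvi 13.3 - 13.15. -/

set_option autoImplicit false
set_option linter.unusedSectionVars false

namespace Cfsg.Agent.PF

open Subgroup Cfsg.Agent.Transfer Cfsg.Agent.MS
open Cfsg.Agent.Char hiding cj

universe u

variable {G : Type u} [Group G] [Fintype G] [BG16 G] {S T W₁ W₂ U V X : Subgroup G} {p q : ℕ} {x g : G}

/-- `F(M)` inside `M` -/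
abbrev dF (M : Subgroup G) : Subgroup M := (F M).subgroupOf M

/-- `u = |U : C_U(P)|` -/
noncomputable def uu (S U : Subgroup G) : ℕ := (U ⊓ CC (MF S)).relIndex U

/-- `S` has an irreducible character induced from a linear character of `F(S)` -/
def HasLam (S : Subgroup G) : Prop :=
  ∃ ζ ∈ indD (dK S) (dH S) ⊥, ζ ∈ indD (dF S) (dH S) ⊥ ∧ IsIrrCharacter S ζ

namespace Half
variable (hS : Half S W₁ U W₂ p q)
include hS

theorem dF_eq : dH S ⊔ (U.subgroupOf S ⊓ cmod (dH S) ⊥) = dF S := by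
  rw [cmod_bot hS.tp.U_le, FT.sub_sup (MF_le S) (inf_le_left.trans hS.tp.U_le), ← hS.tp.F_eq]

theorem u_eq : (U.subgroupOf S ⊓ cmod (dH S) ⊥).relIndex (U.subgroupOf S) = uu S U := by
  rw [cmod_bot hS.tp.U_le, relIndex_subgroupOf hS.tp.U_le, uu]

theorem derC : ⊥ ⊔ ⁅U.subgroupOf S ⊓ cmod (dH S) ⊥, U.subgroupOf S ⊓ cmod (dH S) ⊥⁆ = ⊥ := by
  have l : U ⊓ CC (MF S) ≤ S := inf_le_left.trans hS.tp.U_le
  rw [cmod_bot hS.tp.U_le, FT.sub_comm l l, ab_iff_der.1 (ab_mono hS.abU inf_le_left), bot_subgroupOf,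
    bot_sup_eq]

theorem F_le_der : F S ≤ ⁅S, S⁆ := hS.tp.F_eq.le.trans (sup_le hS.tp.H_le (inf_le_left.trans hS.tp.U_le'))

theorem MF_le_F : MF S ≤ F S := hS.tp.F_eq ▸ le_sup_left

theorem ab_F : IsMulCommutative (F S) := by
  rw [hS.tp.F_eq, ab_iff]
  exact le_cc_sup (sup_le (ab_cc hS.ab) inf_le_right)
    (sup_le (cc_symm inf_le_right) (ab_le_cc hS.abU inf_le_left inf_le_left))

theorem memA0_F (hx : x ∈ F S) (h1 : x ≠ 1) : x ∈ typeA0 S := by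
  obtain ⟨y, hy, y1⟩ := exists_ne_one hS.tp.H_ne
  exact A_sub_A0 (memA_P hS.max hS.notI (hS.F_le_der hx) h1 hy y1 (mem_C1.1 (hS.le_C1 hx hy)).symm)

theorem til_eq : til S {x | x ∈ F S ∧ x ≠ 1} = ccl {x | x ∈ F S ∧ x ≠ 1} := by
  ext g
  refine ⟨fun ⟨a, ha, u, hu, y, e⟩ => ⟨y, ?_⟩, fun ⟨y, h⟩ => ⟨_, h, 1, one_mem _, y, (mul_one _).symm⟩⟩
  rw [R_eq_bot (hS.ti a (hS.memA0_F ha.1 ha.2)), mem_bot] at hu
  rwa [e, hu, mul_one]

theorem nrm_ccl {χ : G → ℂ} (hχ : IsClassFunction G χ) :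
    nrm (ccl {x | x ∈ F S ∧ x ≠ 1}) χ = nrm {x : S | x ∈ dF S ∧ x ≠ 1} fun x => χ x := by
  have d := (dade0 hS.max).restrict (A₁ := {x | x ∈ F S ∧ x ≠ 1}) (fun x hx => hS.memA0_F hx.1 hx.2)
    fun y hy x hx => ⟨conj_mem_of_mem_normalizer (nn_F (le_nn S) hy) hx.1, mt conj_eq_one_iff.1 hx.2⟩
  rw [← hS.til_eq, til, d.nrm_dadeSupp hχ fun a ha u hu => by
    rw [R_eq_bot (hS.ti a (hS.memA0_F ha.1 ha.2)), mem_bot] at hu
    rw [hu, mul_one]]
  simp [mem_subgroupOf]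

theorem exists_p13 {η} (cyc : CycFam (tg hS.tp) η) : ∃ μ δ ν R, P13 (dK S) (dH S) (dF S) (tf hS.tp) μ δ
    (tg hS.tp) η {x | (x : G) ∈ typeA0 S} (tau S) ν R (uu S U) := by
  obtain ⟨μ, δ, fam⟩ := (tp_primeTI hS.max hS.tp).exists_fam
  have h9 := hS.sec9
  have hP := tp_pdade hS.max hS.notI hS.tp fam cyc
  obtain ⟨R, a, b⟩ := hP.exists_cohSys (odd_M S)
  have c := h9.coh hP a
  rw [hS.derC] at c
  have r := fun j (hj : j ≠ 1) => h9.red_spec fam (hP.pmu_mem hj)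
  obtain ⟨ν, d, e⟩ := hP.exists_col a b c fun j k hj hk => by rw [(r j hj).1, (r k hk).1]
  have l : dH S ≤ dF S := comap_mono hS.MF_le_F
  refine ⟨μ, δ, ν, R, hP, fun _ => rfl, a, b, d, e, inferInstance, l, comap_mono hS.F_le_der,
    fun a b => Subtype.ext (Subtype.ext (mem_CC.1 (ab_cc hS.ab_F b.2) _ a.2)), fun α hα h0 h1 => ?_,
    hS.cq ▸ hS.primeq, ?_, ?_, fun j hj => ?_⟩
  · refine FT.tau_eq_ind hS.max hα fun x hx => ?_
    have := hS.memA0_F (x := (x : G)) (by_contra fun k => hx (h0 x k))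
      fun k => hx (by rw [OneMemClass.coe_eq_one.1 k, h1])
    exact ⟨this, hS.ti _ this⟩
  · rw [← hS.dF_eq, h9.relIndex_sup inf_le_left, hS.u_eq]
  · have k := h9.u_le
    have := hS.primep.two_le
    have := h9.p_ne_two
    have := Nat.one_le_pow q p hS.primep.pos
    have := k.trans (Nat.div_le_div_left (show 2 ≤ p - 1 by omega) two_pos)
    rw [card_dH, hS.card, ← hS.u_eq]
    omega
  · exact mem_indD_of_indLin l hP.HK (hP.pmu_mem hj) (hS.dF_eq ▸ (r j hj).2.2)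

theorem cases : HasLam S ∨ (Gal9 (dH S) (U.subgroupOf S) ⊥ ∧ U ⊓ CC (MF S) = ⊥ ∧
    #U = (p ^ q - 1) / (p - 1)) := by
  refine hS.sec9.core_cases.imp (fun ⟨ζ, a, b, _, c⟩ => ⟨ζ, indD_subset_bot _ _ _ a,
    mem_indD_of_indLin (P := dH S) (H := dF S) (comap_mono hS.MF_le_F) hS.sec9.HK a (hS.dF_eq ▸ c), b⟩) fun ⟨a, b, c, _⟩ => ?_
  rw [cmod_bot hS.tp.U_le, FT.sub_eq_bot (inf_le_left.trans hS.tp.U_le)] at b
  exact ⟨a, b, (card_subU hS.tp).symm.trans c⟩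

theorem tau_zero {φ ψ : S → ℂ} (hφ : φ ∈ indD (dF S) (dH S) ⊥) (hψ : ψ ∈ indD (dF S) (dH S) ⊥)
    (hg : g ∉ ccl {x | x ∈ F S ∧ x ≠ 1}) : tau S (φ - ψ) g = 0 := by
  have ab : ∀ a b : dF S, a * b = b * a :=
    fun a b => Subtype.ext (Subtype.ext (mem_CC.1 (ab_cc hS.ab_F b.2) _ a.2))
  refine tau_eq_zero hS.max ((isCharacter_of_mem_indD hφ).isClassFunction.sub
    (isCharacter_of_mem_indD hψ).isClassFunction) (fun x hx => ?_) (hS.til_eq ▸ hg)
  by_cases e : x ∈ dF S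
  · obtain rfl : x = 1 := by_contra fun k => hx ⟨e, by simpa using k⟩
    rw [Pi.sub_apply, deg_of_comm ab hφ, deg_of_comm ab hψ, sub_self]
  · rw [Pi.sub_apply, eq_zero_of_mem_indD hφ e, eq_zero_of_mem_indD hψ e, sub_self]

end Half

/-- Peterfalvi 13.4. -/
theorem sec13_4 (hS : Half S W₁ U W₂ p q) (hT : Half T W₂ V W₁ q p) (h : HasLam S) : ¬ HasLam T := by
  rintro ⟨ζ', a', b', c'⟩
  obtain ⟨ζ, a, b, c⟩ := h
  obtain ⟨η, cyc⟩ := (tp_cycTI hS.tp).exists_fam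
  obtain ⟨μ, δ, ν, R, k⟩ := hS.exists_p13 cyc
  obtain ⟨μ', δ', ν', R', k'⟩ := hT.exists_p13 (tg_swap hS.tp hT.tp ▸ cyc.swap)
  obtain ⟨j, hj⟩ := cyc.ti.exists_ne_oneB
  obtain ⟨i, hi⟩ := k'.cyc.ti.exists_ne_oneB
  have key : ∀ φ ∈ indD (dF S) (dH S) ⊥, ∀ ψ ∈ indD (dF S) (dH S) ⊥, ∀ φ' ∈ indD (dF T) (dH T) ⊥,
      ∀ ψ' ∈ indD (dF T) (dH T) ⊥, classInner (tau S (φ - ψ)) (tau T (φ' - ψ')) = 0 :=
    fun φ h1 ψ h2 φ' h3 ψ' h4 => classInner_eq_zero_of_disjoint (hS.F_disjoint hT)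
      (fun _ => hS.tau_zero h1 h2) fun _ => hT.tau_zero h3 h4
  refine k.toPDade.cross (tg_swap hS.tp hT.tp ▸ k'.toPDade) k.sys k.red subset_rfl k.sys.conjSub k.coh a c
    (k.pmu_mem hj) (c := 1) (by rw [deg_of_comm k.ab b, deg_of_comm k.ab (k.mu j hj)]; simp)
    k'.sys k'.red subset_rfl k'.sys.conjSub k'.coh a' c' (k'.pmu_mem hi) (c' := 1)
    (by rw [deg_of_comm k'.ab b', deg_of_comm k'.ab (k'.mu i hi)]; simp)
    (key _ b _ (conj_mem_indD b) _ b' _ (conj_mem_indD b')) ?_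
  simpa using key _ (k.mu j hj) _ b _ (k'.mu i hi) _ b'

omit [BG16 G] in
theorem pow_mem_ccl {k : ℕ} (hk : k.Coprime (Nat.card G)) :
    x ^ k ∈ ccl {x | x ∈ X ∧ x ≠ 1} ↔ x ∈ ccl {x | x ∈ X ∧ x ≠ 1} := by
  refine exists_congr fun y => ?_
  obtain ⟨m, e⟩ := exists_pow_eq_self_of_coprime (hk.coprime_dvd_right (orderOf_dvd_natCard (y * x * y⁻¹)))
  rw [← conj_pow]
  exact ⟨fun h => ⟨e ▸ pow_mem h.1 m, fun c => h.2 (by rw [c, one_pow])⟩,
    fun h => ⟨pow_mem h.1 k, fun c => h.2 (by rw [← e, c, one_pow])⟩⟩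

omit [BG16 G] in
theorem ccl_F_le (M : Subgroup G) :
    nrm (ccl {x | x ∈ F M ∧ x ≠ 1}) (fun _ => 1) ≤ (#(F M) - 1) / #M := by
  refine (nrm_ccl_le (X := {x | x ∈ F M ∧ x ≠ 1}) (N := M) fun n hn x hx =>
    ⟨conj_mem_of_mem_normalizer (nn_F (le_nn M) hn) hx.1, mt conj_eq_one_iff.1 hx.2⟩).trans_eq ?_
  rw [← ncard_sharp (F M)]; simp

theorem sec13_10a (hS : Half S W₁ U W₂ p q) (hT : Half T W₂ V W₁ q p) (h : HasLam S) :
    ((#(⁅T, T⁆ : Subgroup G) : ℝ) - uu T V ^ 2 - (#(F T) - 1)) / #T ≤ (uu S U * q) ^ 2 / #S := by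
  obtain ⟨ζ, a, b, c⟩ := h
  obtain ⟨η, cyc⟩ := (tp_cycTI hS.tp).exists_fam
  obtain ⟨μ, δ, ν, R, k⟩ := hS.exists_p13 cyc
  obtain ⟨μ', δ', ν', R', k'⟩ := hT.exists_p13 (tg_swap hS.tp hT.tp ▸ cyc.swap)
  obtain ⟨i, hi, h3⟩ := k'.le_nrm_col
  have h1 := k.le_nrm_irr a b c
  have h2 := k.le_nrm_row i
  have g1 := k.coh.gen ζ a
  have g2 := cyc.isGen i 1
  rw [← hS.nrm_ccl g1.isClassFunction, hS.cq, ← div_le_iff₀' (by exact_mod_cast card_pos' S)] at h1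
  rw [← hS.nrm_ccl g2.isClassFunction, FT.card_sub (F_le S),
    ← div_le_iff₀' (by exact_mod_cast card_pos' S)] at h2
  rw [← hT.nrm_ccl g2.isClassFunction, card_dK, ← div_le_iff₀' (by exact_mod_cast card_pos' T)] at h3
  have h4 := nrm_one_le_add g1 g2 (X := (ccl {x | x ∈ F S ∧ x ≠ 1} ∪ ccl {x | x ∈ F T ∧ x ≠ 1})ᶜ)
    (fun n hn x => by simp only [Set.mem_compl_iff, Set.mem_union, pow_mem_ccl hn])
    fun x hx => k.eta_ne_zero b hi fun y z hz e => by_contra fun z1 =>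
      hx (.inl ⟨y, e ▸ hz, by simpa [e] using z1⟩)
  have h5 := nrm_add_compl (ccl {x | x ∈ F S ∧ x ≠ 1} ∪ ccl {x | x ∈ F T ∧ x ≠ 1})
  have h6 := h5 (η i 1)
  have h7 := h5 (ν ζ)
  have h8 := h5 fun _ => 1
  have h9 := nrm_nonneg (ccl {x | x ∈ F T ∧ x ≠ 1}) (ν ζ)
  rw [nrm_union (hS.F_disjoint hT)] at h6 h7 h8
  rw [cyc.rip_self] at h6
  rw [k.coh.rip_eq a a, c.rip_self] at h7
  rw [(isIrrCharacter_one (G := G)).rip_self] at h8
  have := ccl_F_le S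
  have := ccl_F_le T
  rw [sub_div, div_self (by exact_mod_cast (card_pos' S).ne')] at h1
  rw [sub_div]
  linarith

/-- the estimates of Peterfalvi 13.11 -/
structure Mb (p q : ℕ) (m : ℝ) : Prop where
  seven : 7 ≤ q → 8 / 10 < m
  five : 5 ≤ q → 7 / 10 < m
  three : 49 / 100 < m
  sq : q = 3 → (p : ℝ) ^ 2 - 1 < 2 * p ^ 2 * m

theorem three_mul_sq_lt {n : ℕ} (h : 5 ≤ n) : 3 * n ^ 2 < 3 ^ n := by
  induction n, h using Nat.le_induction with
  | base => norm_num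
  | succ n h ih => rw [pow_succ 3 n]; nlinarith

theorem mb_of {v : ℝ} (hp : 3 ≤ p) (hq : q = 3 ∧ 5 ≤ p ∨ 5 ≤ q) (hv : v * (q - 1) = q ^ p - 1) :
    Mb p q ((q ^ p - v - (q - 1)) / q ^ p) := by
  have q3 : (3 : ℝ) ≤ q := by exact_mod_cast (by omega : 3 ≤ q)
  have N : (q : ℝ) ^ 3 ≤ q ^ p := pow_le_pow_right₀ (by linarith) hp
  have N0 : (0 : ℝ) < q ^ p := by positivity
  have v0 : 0 ≤ v := by
    by_contra c
    nlinarith [pow_le_pow_left₀ (by norm_num) q3 3]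
  have a : ∀ t : ℝ, t ≤ q → 3 ≤ t → t ^ 2 * (q - 1) ≤ q ^ p ∧ v * (t - 1) < q ^ p := fun t h h' =>
    ⟨by nlinarith [pow_le_pow_left₀ (by linarith) h 2, sq_nonneg (q : ℝ)], by nlinarith⟩
  have five : 5 ≤ q → 7 / 10 < (q ^ p - v - (q - 1)) / q ^ p := fun h => by
    have := a 5 (by exact_mod_cast h) (by norm_num)
    rw [lt_div_iff₀ N0]; linarith [this.1, this.2]
  refine ⟨fun h => ?_, five, ?_, fun h => ?_⟩
  · have := a 7 (by exact_mod_cast h) (by norm_num)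
    rw [lt_div_iff₀ N0]; linarith [this.1, this.2]
  · rcases hq with ⟨rfl, h⟩ | h
    · have : ((3 : ℕ) : ℝ) ^ 5 ≤ (3 : ℕ) ^ p := pow_le_pow_right₀ (by norm_num) h
      rw [lt_div_iff₀ N0]; norm_num at *; linarith
    · linarith [five h]
  · subst h
    have : (3 * p ^ 2 : ℝ) < 3 ^ p := by exact_mod_cast three_mul_sq_lt (n := p) (by omega)
    rw [← mul_div_assoc, lt_div_iff₀ N0]
    norm_num at *
    rw [show v = (3 ^ p - 1) / 2 by linarith]
    linarith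

namespace Half
variable (hS : Half S W₁ U W₂ p q)
include hS

theorem odd_p : Odd p := hS.primep.odd_of_ne_two hS.sec9.p_ne_two

theorem three_le_p : 3 ≤ p := by have := hS.primep.two_le; have := hS.sec9.p_ne_two; omega

theorem three_le_q : 3 ≤ q := by have := hS.primeq.two_le; obtain ⟨k, e⟩ := hS.sec9.odd_q; omega

theorem three_or : q = 3 ∧ 5 ≤ p ∨ 5 ≤ q := by
  have := hS.three_le_p; have := hS.three_le_q; have := hS.ne
  obtain ⟨k, e⟩ := hS.sec9.odd_q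
  obtain ⟨k, e⟩ := hS.odd_p
  omega

theorem card_U : #(U ⊓ CC (MF S) : Subgroup G) * uu S U = #U := card_mul_relIndex inf_le_left

theorem uu_eq (h : U ⊓ CC (MF S) = ⊥) : uu S U = #U := by rw [uu, h, relIndex_bot_left]

theorem geom : ((p ^ q - 1) / (p - 1) : ℕ) * ((p : ℝ) - 1) = p ^ q - 1 := by
  have := Nat.div_mul_cancel (Nat.sub_one_dvd_pow_sub_one p q)
  rw [← Nat.cast_pred hS.primep.pos, ← Nat.cast_mul, this, Nat.cast_pred (pow_pos hS.primep.pos q),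
    Nat.cast_pow]

end Half

/-- Peterfalvi 13.10, 13.11. -/
theorem sec13_10 (hS : Half S W₁ U W₂ p q) (hT : Half T W₂ V W₁ q p) (h : HasLam S) :
    ∃ m, Mb p q m ∧ #(U ⊓ CC (MF S) : Subgroup G) * (p : ℝ) ^ (q - 1) * m ≤ uu S U * q := by
  have k := sec13_10a hS hT h
  obtain ⟨-, a, b⟩ := hT.cases.resolve_left (sec13_4 hS hT h)
  have c := hT.geom
  rw [← b] at c
  refine ⟨_, mb_of hS.three_le_p hS.three_or c, ?_⟩
  have e : (p : ℝ) ^ q = p ^ (q - 1) * p := by rw [← pow_succ, Nat.sub_add_cancel hS.primeq.pos]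
  rw [(tp_card hT.tp).1, (tp_card hT.tp).2, (tp_card hS.tp).1, hT.uu_eq a, tp_F hT.tp, a, sup_bot_eq,
    hT.card, hS.card, hS.cp, hS.cq, ← hS.card_U] at k
  push_cast at k
  have p0 : (0 : ℝ) < p := by exact_mod_cast hS.primep.pos
  have q0 : (0 : ℝ) < q := by exact_mod_cast hS.primeq.pos
  have v0 : (0 : ℝ) < #V := by exact_mod_cast card_pos' V
  have c0 : (0 : ℝ) < #(U ⊓ CC (MF S) : Subgroup G) := by exact_mod_cast card_pos' _
  have u0 : (0 : ℝ) < uu S U := by exact_mod_cast Nat.pos_of_mul_pos_left (hS.card_U ▸ card_pos' U)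
  rw [← c, e] at k
  refine le_of_eq_of_le ?_ ((mul_le_mul_of_nonneg_left k (show (0 : ℝ) ≤
    #(U ⊓ CC (MF S) : Subgroup G) * (p ^ (q - 1) * p) by positivity)).trans_eq ?_) <;> field_simp

namespace Mb
variable {m : ℝ} {x u : ℕ} (h : Mb p q m) (hp : 3 ≤ p) (hq : q = 3 ∧ 5 ≤ p ∨ 5 ≤ q)
include h hp

theorem lt_of {N : ℝ} (q0 : 0 < q) (hN : N * (p - 1) = p ^ q - 1) (k : x * (p : ℝ) ^ (q - 1) * m ≤ N * q) :
    x * m * (p - 1) < q * p := by
  have p3 : (3 : ℝ) ≤ p := by exact_mod_cast hp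
  have e : (p : ℝ) ^ q = p ^ (q - 1) * p := by rw [← pow_succ, Nat.sub_add_cancel q0]
  have : (0 : ℝ) < q := by exact_mod_cast q0
  refine lt_of_mul_lt_mul_left ?_ (show (0 : ℝ) ≤ p ^ (q - 1) by positivity)
  nlinarith [mul_le_mul_of_nonneg_right k (show (0 : ℝ) ≤ p - 1 by linarith)]

include hq
theorem eq_three (op : Odd p) (oq : Odd q) (hx : 2 * q + 1 ≤ x) (k : x * m * (p - 1) < q * p) : q = 3 := by
  by_contra c
  have q5 : 5 ≤ q := by omega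
  have m7 := h.five q5
  have x0 : (2 * q + 1 : ℝ) ≤ x := by exact_mod_cast hx
  have q5' : (5 : ℝ) ≤ q := by exact_mod_cast q5
  have p3 : (3 : ℝ) ≤ p := by exact_mod_cast hp
  have key : ∀ t : ℝ, 0 ≤ t → t < m → (2 * q + 1) * t * (p - 1) < q * p := fun t t0 ht =>
    lt_of_le_of_lt (by gcongr; linarith) k
  obtain ⟨a, ha⟩ := op
  obtain ⟨b, hb⟩ := oq
  rcases (show p = 3 ∧ q = 5 ∨ p = 3 ∧ 7 ≤ q ∨ 5 ≤ p by omega) with ⟨rfl, rfl⟩ | ⟨rfl, e⟩ | e
  · have := key _ (by norm_num) m7; norm_num at this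
  · have := key _ (by norm_num) (h.seven e); push_cast at this; linarith
  · have : (5 : ℝ) ≤ p := by exact_mod_cast e
    have := key _ (by norm_num) m7
    nlinarith

end Mb

omit [BG16 G] in
theorem geom_three (hp : 3 ≤ p) : (p ^ 3 - 1) / (p - 1) = p ^ 2 + p + 1 := by
  obtain ⟨r, rfl⟩ := Nat.exists_eq_add_of_le' (show 1 ≤ p by omega)
  exact Nat.div_eq_of_eq_mul_left (by omega) (Nat.sub_eq_of_eq_add (by simp; ring))

/-- Peterfalvi 13.12. -/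
theorem sec13_12 (hS : Half S W₁ U W₂ p q) (hT : Half T W₂ V W₁ q p) : U ⊓ CC (MF S) = ⊥ := by
  by_contra c
  obtain ⟨m, h, k⟩ := sec13_10 hS hT (hS.cases.resolve_right fun e => c e.2.1)
  have h9 := hS.sec9
  have d := ((tp_reg hS.tp).mono (inf_le_left : U ⊓ CC (MF S) ≤ U) le_rfl).dvd
    (nn_inf hS.tp.U_normal (nn_cc (nn_MF' hS.tp.W₁_le)))
  have o := odd_sub (U ⊓ CC (MF S))
  have c1 := (one_lt_card_iff_ne_bot _).2 c
  have l := two_mul_add_one_le_of_dvd (odd_sub _) o c1 d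
  have ul := hS.u_eq ▸ h9.u_le
  rw [hS.cq] at d l
  obtain rfl := h.eq_three hS.three_le_p hS.three_or hS.odd_p h9.odd_q l (h.lt_of hS.three_le_p
    hS.primeq.pos hS.geom (k.trans (by gcongr)))
  have p5 : 5 ≤ p := by have := hS.three_or; omega
  rw [geom_three hS.three_le_p] at ul
  have k1 : 49 * (#(U ⊓ CC (MF S) : Subgroup G) * p ^ 2) < 300 * (p ^ 2 + p + 1) := by
    have : (uu S U : ℝ) ≤ p ^ 2 + p + 1 := by exact_mod_cast ul
    have : (0 : ℝ) < #(U ⊓ CC (MF S) : Subgroup G) * p ^ 2 := by positivity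
    have : (49 * (#(U ⊓ CC (MF S) : Subgroup G) * p ^ 2) : ℝ) < 300 * (p ^ 2 + p + 1) := by
      rw [show 3 - 1 = 2 from rfl, Nat.cast_ofNat] at k; nlinarith [h.three]
    exact_mod_cast this
  have c7 : #(U ⊓ CC (MF S) : Subgroup G) = 7 := by
    by_contra e
    obtain ⟨r, hr⟩ := o
    have : 13 ≤ #(U ⊓ CC (MF S) : Subgroup G) := by omega
    nlinarith [Nat.mul_le_mul_right (p ^ 2) this]
  have cp := (coprime_mono hS.tp.cop_U (inf_le_left : U ⊓ CC (MF S) ≤ U) le_rfl).coprime_dvd_right hS.dvd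
  rw [c7] at k1 cp
  obtain rfl : p = 5 := by
    have : p < 8 := by nlinarith
    obtain ⟨r, hr⟩ := hS.odd_p
    have : p ≠ 7 := by rintro rfl; norm_num at cp
    omega
  by_cases g : Gal9 (dH S) (U.subgroupOf S) ⊥
  · have := (h9.caseB g).dvd
    rw [hS.u_eq] at this
    exact c (hS.c_eq_one (c7 ▸ Nat.Coprime.coprime_dvd_right this (by norm_num)))
  · obtain ⟨H₁, a, hA⟩ := h9.caseA g
    have := hA.one_lt
    have := (odd_sub _).of_dvd_nat (hA.a_eq ▸ relIndex_dvd _ _ |>.trans (card_subU hS.tp).dvd)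
    have := Nat.le_of_dvd (by norm_num) hA.dvd
    have := hA.dvd
    interval_cases a <;> simp_all (config := {decide := true})

/-- Peterfalvi 13.13. -/
theorem sec13_13 (hS : Half S W₁ U W₂ p q) (hT : Half T W₂ V W₁ q p)
    (hA : ¬ Gal9 (dH S) (U.subgroupOf S) ⊥) : q = 3 ∧ 4 * #U = (p - 1) ^ 2 := by
  obtain ⟨m, h, k⟩ := sec13_10 hS hT (hS.cases.resolve_right fun e => hA e.1)
  have c := sec13_12 hS hT
  have h9 := hS.sec9
  obtain ⟨H₁, a, hA⟩ := h9.caseA hA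
  have oa := (odd_sub _).of_dvd_nat (hA.a_eq ▸ relIndex_dvd _ _ |>.trans (card_subU hS.tp).dvd)
  obtain ⟨r, hr⟩ := hS.odd_p
  have d : #U ∣ r ^ (q - 1) := by
    obtain ⟨φ, e⟩ := hA.emb
    have : a ∣ r := (Nat.Coprime.dvd_of_dvd_mul_left (Nat.coprime_two_right.2 oa)
      (by simpa [hr] using hA.dvd))
    refine .trans ?_ (pow_dvd_pow_of_dvd this _)
    rw [← hS.uu_eq c, ← hS.u_eq, relIndex, ← e, index_ker]
    exact (card_subgroup_dvd_card φ.range).trans (by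
      rw [Nat.card_fun, Nat.card_congr Multiplicative.toAdd, Nat.card_zmod]; simp)
  have p3 := hS.three_le_p
  have r0 : 0 < r := by omega
  rw [hS.uu_eq c, c, card_bot, Nat.cast_one, one_mul] at k
  obtain rfl : q = 3 := by
    by_contra e
    have q5 : 5 ≤ q := by have := hS.three_or; omega
    have a1 : (#U : ℝ) ≤ r ^ (q - 1) := by exact_mod_cast Nat.le_of_dvd (by positivity) d
    have a2 : (2 : ℝ) ^ (q - 1) * r ^ (q - 1) ≤ p ^ (q - 1) := by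
      rw [← mul_pow]; gcongr; exact_mod_cast (by omega)
    have a3 : (2 * q : ℝ) ≤ 2 ^ (q - 1) := by
      obtain ⟨n, rfl⟩ := Nat.exists_eq_add_of_le' q5
      have : n + 1 ≤ 2 ^ n := Nat.lt_two_pow_self
      exact_mod_cast (by rw [show n + 5 - 1 = n + 4 from rfl, pow_add]; omega)
    have a4 : (0 : ℝ) < r ^ (q - 1) * q := by positivity
    have := h.five q5
    have : 2 * q * r ^ (q - 1) * m ≤ r ^ (q - 1) * q := calc
      _ ≤ p ^ (q - 1) * m := by gcongr; exact le_trans (by gcongr) a2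
      _ ≤ _ := k.trans (by gcongr)
    nlinarith
  have k1 : p ^ 2 < 6 * #U + 1 := by
    have := h.sq rfl
    have : (p ^ 2 : ℝ) < 6 * #U + 1 := by
      rw [show 3 - 1 = 2 from rfl, Nat.cast_ofNat] at k; linarith
    exact_mod_cast this
  obtain ⟨t, e⟩ := d
  have : t = 1 := by
    by_contra e'
    have : t ≠ 0 := by rintro rfl; simp at e; omega
    have : 2 ≤ t := by omega
    rw [show 3 - 1 = 2 from rfl] at e
    nlinarith [Nat.mul_le_mul_left #U this]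
  refine ⟨rfl, ?_⟩
  rw [this, mul_one] at e
  rw [← e, hr]; simp; ring

/-- Peterfalvi 13.15. -/
theorem sec13_15 (hS : Half S W₁ U W₂ p q) (hT : Half T W₂ V W₁ q p)
    (hB : Gal9 (dH S) (U.subgroupOf S) ⊥) :
    (if q ∣ p - 1 then q * #U else #U) = (p ^ q - 1) / (p - 1) := by
  have c := sec13_12 hS hT
  have h9 := hS.sec9
  have q3 := hS.three_le_q
  have p3 := hS.three_le_p
  obtain ⟨o, n1, n2⟩ := S1546.result p q hS.primep hS.primeq (by omega) (by omega)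
  have i : q ∣ p - 1 ↔ p % q = 1 := by
    rw [← Nat.modEq_iff_dvd' (by omega), Nat.ModEq, Nat.mod_eq_of_lt (by omega), eq_comm]
  have qu : q.Coprime #U := (coprime_mono hS.tp.cop_W₁ le_rfl hS.tp.U_le').symm.symm |> (hS.cq ▸ ·)
  rcases hS.cases with l | ⟨-, -, e⟩
  swap
  · rw [if_neg fun d => ((Nat.Prime.coprime_iff_not_dvd hS.primeq).1 qu) (e ▸ n1 (i.1 d)), e]
  obtain ⟨m, h, k⟩ := sec13_10 hS hT l
  obtain ⟨x, e⟩ := (h9.caseB hB).dvd
  rw [hS.u_eq, hS.uu_eq c] at e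
  rw [hS.uu_eq c, c, card_bot, Nat.cast_one, one_mul] at k
  have k1 := h.lt_of p3 (x := x) hS.primeq.pos hS.geom (by
    rw [e]; push_cast; nlinarith [mul_le_mul_of_nonneg_left k (Nat.cast_nonneg x)])
  have ox : Odd x := o.of_dvd_nat (Dvd.intro_left _ e.symm)
  split_ifs with d
  · obtain ⟨y, rfl⟩ := qu.dvd_of_dvd_mul_left (e ▸ n1 (i.1 d))
    obtain ⟨z, hz⟩ := ox.of_dvd_nat (Dvd.intro_left _ rfl)
    have : y = 1 := by
      by_contra c
      have y3 : (3 : ℝ) ≤ y := by exact_mod_cast (by omega)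
      have p4 : (4 : ℝ) ≤ p := by have := Nat.le_of_dvd (by omega) d; exact_mod_cast (by omega)
      have q0 : (0 : ℝ) < q := by positivity
      have := h.three
      have : (q : ℝ) * 3 * (49 / 100) * (p - 1) < q * p :=
        lt_of_le_of_lt (by push_cast; gcongr; linarith) k1
      nlinarith
    rw [e, this, mul_one, mul_comm]
  · have x1 := (n2 (mt i.2 d)).2 x (Dvd.intro_left _ e.symm)
    by_cases c : x = 1
    · rw [e, c, mul_one]
    have x0 := ox.pos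
    have l := two_mul_add_one_le_of_dvd h9.odd_q ox (by omega)
      ((Nat.modEq_iff_dvd' x0).1 (by rw [Nat.ModEq, x1, Nat.mod_eq_of_lt (by omega)]))
    obtain rfl := h.eq_three p3 hS.three_or hS.odd_p h9.odd_q l k1
    have k2 : p ^ 2 < 6 * #U + 1 := by
      have := h.sq rfl
      have : (p ^ 2 : ℝ) < 6 * #U + 1 := by
        rw [show 3 - 1 = 2 from rfl, Nat.cast_ofNat] at k; linarith
      exact_mod_cast this
    rw [geom_three p3] at e
    have : p < 8 := by nlinarith [Nat.mul_le_mul_left #U l]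
    obtain ⟨r, hr⟩ := hS.odd_p
    obtain rfl : p = 5 := by have := hS.ne; omega
    have : #U ≤ 4 := by nlinarith [Nat.mul_le_mul_left #U l]
    omega

end Cfsg.Agent.PF
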