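import Cfsg.Agent.Lib.FT.Sec14
import Cfsg.Agent.Lib.FT.Sec13A
import Cfsg.Agent.Lib.FT.Sec12

/-!
The final contradiction of Peterfalvi's book, from the conclusions of Section 11.
-/

set_option autoImplicit false

namespace Cfsg.Agent.PF

open Subgroup Cfsg.Agent.Transfer Cfsg.Agent.MS
open Cfsg.Agent.Char hiding cj

universe u

variable {G : Type u} [Group G] [Fintype G] [BG16 G]

theorem false_of_sec11 (h11 : ∀ M W₁ U W₂ : Subgroup G, IsCoatom M → T345 M → ∀ h : TP M W₁ U W₂,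
    #(MF M) = #W₂ ^ #W₁ ∧ IsCyclic U ∧ #W₂ < #W₁ ∧
      ⁅dK M, dK M⁆ = dH M ∧ ∀ μ δ η, PrimeFam (dK M) (tf h) μ δ → CycFam (tg h) η →
        ∀ ζ ∈ indD (dK M) (dK M) (dH M), ∀ i j,
          classInner (tau M (pmu (dK M) μ 1 - ζ)) (η i j) = if i = 1 then 1 else 0) : False := by
  have h7 : ∀ M : Subgroup G, IsCoatom M → IsOfTypeI M → Frob M := fun M hM h =>
    sec12_7 (fun L W₁ U W₂ hL h3 h => ⟨sec10_10 hL h3.1 h, (h11 L W₁ U W₂ hL h3 h).2.1⟩) hM h
  have key : ∀ S T W₁ W₂ U V : Subgroup G, FTPair S T W₁ W₂ U V → ¬ #W₁ < #W₂ := by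
    intro S T W₁ W₂ U V h hlt
    have hS := half_of h7 h.maxS h.tpS fun h3 => (h11 _ _ _ _ h.maxS h3 h.tpS).imp_right And.left
    have hT := half_of h7 h.maxT h.tpT fun h3 => (h11 _ _ _ _ h.maxT h3 h.tpT).imp_right And.left
    exact H14.false ⟨h, hS, hT, h7, fun M hM h => sec12_6 hM h (h7 M hM h), sec13_12 hS hT,
      sec13_12 hT hS⟩ (by_contra fun e => (h11 _ _ _ _ h.maxS ⟨h.notIS, e⟩ h.tpS).2.2.1.not_gt hlt) hlt
      (fun h3 => (h11 _ _ _ _ h.maxT h3 h.tpT).2.2.2) (fun e => (sec13_13 hS hT e).2)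
      (fun e => (sec13_13 hT hS e).1) (sec13_15 hS hT) (sec13_15 hT hS)
  obtain ⟨M, hM, hI⟩ := exists_notI h7
  obtain ⟨W₁, U, W₂, h⟩ := exists_tp hM hI
  obtain ⟨T, V, hp⟩ := exists_pair hM hI h
  exact (tp_cycTI h).card_ne (le_antisymm (not_lt.1 (key _ _ _ _ _ _ hp.symm))
    (not_lt.1 (key _ _ _ _ _ _ hp)))

/-- The reduction of the odd order theorem to minimal simple groups. -/
theorem solvable_of_not_minSimple
    (h : ∀ (X : Type u) [Group X] [Finite X], ¬ IsMinSimpleOddOrder X) (X : Type u) [Group X]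
    [Finite X] (ho : Odd (Nat.card X)) : Group.IsSolvable X := by
  induction hn : Nat.card X using Nat.strong_induction_on generalizing X with
  | _ n ih =>
  subst hn
  by_contra hs
  have h1 : ∀ H : Subgroup X, H ≠ ⊤ → Group.IsSolvable H := fun H hH =>
    ih _ (Finite.card_subtype_lt (p := (· ∈ H)) (not_forall.1 (mt (eq_top_iff' H).2 hH)).choose_spec)
      H (ho.of_dvd_nat (card_subgroup_dvd_card H)) rfl
  have := not_subsingleton_iff_nontrivial.1 fun _ : Subsingleton X => hs inferInstance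
  refine h X ⟨ho, ⟨fun N hN => ?_⟩, fun hc => hs (isSolvable_of_comm fun a b => hc.is_comm.comm a b), h1⟩
  by_contra e
  rw [not_or] at e
  have := h1 N e.2
  have : Group.IsSolvable (X ⧸ N) := ih _ (by
    rw [← index_eq_card, ← N.card_mul_index]
    exact lt_mul_of_one_lt_left (Nat.pos_of_ne_zero N.index_ne_zero_of_finite)
      ((one_lt_card_iff_ne_bot N).2 e.1)) _ (ho.of_dvd_nat (card_quotient_dvd_card N)) rfl
  exact hs (solvable_of_ker_le_range N.subtype (QuotientGroup.mk' N) (by simp))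

end Cfsg.Agent.PF
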