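import Cfsg.Agent.Lib.FT.Grp13
import Cfsg.Agent.Lib.BG.GL2
/-! The group-theoretic steps (12.8) - (12.12) of Peterfalvi's Section 12. -/
set_option autoImplicit false
set_option linter.unusedSectionVars false
set_option linter.unusedVariables false
namespace Cfsg.Agent.PF
open Subgroup Cfsg.Agent.Transfer Cfsg.Agent.MS
open Cfsg.Agent.Char hiding cj
universe u
variable {G : Type u} [Group G] [Fintype G] {M L T D A X U : Subgroup G} {x : G} {p q : ℕ}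

theorem dvd_succ_of_lines [hp : Fact p.Prime] (h : El p 2 T A) (hn : D ≤ NN T)
    (hf : ∀ a ∈ D, a ≠ 1 → ∀ Y ≤ T, #Y = p → a ∉ NN Y) : #D ∣ p + 1 := by
  classical
  let Z := {Y : Subgroup G // Y ≤ T ∧ #Y = p}
  let _ : MulAction D Z :=
    { smul := fun d Y => ⟨cj d Y.1, cj_le Y.2.1 (hn d.2), (card_cj _ _).trans Y.2.2⟩
      one_smul := fun Y => Subtype.ext (cj_one _)
      mul_smul := fun a b Y => Subtype.ext (cj_cj _ _ _).symm }
  have := Fintype.ofFinite Z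
  have c := Solv.sum_card_partition (E := T) Finset.univ (fun Y : Z => Y.1.subgroupOf T) fun a ha =>
    have a1 : (a : G) ≠ 1 := fun e => ha (Subtype.ext e)
    ⟨⟨zpowers a, zpowers_le.2 a.2, h.card_zpowers a.2 a1⟩, ⟨Finset.mem_univ _, mem_zpowers _⟩,
      fun Y hY => Subtype.ext (prime_eq_zpowers (K := Y.1) (Y.2.2.symm ▸ hp.out) hY.2 a1).symm⟩
  rw [Finset.sum_congr rfl (g := fun _ => p) (fun Y _ => (FT.card_sub Y.2.1).trans Y.2.2), h.card,
    Finset.sum_const, smul_eq_mul, Finset.card_univ, ← Nat.card_eq_fintype_card] at c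
  have e : #Z = p + 1 := by
    obtain ⟨q, rfl⟩ : ∃ q, p = q + 1 := ⟨p - 1, by have := hp.out.pos; omega⟩
    apply Nat.eq_of_mul_eq_mul_right (show 0 < q by have := hp.out.two_le; omega)
    nlinarith
  rw [← e, ← Nat.modEq_zero_iff_dvd]
  refine Solv.card_modEq_of_card_fixedBy fun d d1 => Nat.card_eq_zero.2 (.inl ⟨fun Y => ?_⟩)
  exact hf d d.2 (fun e => d1 (Subtype.ext e)) _ Y.1.2.1 Y.1.2.2
    (mem_normalizer_iff_cj.2 (congrArg Subtype.val Y.2))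

theorem two_mul_le_of_dvd {a n : ℕ} (ha : Odd a) (hn : Even n) (h0 : 0 < n) (h : a ∣ n) : 2 * a ≤ n :=
  Nat.le_of_dvd h0 ((Nat.coprime_two_left.2 ha).mul_dvd_of_dvd_of_dvd hn.two_dvd h)

/-- (12.12) -/
theorem dvd_of_reg_el2 [hp : Fact p.Prime] (h : El p 2 T A) (hn : D ≤ NN T) (r : Reg T D)
    (ho : Odd #D) (hX : X ≤ T) (h1 : #X = p) (h2 : D ⊓ NN X = ⊥) : #D ∣ p - 1 ∨ #D ∣ p + 1 := by
  by_cases c : ∃ Y ≤ T, #Y = p ∧ D ≤ NN Y
  · obtain ⟨Y, a, b, c⟩ := c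
    exact .inl (b ▸ (r.mono a le_rfl).dvd c)
  have ab : IsMulCommutative D := ab_iff_der.2 (eq_bot_of_le (r.symm.cc le_rfl h.ne_bot) (der_le D)
    (BG.commutator_le_Ct_of_card_le_sq h.elem h.card.le hn ho fun d => hp.out.one_lt.ne'
      (Nat.eq_one_of_dvd_coprimes (r.coprime hn) (d.trans (relIndex_dvd _ _)) h.self.dvd)))
  refine .inr (dvd_succ_of_lines h hn fun a ha a1 Y hY cY n => a1 (eq_one_of_inf h2 ha ?_))
  obtain ⟨b, hb, b1⟩ := SetLike.not_le_iff_exists.1 fun k => c ⟨Y, hY, cY, k⟩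
  obtain ⟨k, hk⟩ := BG.exists_zpow_conj (prime_cyc (cY ▸ hp.out)) n
  have l := cj_le hY (hn hb)
  have e := h.sup_lines hY l cY ((card_cj _ _).trans cY) fun e => b1 (mem_normalizer_iff_cj.2 e.symm)
  refine mem_normalizer_of_conj_mem fun t ht => ?_
  obtain ⟨u, hu, _, ⟨v, hv, rfl⟩, rfl⟩ := (mem_sup_l (ab_nn h.ab l hY)).1 (e.ge (hX ht))
  have c1 : Commute u (b * v * b⁻¹) := mem_CC.1 (h.cc (l (conj_mem_cj hv))) u (hY hu)
  have c2 : a * b = b * a := mem_CC.1 (ab_cc ab hb) a ha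
  have : a * (u * (b * v * b⁻¹)) * a⁻¹ = (u * (b * v * b⁻¹)) ^ k := by
    rw [c1.mul_zpow, conj_zpow, ← hk u hu, ← hk v hv]
    calc _ = a * u * a⁻¹ * (a * b * v * (a * b)⁻¹) := by group
      _ = _ := by rw [c2]; group
  exact this ▸ zpow_mem ht k

variable [BG16 G]
/-- (12.10), the bound on the primes dividing `|L / H|` -/
theorem lt_of_not_TI (hL : IsCoatom L) (t : IsOfTypeI L) (s : FT.TF L U) (hp : p.Prime)
    (hx : x ∈ MF L) (h1 : x ≠ 1) (h2 : ¬ C1 x ≤ L) (h3 : Rk p 2 (MF L)) (hq : q.Prime) (d : q ∣ #U) :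
    q < p := by
  have := Fact.mk hp
  have := hp.two_le
  rcases t.2 with t | t | t
  · obtain ⟨g, a, b⟩ := SetLike.not_le_iff_exists.1 h2
    exact absurd (t g (by rwa [FT.nn_MF_max hL]) x hx (by rwa [conj_eq_of_C1 a])) h1
  · obtain ⟨X, a, b, c⟩ := s.exists_reg hq d
    obtain ⟨E, e⟩ := h3
    have n : X ≤ NN E := by
      rw [← e.eq_of_not_rk (fun k => rankLE_iff.1 t.2.1 k.rkA) (omega_le p _) (omega_elem t.1)
        (le_omega e.le e.elem)]
      exact nn_omega (nn_MF' (a.trans s.le))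
    have k := (c.mono e.le le_rfl).dvd n
    rw [b, e.card, show p ^ 2 - 1 = (p + 1) * (p - 1) by simpa using Nat.sq_sub_sq p 1] at k
    have o := hp.odd_of_ne_two e.ne_two
    rcases hq.dvd_mul.1 k with k | k
    · have := two_mul_le_of_dvd (hq.odd_of_ne_two (ne_two_of_dvd d)) o.add_one (by omega) k
      have := hq.two_le
      omega
    · have := Nat.le_of_dvd (by omega) k
      omega
  · obtain ⟨X, a, b⟩ := exists_card_eq hq d
    obtain ⟨y, hy, y1⟩ := exists_ne_one (prime_ne_bot (b ▸ hq))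
    have o : orderOf y = q := by rw [← Nat.card_zpowers, prime_eq_zpowers (b ▸ hq) hy y1, b]
    have := Fact.mk hq
    have e : orderOf (QuotientGroup.mk' (fittingHall L) ⟨y, s.le (a hy)⟩) = q :=
      orderOf_eq_prime (by
        rw [← map_pow, show (⟨y, s.le (a hy)⟩ : L) ^ q = 1 from Subtype.ext (o ▸ pow_orderOf_eq_one y),
          map_one])
        fun e => y1 (eq_one_of_inf s.inf (FT.mem_MF.2 ⟨_, (QuotientGroup.eq_one_iff _).1 e⟩) (a hy))
    have := Nat.le_of_dvd (by omega) ((e ▸ Monoid.order_dvd_exponent _).trans (t.1 p hp h3.dvd))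
    omega

/-- (12.8) - (12.12) -/
theorem sec12_group
    (h11 : ∀ L W₁ U W₂ : Subgroup G, IsCoatom L → T345 L → TP L W₁ U W₂ → U ≠ ⊥ ∧ IsCyclic U)
    (hex : ∃ M : Subgroup G, IsCoatom M ∧ IsOfTypeI M ∧ ¬ Frob M) :
    ∃ (p : ℕ) (M L : Subgroup G) (x : G), p.Prime ∧ IsCoatom M ∧ IsOfTypeI M ∧ ¬ Frob M ∧
      IsCoatom L ∧ IsOfTypeI L ∧ Frob L ∧ ¬ CJ L M ∧ Supp M L x ∧ orderOf x = p ∧
      ¬ MF M ⊓ C1 x ≤ ⁅MF M, MF M⁆ ∧ L ⊓ M ≤ MF L ∧ 2 * (dH L).index ≤ p + 1 ∧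
      p ^ 2 ≤ #(MF L) := by
  classical
  have key : ∀ M U : Subgroup G, IsCoatom M → FT.TF M U → (Frob M ↔ ¬ RkA 2 U) := fun M U a b =>
    ⟨fun c => (zgroup_iff (odd_sub U)).1 (b.zgroup (odd_sub M) c),
      fun c => b.frob (max_sol a) ((zgroup_iff (odd_sub U)).2 c)⟩
  have ex : ∃ p : ℕ, p.Prime ∧ ∃ M U : Subgroup G, IsCoatom M ∧ IsOfTypeI M ∧ FT.TF M U ∧ Rk p 2 U := by
    obtain ⟨M, a, b, c⟩ := hex
    obtain ⟨U, t⟩ := FT.exists_TF b.1
    obtain ⟨p, hp, r⟩ := not_not.1 (mt (key M U a t).2 c)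
    exact ⟨p, hp, M, U, a, b, t, r⟩
  obtain ⟨hp, M, U, hM, tM, s, r⟩ := Nat.find_spec ex
  have mn := fun m => Nat.find_min ex (m := m)
  generalize Nat.find ex = p at hp r mn
  have := Fact.mk hp
  have po := hp.odd_of_ne_two r.ne_two
  have := hp.two_le
  obtain ⟨c1, c2, -⟩ := FT.BG16.compl M U hM (.inl ⟨tM, (isComplIn_iff (nn_MF' s.le)).2 ⟨s.sup, s.inf⟩⟩)
  obtain ⟨P, hP⟩ := exists_isSyl p U
  obtain ⟨E, e⟩ := r.syl hP
  have PM := hP.le.trans s.le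
  have pK : ¬ p ∣ #(MF M) := s.hall.pi p hp r.dvd
  have sP := s.hall.syl_trans hP pK
  obtain ⟨L, hL, l⟩ : ∃ L, IsCoatom L ∧ P ≤ typeCore L := by
    obtain ⟨L, a, b⟩ := FT.BG16.prime_core p hp (r.dvd.trans (card_subgroup_dvd_card U))
    obtain ⟨R, hR⟩ := exists_isSyl p (typeCore L)
    obtain ⟨g, -, c⟩ := ((FT.core_hall_top a).syl_trans hR b).exists_cj_le hP.pgroup le_top
    exact ⟨_, max_cj a g⁻¹, FT.cj_core a _ ▸ cj_le_iff_le_cj_inv.1 (c.trans hR.le)⟩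
  have n : ¬ CJ L M := fun ⟨g, k⟩ => pK (by
    rw [← core_I hM tM, ← k, ← FT.cj_core hL, card_cj]; exact e.dvd.trans (card_dvd l))
  obtain ⟨x, hx, x1, hc⟩ : ∃ x ∈ E, x ≠ 1 ∧ ¬ MF M ⊓ C1 x ≤ ⁅MF M, MF M⁆ := by
    by_contra! k
    exact (sol_der_lt (sol_of_nil (MF_nil M)) s.ne).not_ge (cop_gen e.ab e.not_cyc
      (nn_MF' (e.le.trans PM)) (coprime_mono s.coprime (e.le.trans hP.le) le_rfl) k)
  have c0 : MF M ⊓ C1 x ≠ ⊥ := fun k => hc (k ▸ bot_le)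
  have z := e.card_zpowers hx x1
  have um := c2 _ (zpowers_le.2 (hP.le (e.le hx))) (prime_ne_bot (z ▸ hp)) (by rwa [cc_zpowers])
  obtain ⟨nC, sp⟩ := FT.supp_of_inter hL hM n ⟨l (e.le hx), x1⟩ (by
    obtain ⟨y, hy, y1⟩ := exists_ne_one c0
    exact (memA_I tM).2 ⟨PM (e.le hx), x1, y, hy.1, y1, (mem_C1.1 hy.2).symm⟩)
  have xA : x ∈ typeA0 L := FT.A1_sub_A0 hL ⟨l (e.le hx), x1⟩
  have tL : IsOfTypeI L := by_contra fun t => by
    have t3 : T345 L := ⟨t, fun k => nC (ti_II hL k xA)⟩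
    obtain ⟨W₁, V, W₂, h⟩ := exists_tp hL t
    obtain ⟨a, b⟩ := h11 L W₁ V W₂ hL t3 h
    rw [core_345 hL t3] at l
    have u := (MF_hall L).mono h.H_le (der_le L)
    by_cases d : p ∣ #(MF L)
    · exact nC (h.C1_le_of_F hL a (MF_le_F L (u.le_of_normal (nn_MF' (der_le L)) l
        (pi_of_pg hP.pgroup d) (e.le hx))) x1)
    · exact not_rk2_of_cyc b ((e.rk.mono l).hall (u.compl (nn_MF' h.U_le) h.H_sup h.H_inf) d)
  rw [core_I hL tL] at l
  obtain ⟨D, t⟩ := FT.exists_TF tL.1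
  have f : Frob L := (key L D hL t).2 fun ⟨q, hq, k⟩ => mn q
    (lt_of_not_TI hL tL t hp (l (e.le hx)) x1 nC (e.rk.mono l) hq k.dvd) ⟨hq, L, D, hL, tL, t, k⟩
  have pO : IsPGroup p (O {p} (MF L)) := O_pg _
  have PO := nil_le_O (MF_nil L) l (pi1_of_pg hP.pgroup)
  have eP : O {p} (MF L) ⊓ M = P := sP.eq_of_le (pO.to_le inf_le_left) inf_le_right (le_inf PO PM)
  have LM : L ⊓ M ≤ MF L := le_of_pg fun q hq _ Y hY pY => by_contra fun k => by
    have := Fact.mk hq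
    have d : ¬ q ∣ #(MF L) := fun d =>
      k ((MF_hall L).le_of_normal (nn_MF' le_rfl) (hY.trans inf_le_left) (pi_of_pg pY d))
    obtain ⟨A, a1, a2⟩ := pg_exists_card pY fun e => k (e ▸ bot_le)
    have AL := a1.trans (hY.trans inf_le_left)
    have AM := a1.trans (hY.trans inf_le_right)
    have rA := (f.reg AL (a2 ▸ (Nat.Prime.coprime_iff_not_dvd hq).2 d)).mono l le_rfl
    have nA : A ≤ NN P := by rw [← eP]; nrm
    have cA : (#A).Coprime #(MF M) := coprime_mono (FT.compl_hall sp.sup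
      (inf_bot_mono sp.inf le_rfl inf_le_left) |>.pi.coprime (isPi_self _).compl_compl) (a1.trans hY) le_rfl
    by_cases c : MF M ⊓ CC A = ⊥
    · obtain ⟨X, b1, b2, b3⟩ := s.exists_reg hp r.dvd
      obtain ⟨u, hu, b4⟩ := hP.exists_cj_le (pg_of_card b2) b1
      have b5 := b3.cj u
      rw [cj_nn (nn_MF' s.le hu)] at b5
      exact s.ne (eq_bot_of_le (b5.cc le_rfl (prime_ne_bot (by rwa [card_cj, b2]))) le_rfl
        ((Solv.frobenius_nilpotent_le_centralizer nA rA (MF_nil M) (nn_MF' PM) (nn_MF' AM)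
          (coprime_mono s.coprime hP.le le_rfl) cA c).trans (cc_anti b4)))
    · obtain ⟨a, ha, a3⟩ := exists_ne_one (prime_ne_bot (a2 ▸ hq))
      have b := I_comm hM tM (AM ha) (PM (e.le hx)) (by rwa [prime_cc (a2 ▸ hq) ha a3]) c0
      have b1 := eq_one_of_inf sp.inf b (mul_mem (mul_mem (mul_mem (AL ha) (MF_le L (l (e.le hx))))
        (inv_mem (AL ha))) (inv_mem (MF_le L (l (e.le hx)))))
      exact x1 (eq_one_of_inf (rA a ha a3) (e.le hx)
        (mem_C1_comm.1 (mem_C1_of_conj (mul_inv_eq_one.1 b1))))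
  refine ⟨p, M, L, x, hp, hM, tM, fun k => (key M U hM s).1 k r.rkA, hL, tL, f, n,
    supp_of_FT hL xA nC sp, by rw [← Nat.card_zpowers, z], hc, LM, ?_,
    e.card ▸ card_le_of_le (e.le.trans l)⟩
  obtain ⟨R, hR⟩ : ∃ R, R = O {p} (MF L) := ⟨_, rfl⟩
  rw [← hR] at pO PO eP
  have Z0 : R ⊓ CC R ≠ ⊥ := nil_meet (nil_of_pg pO) le_rfl (le_nn R)
    fun k => e.ne_bot (le_bot_iff.1 (k ▸ e.le.trans PO))
  have el := omega_elem (p := p) (ab_center R)
  have lo := omega_le p (R ⊓ CC R)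
  have nD : D ≤ NN (omegaOne p (R ⊓ CC R)) := by have := t.le; rw [hR]; nrm
  have rD := (FT.Frob.reg f t.le t.inf).mono (lo.trans (inf_le_left.trans (hR ▸ O_le _ _))) le_rfl
  have lP : omegaOne p (R ⊓ CC R) ≤ P := eP ▸ lo.trans (inf_le_inf_left _
    ((cc_anti (zpowers_le.2 (PO (e.le hx)))).trans um.le))
  have lE : omegaOne p (R ⊓ CC R) ≤ E := (e.maxEl (c1 p hp P hP).2).le_of lP
    (ab_le_cc (c1 p hp P hP).1 lP e.le) el
  have k : #D ∣ p - 1 ∨ #D ∣ p + 1 := by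
    rcases e.line_or lE with k | k | k
    · exact absurd k (omega_ne_bot (pg_dvd (pO.to_le inf_le_left) Z0))
    · exact .inl (k ▸ rD.dvd nD)
    · rw [k] at nD rD
      exact dvd_of_reg_el2 e nD rD (odd_sub D) (zpowers_le.2 hx) z (eq_bot_of_le t.inf
        ((inf_le_inf t.le ((nn_cc le_rfl).trans um.nn_le)).trans LM) inf_le_left)
  rw [show (dH L).index = #D from t.relIndex]
  rcases k with k | k
  · have := two_mul_le_of_dvd (odd_sub D) (Nat.Odd.sub_odd po odd_one) (by omega) k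
    omega
  · exact two_mul_le_of_dvd (odd_sub D) po.add_one (by omega) k

end Cfsg.Agent.PF
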