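import Cfsg.Agent.Lib.Comp.Bal
import Cfsg.Agent.Lib.Solv.Coprime
import Cfsg.Agent.Lib.Transfer.Basic

/-! L-balance from the solvability of the centralizer of a Sylow subgroup of `F*`. -/

namespace Cfsg.Agent.Comp

open Subgroup

universe u

variable {G : Type u} [Group G] [Finite G] {p : ℕ} [hp : Fact p.Prime]

theorem PQS.resp_of_sup {K M : Subgroup G} (h : PQS p K) (h1 : M ≤ K) (h2 : Opp p K ⊔ M = K) :
    PQS p (Resp p M) := by
  let f := QuotientGroup.mk' (pPrimeCore p K)
  have hK : PQS p (⊤ : Subgroup K) := PQS.of_map_injective K.subtype_injective (by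
    rw [← MonoidHom.range_eq_map, range_subtype]; exact h)
  have hk : ∀ X : Subgroup K, (Nat.card (X ⊓ f.ker : Subgroup K)).Coprime p := fun X =>
    coprime_of_le (coprime_pPrimeCore p) (by rw [QuotientGroup.ker_mk']; exact inf_le_right)
  have e1 : (M.subgroupOf K).map f = (⊤ : Subgroup K).map f := by
    refine le_antisymm (map_mono le_top) ?_
    rw [Subgroup.map_le_map_iff, QuotientGroup.ker_mk']
    have : (M.subgroupOf K ⊔ pPrimeCore p K).map K.subtype = (⊤ : Subgroup K).map K.subtype := by
      rw [Subgroup.map_sup, map_subgroupOf_eq_of_le h1, map_pPrimeCore, sup_comm, h2,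
        ← MonoidHom.range_eq_map, range_subtype]
    exact (map_injective K.subtype_injective this).ge
  have e2 : PQS p (Resp p (M.subgroupOf K)) := by
    refine PQS.of_map f (Resp_Resp _) (hk _) ?_
    rw [map_Resp, e1, ← map_Resp, hK.resp]
    exact hK.map_of_coprime f (hk _)
  have := e2.map_of_injective K.subtype_injective
  rwa [map_Resp, map_subgroupOf_eq_of_le h1] at this

theorem PCompIn.le_of_sylow_solvable {F : Subgroup G} [F.Normal]
    (hS : ∀ Q, SylIn p Q F → Group.IsSolvable (centralizer (Q : Set G))) (T : Subgroup G) :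
    IsPGroup p T → ∀ K, PCompIn p K (centralizer (T : Set G)) → K ≤ F := by
  induction T using WellFoundedGT.induction with
  | ind T ih =>
  intro hT K hK
  obtain ⟨S, hTS, hS'⟩ := exists_sylIn_ge hT (le_sup_left : T ≤ T ⊔ F)
  rcases hTS.eq_or_lt with e | hlt
  · subst e
    have := hS _ (hS'.inf_normal le_sup_right (le_normalizer_normal F T))
    exact absurd (isSolvable_of_le (hK.subn.le.trans (centralizer_mono inf_le_left)) this)
      hK.pqs.not_isSolvable
  have hlt1 : T < S ⊓ normalizer (T : Set G) := Transfer.lt_inf_normalizer hS'.isP hlt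
  set T1 := S ⊓ normalizer (T : Set G) with hT1
  have hT1p : IsPGroup p T1 := hS'.isP.to_le inf_le_left
  set U := F ⊓ T1 with hU
  have hTU : T ⊔ U = T1 := by
    rw [hU, ← sup_inf_of_le_normalizer (le_normalizer_normal F T) hlt1.le,
      inf_eq_right.2 (inf_le_left.trans hS'.le)]
  have hKN : PCompIn p K (normalizer (T : Set G)) := ⟨hK.subn.trans (SubnIn.of_normalizer
    (centralizer_le_normalizer _) (normalizer_le_normalizer_centralizer T)), hK.pqs⟩
  have hFN : SubnIn (F ⊓ normalizer (T : Set G)) (normalizer (T : Set G)) :=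
    SubnIn.of_normalizer inf_le_right (le_normalizer_inf (le_normalizer_normal F _) le_normalizer)
  rcases hKN.le_or_commutator_le hFN with h | h
  · exact h.trans inf_le_left
  have h1 : ⁅K, U⁆ ≤ Opp p K := by
    rw [commutator_comm]
    exact (commutator_mono (inf_le_inf_left F inf_le_right) le_rfl).trans h
  have hUp : IsPGroup p U := hT1p.to_le inf_le_right
  have hUK : U ≤ normalizer (K : Set G) :=
    le_normalizer_iff_commutator_le_left.2 (h1.trans (Opp_le p K))
  have hc : (Nat.card U).Coprime (Nat.card (Opp p K)) := by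
    obtain ⟨k, hk⟩ := IsPGroup.iff_card.1 hUp
    rw [hk]; exact (coprime_Opp p K).symm.pow_left _
  have h2 := Solv.coprime_sup_centralizer_of_commutator_le (Opp_le p K)
    (le_normalizer_Opp_of_le le_rfl) (le_normalizer_Opp hUK) hc (Or.inl (isSolvable_of_isPGroup hUp)) h1
  have e : K ⊓ centralizer (U : Set G) = K ⊓ centralizer (T1 : Set G) := by
    rw [← hTU, centralizer_sup, ← inf_assoc, inf_eq_left.2 hK.subn.le]
  rw [e] at h2
  have h3 := hK.pqs.resp_of_sup inf_le_left h2
  have h4 := ih T1 hlt1 hT1p _ ⟨(ResPi_subnIn _ _).trans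
    (hK.subn.inf_of_le (centralizer_mono hlt1.le)), h3⟩
  rcases hK.pqs.normal (F ⊓ K) inf_le_right
    (le_normalizer_inf (le_normalizer_normal F _) le_normalizer) with h5 | h5
  · exact h5.ge.trans inf_le_left
  · have h6 : Resp p (K ⊓ centralizer (T1 : Set G)) ≤ K := (ResPi_le _ _).trans inf_le_left
    refine absurd ?_ (h3.not_le_of_coprime (coprime_Opp p K))
    rw [← h3.perfect]
    exact (commutator_mono (le_inf h4 h6) h6).trans h5

/-- L-balance, given that centralizers of Sylow subgroups of `F*(G/O_{p'}(G))` are solvable. -/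
theorem PLay_centralizer_le
    (hS : ∀ Q, SylIn p Q (Fstar (⊤ : Subgroup (G ⧸ pPrimeCore p G))) →
      Group.IsSolvable (centralizer (Q : Set (G ⧸ pPrimeCore p G))))
    {T : Subgroup G} (hT : IsPGroup p T) : PLay p (centralizer (T : Set G)) ≤ PLay p ⊤ := by
  let f := QuotientGroup.mk' (pPrimeCore p G)
  have hn : (Fstar (⊤ : Subgroup (G ⧸ pPrimeCore p G))).Normal := by
    rw [Fstar_top]; infer_instance
  have hc : (Nat.card T).Coprime (Nat.card (pPrimeCore p G)) := by
    obtain ⟨k, hk⟩ := IsPGroup.iff_card.1 hT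
    rw [hk]; exact (coprime_pPrimeCore p).symm.pow_left _
  have h1 : PLay p (centralizer ((T.map f : Subgroup _) : Set (G ⧸ pPrimeCore p G))) ≤ Lay ⊤ := by
    refine le_of_perfect_of_le_sup (PLay_perfect _) (S := Fit ⊤) ?_
      (le_normalizer_Lay (le_normalizer_normal ⊤ _)) (PLay_le_iff.2 fun K hK => ?_)
    · have := isNilpotent_Fit (⊤ : Subgroup (G ⧸ pPrimeCore p G)); infer_instance
    · exact PCompIn.le_of_sylow_solvable hS _ (hT.map f) K hK
  have h2 := map_PLay_le (p := p) f (centralizer (T : Set G))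
  rw [Solv.coprime_map_mk_centralizer hc (Or.inl (isSolvable_of_isPGroup hT))] at h2
  have h3 := map_le_iff_le_comap.1 (h2.trans h1)
  rw [Lay_top, comap_layer_mk, ← PLay_top, ← Opp_top] at h3
  rw [← Resp_PLay, ← Resp_PLay_sup_Opp ⊤]
  exact ResPi_mono h3

end Cfsg.Agent.Comp
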