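import Cfsg.Agent.Lib.FT.LBal
import Cfsg.Agent.Lib.Transfer.AutS

/-! L-balance for the prime `2`. -/

namespace Cfsg.Agent.Comp

open Subgroup

universe u

variable {G : Type u} [Group G] [Finite G]

theorem solvable_centralizer_sylIn_Fstar (hO : pPrimeCore 2 G = ⊥) {Q : Subgroup G}
    (hQ : SylIn 2 Q (Fstar (⊤ : Subgroup G))) : Group.IsSolvable (centralizer (Q : Set G)) := by
  have : (Fstar (⊤ : Subgroup G)).Normal := by rw [Fstar_top]; infer_instance
  have hF : oddCore (Fstar (⊤ : Subgroup G)) = ⊥ := by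
    refine Opp_eq_bot_iff.1 (le_bot_iff.1 ?_)
    have := (Fstar_subnIn (⊤ : Subgroup G)).Opp_le 2
    rwa [Opp_top, hO] at this
  let f : G →* MulAut (Fstar (⊤ : Subgroup G)) := MulAut.conjNormal
  refine isSolvable_of_map f ?_ ?_
  · refine Transfer.sol_of_hasNPC_two (Transfer.hasNPC_cent_syl hF hQ.toSylow ?_)
    rintro _ ⟨g, hg, rfl⟩ s hs
    refine Subtype.ext ?_
    have h1 : (s : G) ∈ Q := hs
    have := (mem_centralizer_iff.1 hg) _ h1
    change g * s * g⁻¹ = s
    rw [← this]; group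
  · have h1 : (centralizer (Q : Set G) ⊓ f.ker : Subgroup G) ≤ Fit ⊤ := by
      refine le_trans ?_ (inf_centralizer_Fstar_le_Fit ⊤)
      rintro g ⟨-, hg⟩
      refine ⟨trivial, mem_centralizer_iff.2 fun h hh => ?_⟩
      have h2 : f g ⟨h, hh⟩ = ⟨h, hh⟩ := by rw [MonoidHom.mem_ker.1 hg]; rfl
      have h3 : g * h * g⁻¹ = h := congrArg Subtype.val h2
      rw [← mul_inv_eq_iff_eq_mul.1 h3]
    have := isNilpotent_Fit (⊤ : Subgroup G)
    exact Group.isSolvable_of_isSolvable_injective (inclusion_injective h1)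

/-- `L`-balance. -/
theorem L_balance {T : Subgroup G} (hT : IsPGroup 2 T) : PLay 2 (centralizer (T : Set G)) ≤ PLay 2 ⊤ :=
  PLay_centralizer_le (fun _ hQ => solvable_centralizer_sylIn_Fstar pPrimeCore_quotient hQ) hT

end Cfsg.Agent.Comp
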