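import Cfsg.Agent.Lib.Char.Sec6

/-!
Arithmetic for Peterfalvi's Section 14.
-/

set_option autoImplicit false

namespace Cfsg.Agent.PF

variable {p q u v h x m : ℕ}

theorem geo_eq (hp : 2 ≤ p) (q : ℕ) : (p ^ q - 1) / (p - 1) = ∑ i ∈ Finset.range q, p ^ i :=
  (Nat.geomSum_eq hp q).symm

theorem geo_mul (hp : 2 ≤ p) (q : ℕ) : (p - 1) * ((p ^ q - 1) / (p - 1)) + 1 = p ^ q := by
  rw [Nat.mul_div_cancel' (by simpa using Nat.sub_dvd_pow_sub_pow p 1 q),
    Nat.sub_add_cancel (Nat.one_le_pow _ _ (by omega))]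

theorem geo_modEq (hp : 2 ≤ p) (hq : 1 ≤ q) : (p ^ q - 1) / (p - 1) ≡ 1 [MOD p] := by
  obtain ⟨q, rfl⟩ := Nat.exists_eq_add_of_le' hq
  rw [geo_eq hp, Finset.sum_range_succ', pow_zero]
  simp only [pow_succ, ← Finset.sum_mul]
  simp [Nat.ModEq]

theorem le_geo (hp : 2 ≤ p) (hq : 1 ≤ q) : p ^ (q - 1) ≤ (p ^ q - 1) / (p - 1) := by
  rw [geo_eq hp]
  exact Finset.single_le_sum (f := fun i => p ^ i) (fun _ _ => Nat.zero_le _)
    (Finset.mem_range.2 (by omega))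

theorem pow_lt_pow_14 (hq : q = 3 ∨ 5 ≤ q) (hp : q + 2 ≤ p) : p ^ (q + 1) < q ^ (p + 1) := by
  rcases hq with rfl | hq
  · induction p, hp using Nat.le_induction with
    | base => norm_num
    | succ n hn ih =>
      have : (n + 1) ^ 4 ≤ 3 * n ^ 4 := by
        obtain ⟨k, rfl⟩ := Nat.exists_eq_add_of_le hn
        ring_nf; omega
      rw [pow_succ 3 (n + 1)]; norm_num only at ih ⊢; omega
  obtain ⟨t, rfl⟩ := Nat.exists_eq_add_of_le (show q ≤ p by omega)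
  have h1 : (5 : ℝ) ≤ q := by exact_mod_cast hq
  have h2 : Real.exp ((q + 1) / q) < q := by
    have e1 : Real.exp ((q + 1) / q) ≤ Real.exp (3 / 2) :=
      Real.exp_le_exp.2 (by rw [div_le_iff₀ (by positivity)]; linarith)
    have e2 : Real.exp (3 / 2) ^ 2 = Real.exp 1 ^ 3 := by rw [← Real.exp_nat_mul, ← Real.exp_nat_mul]; norm_num
    have e3 : Real.exp 1 ^ 3 < 5 ^ 2 :=
      (pow_le_pow_left₀ (Real.exp_pos 1).le (Real.exp_one_lt_d9.le.trans (by norm_num : _ ≤ (2.8 : ℝ))) 3).trans_lt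
        (by norm_num)
    have := lt_of_pow_lt_pow_left₀ 2 (by norm_num) (e2 ▸ e3)
    linarith
  have h3 : ((q + t : ℕ) : ℝ) ^ (q + 1) < q ^ (q + t + 1) := by
    calc ((q + t : ℕ) : ℝ) ^ (q + 1) = (q * (t / q + 1)) ^ (q + 1) := by push_cast; field_simp; ring
      _ ≤ (q * Real.exp (t / q)) ^ (q + 1) := by gcongr; exact Real.add_one_le_exp _
      _ = q ^ (q + 1) * Real.exp ((q + 1) / q) ^ t := by
        rw [mul_pow, ← Real.exp_nat_mul, ← Real.exp_nat_mul]; congr 2; push_cast; ring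
      _ < q ^ (q + 1) * q ^ t := by gcongr; omega
      _ = _ := by ring
  exact_mod_cast h3

/-- (14.8) -/
theorem div_lt_14 (hq : q = 3 ∨ 5 ≤ q) (hp : q + 2 ≤ p) (hu : u ≤ (p ^ q - 1) / (p - 1))
    (hv : v = (q ^ p - 1) / (q - 1)) : ((u : ℝ) - 1) / q < (v - 1) / p := by
  have h1 := geo_mul (p := p) (by omega) q
  have h2 := geo_mul (p := q) (by omega) p
  have h3 := pow_lt_pow_14 hq hp
  rw [← hv] at h2
  rw [pow_succ, pow_succ, ← h1, ← h2] at h3
  have h4 : 1 ≤ v := hv ▸ (Nat.one_le_pow _ _ (by omega)).trans (le_geo (by omega) (by omega))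
  generalize (p ^ q - 1) / (p - 1) = N at *
  obtain ⟨a, rfl⟩ : ∃ a, q = a + 1 := ⟨q - 1, by omega⟩
  obtain ⟨b, rfl⟩ : ∃ b, p = b + 1 := ⟨p - 1, by omega⟩
  simp only [Nat.add_sub_cancel] at h3
  have h5 : ((b : ℝ) * N + 1) * (b + 1) < (a * v + 1) * (a + 1) := by exact_mod_cast h3
  have h6 : (u : ℝ) ≤ N := by exact_mod_cast hu
  have h7 : (a : ℝ) + 2 ≤ b := by exact_mod_cast (by omega)
  have h8 : (1 : ℝ) ≤ v := by exact_mod_cast h4
  have h9 : (0 : ℝ) ≤ a := by positivity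
  push_cast
  rw [div_lt_div_iff₀ (by positivity) (by positivity)]
  refine lt_of_mul_lt_mul_left (a := (b : ℝ)) ?_ (by positivity)
  nlinarith [mul_nonneg (sub_nonneg.2 h8) (show (0 : ℝ) ≤ (b - a) * (a + 1) by nlinarith),
    mul_le_mul_of_nonneg_left h6 (show (0 : ℝ) ≤ b * (b + 1) by positivity)]

theorem eq_of_pow_le (hp : p.Prime) (hq : q.Prime) (h3 : 3 ≤ q) (hlt : q < p)
    (h : q ^ (p - 1) ≤ (p * q) ^ 2) : q = 3 ∧ p = 5 := by
  have h1 : p < 7 := by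
    by_contra e
    have h2 : ∀ n, 7 ≤ n → n ^ 2 < 3 ^ (n - 3) := fun n hn => by
      induction n, hn using Nat.le_induction with
      | base => norm_num
      | succ n hn ih => rw [show n + 1 - 3 = n - 3 + 1 by omega, pow_succ 3]; nlinarith
    have h4 := (h2 p (by omega)).trans_le (Nat.pow_le_pow_left h3 _)
    rw [show p - 1 = p - 3 + 2 by omega, pow_add, mul_pow] at h
    exact absurd (Nat.le_of_mul_le_mul_right h (by positivity)) (by omega)
  obtain ⟨a, ha⟩ := hp.odd_of_ne_two (by omega)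
  obtain ⟨b, hb⟩ := hq.odd_of_ne_two (by omega)
  omega

theorem le_of_mul_modEq (ho : Odd (u * x)) (hm : Odd m) (h1 : u * x ≡ 1 [MOD m]) (h2 : u ≡ 1 [MOD m])
    (hx : x ≠ 1) : 2 * m + 1 ≤ x := by
  have h3 := Nat.odd_mul.1 ho
  have h4 : x ≡ 1 [MOD m] := by simpa using (h2.mul_right x).symm.trans h1
  have := h3.2.pos
  exact Char.two_mul_add_one_le_of_dvd hm h3.2 (by omega)
    ((Nat.modEq_iff_dvd' (by omega)).1 h4.symm)

theorem not_modEq_14 (hq : 3 ≤ q) (hlt : q < p) (h1 : q * u = (p ^ q - 1) / (p - 1))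
    (h2 : u ≡ 1 [MOD p]) : False := by
  have h3 : q ≡ 1 [MOD p] := by
    simpa using (h2.mul_left q).symm.trans (h1 ▸ geo_modEq (by omega) (by omega))
  have := Nat.ModEq.eq_of_lt_of_lt h3 hlt (by omega)
  omega

/-- (14.15) -/
theorem lt_14_15 (hp : p.Prime) (hq : q.Prime) (h3 : 3 ≤ q) (hlt : q < p) (hd : q ∣ p - 1)
    (h1 : q * u = (p ^ q - 1) / (p - 1)) (ho : Odd (u * x)) (h2 : u * x ≡ 1 [MOD p * q])
    (h4 : u ≡ 1 [MOD q]) : p * q * (p * q - 1) + 1 < u * x := by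
  have hc : p.Coprime q := (Nat.coprime_primes hp hq).2 hlt.ne'
  have h5 : x ≡ p + q [MOD p] := by
    have e1 := (h2.of_mul_right q).mul_left q
    have e2 := (geo_modEq (p := p) (q := q) (by omega) (by omega)).mul_right x
    rw [← h1, mul_assoc, one_mul] at e2
    simpa [Nat.ModEq] using e2.symm.trans e1
  have h6 : x ≡ p + q [MOD q] := by
    have e1 : x ≡ 1 [MOD q] := by simpa using (h4.mul_right x).symm.trans (h2.of_mul_left p)
    have e2 : 1 ≡ p [MOD q] := (Nat.modEq_iff_dvd' hp.one_le).2 hd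
    simpa [Nat.ModEq] using e1.trans e2
  have h7 := (Nat.modEq_and_modEq_iff_modEq_mul hc).1 ⟨h5, h6⟩
  obtain ⟨a, ha⟩ := hp.odd_of_ne_two (by omega)
  obtain ⟨b, hb⟩ := hq.odd_of_ne_two (by omega)
  obtain ⟨c, hc⟩ := (Nat.odd_mul.1 ho).2
  have h8 : p + q < p * q := by nlinarith
  have h9 : p * q + p + q ≤ x := by
    have e1 : x % (p * q) = p + q := by rw [h7, Nat.mod_eq_of_lt h8]
    have e2 := Nat.div_add_mod x (p * q)
    rcases Nat.eq_zero_or_pos (x / (p * q)) with e | e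
    · rw [e] at e2; omega
    · nlinarith
  obtain ⟨w, hw⟩ : ∃ w, p * q = w + 1 := ⟨p * q - 1, by omega⟩
  refine lt_of_mul_lt_mul_left (a := q) (lt_of_lt_of_le ?_ (show q * u * (p * q + p + q) ≤ _ by
    rw [mul_assoc]; gcongr)) (Nat.zero_le _)
  by_cases e : q = 3
  · subst e
    rw [h1, geo_eq (by omega)]
    simp only [Finset.sum_range_succ, Finset.sum_range_zero]
    zify [show 1 ≤ p * 3 by omega]
    have : (5 : ℤ) ≤ p := by exact_mod_cast (by omega)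
    nlinarith [mul_nonneg (sub_nonneg.2 this) (sq_nonneg (p : ℤ))]
  · have e1 : p ^ 4 ≤ q * u := h1 ▸ (Nat.pow_le_pow_right hp.pos (by omega)).trans
      (le_geo (by omega) (by omega))
    calc q * (p * q * (p * q - 1) + 1) ≤ q * (p * q * (p * q)) := by
          rw [hw, Nat.add_sub_cancel]; gcongr; nlinarith
      _ = p ^ 2 * q ^ 2 * q := by ring
      _ ≤ p ^ 2 * p ^ 2 * q := by gcongr
      _ = p ^ 4 * q := by ring
      _ < p ^ 4 * (p * q + p + q) := Nat.mul_lt_mul_of_pos_left (by omega) (pow_pos hp.pos _)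
      _ ≤ _ := by gcongr

/-- (14.11.4) -/
theorem lt_14_11 {p q u v k : ℝ} (hq : 3 ≤ q) (hp : q ≤ p) (hu : 7 ≤ u) (hv : q ^ 4 ≤ v)
    (hk : 2 * p * v ≤ k) :
    q * p / k + 1 / (q * p) + (1 / (u * q) + (q - 1) * (p - 1) / (q * p) + 1 / (v * p)) < 1 := by
  have h0 : 0 < q := by linarith
  have h1 : 0 < p := by linarith
  have h2 : 9 * q ^ 2 ≤ v := by nlinarith [mul_le_mul_of_nonneg_right (show 9 ≤ q ^ 2 by nlinarith) (sq_nonneg q)]
  have h3 : 0 < v := by nlinarith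
  have e1 : q * p / k ≤ 1 / (18 * q) := by
    rw [div_le_div_iff₀ (by nlinarith [mul_pos h1 h3]) (by positivity)]; nlinarith
  have e2 : 1 / (u * q) ≤ 1 / (7 * q) := by gcongr
  have e3 : 1 / (v * p) ≤ 1 / (q * p) := by gcongr; nlinarith
  have e4 : 1 / (18 * q) + 1 / (q * p) + (1 / (7 * q) + (q - 1) * (p - 1) / (q * p) + 1 / (q * p)) < 1 := by
    field_simp
    nlinarith
  linarith

end Cfsg.Agent.PF
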