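import Cfsg.Agent.Lib.FT.Schr

/-! The pump-up lemma: `p`-components of centralizers inside the layer. -/

namespace Cfsg.Agent.Comp

open Subgroup

universe u

section
variable {G : Type*} [Group G]

theorem mem_of_pow_mem_of_pow_mem {x : G} {a b : ℕ} (h : a.Coprime b) {H : Subgroup G} (ha : x ^ a ∈ H)
    (hb : x ^ b ∈ H) : x ∈ H := by
  obtain ⟨u, v, e⟩ := Nat.isCoprime_iff_coprime.2 h
  have : x = (x ^ a) ^ u * (x ^ b) ^ v := by
    rw [← zpow_natCast, ← zpow_natCast, ← zpow_mul, ← zpow_mul, ← zpow_add, mul_comm, mul_comm (b : ℤ), e,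
      zpow_one]
  rw [this]; exact mul_mem (zpow_mem ha u) (zpow_mem hb v)

theorem commutator_le_inf_centralizer_aux {J J' A I : Subgroup G} (hJ : A ≤ normalizer (J : Set G))
    (hJ' : A ≤ normalizer (J' : Set G)) (hc : J' ≤ centralizer (J : Set G)) (h1 : I ≤ J ⊔ J')
    (h2 : I ≤ centralizer (A : Set G)) :
    ⁅J ⊓ (I ⊔ J'), J ⊓ (I ⊔ J')⁆ ≤ J ⊓ centralizer (A : Set G) := by
  have h3 : ⁅J ⊓ (I ⊔ J'), A⁆ ≤ J' :=
    (commutator_mono inf_le_right le_rfl).trans (commutator_sup_left_le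
      (h1.trans (sup_le (le_normalizer_of_le_centralizer (le_centralizer_iff.1 hc)) le_normalizer))
      le_normalizer (by rw [commutator_eq_bot_iff_le_centralizer.2 h2]; exact bot_le)
      (commutator_le_left_of_le_normalizer hJ'))
  have h4 : ⁅⁅J ⊓ (I ⊔ J'), A⁆, J ⊓ (I ⊔ J')⁆ = ⊥ :=
    commutator_eq_bot_iff_le_centralizer.2 (h3.trans (hc.trans (centralizer_mono inf_le_left)))
  refine le_inf ((commutator_mono inf_le_left inf_le_left).trans (commutator_le_left_of_le_normalizer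
    le_normalizer)) (commutator_eq_bot_iff_le_centralizer.1 ?_)
  exact commutator_commutator_eq_bot_of_rotate h4 (by rw [commutator_comm A]; exact h4)

theorem le_sup_of_perfect_of_commute {J J' A I : Subgroup G} (hJ : A ≤ normalizer (J : Set G))
    (hJ' : A ≤ normalizer (J' : Set G)) (hc : J' ≤ centralizer (J : Set G)) (hI : ⁅I, I⁆ = I)
    (h1 : I ≤ J ⊔ J') (h2 : I ≤ centralizer (A : Set G)) :
    I ≤ (J ⊓ centralizer (A : Set G)) ⊔ (J' ⊓ centralizer (A : Set G)) := by
  have hc' := le_centralizer_iff.1 hc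
  have a1 := commutator_le_inf_centralizer_aux hJ hJ' hc h1 h2
  have a2 := commutator_le_inf_centralizer_aux hJ' hJ hc' (by rwa [sup_comm]) h2
  set B := J ⊓ (I ⊔ J')
  set B' := J' ⊓ (I ⊔ J)
  have hB : B' ≤ centralizer (B : Set G) := inf_le_left.trans (hc.trans (centralizer_mono inf_le_left))
  have hB' := le_centralizer_iff.1 hB
  have h3 : I ≤ B ⊔ B' := by
    intro g hg
    obtain ⟨a, ha, b, hb, rfl⟩ := (mem_sup_of_le_normalizer (le_normalizer_of_le_centralizer hc')).1 (h1 hg)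
    refine mul_mem (mem_sup_left ⟨ha, ?_⟩) (mem_sup_right ⟨hb, ?_⟩)
    · have : a = a * b * b⁻¹ := by group
      rw [this]; exact Subgroup.mul_mem _ (mem_sup_left hg) (mem_sup_right (inv_mem hb))
    · have : b = a⁻¹ * (a * b) := by group
      rw [this]; exact Subgroup.mul_mem _ (mem_sup_right (inv_mem ha)) (mem_sup_left hg)
  have n1 : B ≤ normalizer ((⁅B, B⁆ ⊔ ⁅B', B'⁆ : Subgroup G) : Set G) :=
    le_normalizer_sup (le_normalizer_commutator le_normalizer le_normalizer)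
      (le_normalizer_commutator (le_normalizer_of_le_centralizer hB') (le_normalizer_of_le_centralizer hB'))
  have n2 : B' ≤ normalizer ((⁅B, B⁆ ⊔ ⁅B', B'⁆ : Subgroup G) : Set G) :=
    le_normalizer_sup (le_normalizer_commutator (le_normalizer_of_le_centralizer hB)
      (le_normalizer_of_le_centralizer hB)) (le_normalizer_commutator le_normalizer le_normalizer)
  have h4 : ⁅B ⊔ B', B ⊔ B'⁆ ≤ ⁅B, B⁆ ⊔ ⁅B', B'⁆ :=
    commutator_sup_left_le n1 n2 (commutator_sup_right_le n1 n2 le_sup_left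
      (by rw [commutator_eq_bot_iff_le_centralizer.2 hB']; exact bot_le))
      (commutator_sup_right_le n1 n2 (by rw [commutator_eq_bot_iff_le_centralizer.2 hB]; exact bot_le)
        le_sup_right)
  rw [← hI]
  exact (commutator_mono h3 h3).trans (h4.trans (sup_le_sup a1 a2))

/-- The subgroup generated by the `A`-conjugates of `L`. -/
def Orb (A L : Subgroup G) : Subgroup G := ⨆ a : A, cj((a : G), L)

theorem cj_le_Orb {A : Subgroup G} (L : Subgroup G) {a : G} (ha : a ∈ A) : cj(a, L) ≤ Orb A L :=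
  le_iSup (fun a : A => cj((a : G), L)) ⟨a, ha⟩

theorem le_Orb (A L : Subgroup G) : L ≤ Orb A L := by
  have := cj_le_Orb L A.one_mem
  rwa [cj_one] at this

theorem Orb_le_iff {A L X : Subgroup G} : Orb A L ≤ X ↔ ∀ a ∈ A, cj(a, L) ≤ X := by
  rw [Orb, iSup_le_iff]; exact ⟨fun h a ha => h ⟨a, ha⟩, fun h a => h a a.2⟩

theorem le_normalizer_Orb (A L : Subgroup G) : A ≤ normalizer (Orb A L : Set G) := by
  refine le_normalizer_of_cj_le fun g hg => cj_le_iff.2 (Orb_le_iff.2 fun a ha => ?_)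
  rw [← cj_le_iff, ← cj_mul]; exact cj_le_Orb L (mul_mem hg ha)

theorem Orb_eq_self {A L : Subgroup G} (h : A ≤ normalizer (L : Set G)) : Orb A L = L :=
  le_antisymm (Orb_le_iff.2 fun _ ha => (cj_eq_self_iff.2 (h ha)).le) (le_Orb A L)

theorem Orb_le_of_le_normalizer {A L X : Subgroup G} (h : A ≤ normalizer (X : Set G)) (h1 : L ≤ X) :
    Orb A L ≤ X :=
  Orb_le_iff.2 fun _ ha => cj_le_of_mem h1 (h ha)

theorem inf_centralizer_le_centralizer_Orb (A L : Subgroup G) :
    centralizer (A : Set G) ⊓ centralizer (L : Set G) ≤ centralizer (Orb A L : Set G) := by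
  refine le_centralizer_iff.1 (Orb_le_of_le_normalizer ?_ (le_centralizer_iff.1 inf_le_right))
  exact le_normalizer_centralizer (le_normalizer_of_le_centralizer (le_centralizer_iff.1 inf_le_left))

/-- `l · l^x ⋯ l^{x^{k-1}}`. -/
def dg (x : G) (k : ℕ) (l : G) : G := (l * x) ^ k * (x ^ k)⁻¹

theorem dg_succ (x : G) (k : ℕ) (l : G) : dg x (k + 1) l = dg x k l * (x ^ k * l * (x ^ k)⁻¹) := by
  rw [dg, dg, pow_succ (l * x) k, pow_succ' x k]; group

theorem dg_zero (x l : G) : dg x 0 l = 1 := by simp [dg]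

theorem dg_two (x l : G) : dg x 2 l = l * (x * l * x⁻¹) := by
  rw [dg_succ, dg_succ, dg_zero]; group

theorem dg_mem {x l : G} {L E : Subgroup G} (hl : l ∈ L) {k : ℕ} (h : ∀ i, i < k → cj(x ^ i, L) ≤ E) :
    dg x k l ∈ E := by
  induction k with
  | zero => rw [dg_zero]; exact one_mem _
  | succ k ih =>
    rw [dg_succ]
    exact mul_mem (ih fun i hi => h i (by omega)) (h k (by omega) (conj_mem_cj.2 hl))

theorem inv_mul_dg_mem {x l : G} {L E : Subgroup G} (hl : l ∈ L) {k : ℕ}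
    (h : ∀ i, 0 < i → i < k + 1 → cj(x ^ i, L) ≤ E) : l⁻¹ * dg x (k + 1) l ∈ E := by
  induction k with
  | zero => rw [dg_succ, dg_zero]; simp
  | succ k ih =>
    rw [dg_succ, ← mul_assoc]
    exact mul_mem (ih fun i h0 hi => h i h0 (by omega)) (h (k + 1) (by omega) (by omega) (conj_mem_cj.2 hl))

theorem dg_mul {x l l' : G} {L : Subgroup G} (hl : l ∈ L) (hl' : l' ∈ L) {k : ℕ}
    (h : ∀ i j, i < j → j < k → cj(x ^ i, L) ≤ centralizer (cj(x ^ j, L) : Set G)) :
    dg x k (l * l') = dg x k l * dg x k l' := by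
  induction k with
  | zero => simp [dg_zero]
  | succ k ih =>
    have h1 : dg x k l' ∈ centralizer (cj(x ^ k, L) : Set G) :=
      dg_mem hl' fun i hi => h i k hi (by omega)
    have h2 := h1 _ (conj_mem_cj.2 hl)
    rw [dg_succ, dg_succ, dg_succ, ih fun i j a b => h i j a (by omega)]
    calc _ = dg x k l * (dg x k l' * (x ^ k * l * (x ^ k)⁻¹)) * (x ^ k * l' * (x ^ k)⁻¹) := by group
      _ = _ := by rw [← h2]; group

theorem dg_mem_centralizer {x l : G} {L : Subgroup G} (hl : l ∈ L) {k : ℕ}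
    (hx : x ^ (k + 1) ∈ centralizer (L : Set G))
    (h : ∀ i, 0 < i → i < k + 1 → cj(x ^ i, L) ≤ centralizer (L : Set G)) :
    dg x (k + 1) l ∈ centralizer ({x} : Set G) := by
  refine mem_centralizer_singleton_iff.2 ?_
  have h1 : Commute ((l * x) ^ (k + 1)) (l * x) := (Commute.refl _).pow_left _
  have h2 : Commute ((l * x) ^ (k + 1)) l := by
    have h3 : Commute l (l⁻¹ * dg x (k + 1) l) := inv_mul_dg_mem hl h l hl
    have h4 : Commute l (x ^ (k + 1)) := hx l hl
    have := (((Commute.refl l).mul_right h3).mul_right h4).symm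
    rwa [mul_inv_cancel_left, dg, inv_mul_cancel_right] at this
  have h5 := h2.inv_right.mul_right h1
  rw [inv_mul_cancel_left] at h5
  exact (h5.mul_left ((Commute.refl x).pow_left _).inv_left).eq

end

variable {G : Type u} [Group G] [Finite G] {p : ℕ} [hp : Fact p.Prime]

theorem PCompIn.le_or_le_of_commute {J J' A I : Subgroup G} (hJ : A ≤ normalizer (J : Set G))
    (hJ' : A ≤ normalizer (J' : Set G)) (hc : J' ≤ centralizer (J : Set G))
    (hI : PCompIn p I ((J ⊔ J') ⊓ centralizer (A : Set G))) : I ≤ J ∨ I ≤ J' := by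
  have hc' := le_centralizer_iff.1 hc
  have h1 := le_sup_of_perfect_of_commute hJ hJ' hc hI.pqs.perfect (hI.le.trans inf_le_left)
    (hI.le.trans inf_le_right)
  have s1 : SubnIn (J ⊓ centralizer (A : Set G)) ((J ⊔ J') ⊓ centralizer (A : Set G)) :=
    (SubnIn.of_normalizer le_sup_left (sup_le le_normalizer (le_normalizer_of_le_centralizer hc))).inf_right _
  have s2 : SubnIn (J' ⊓ centralizer (A : Set G)) ((J ⊔ J') ⊓ centralizer (A : Set G)) :=
    (SubnIn.of_normalizer le_sup_right (sup_le (le_normalizer_of_le_centralizer hc') le_normalizer)).inf_right _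
  rcases hI.le_or_commutator_le s1 with a | a
  · exact Or.inl (a.trans inf_le_left)
  rcases hI.le_or_commutator_le s2 with b | b
  · exact Or.inr (b.trans inf_le_left)
  refine absurd ?_ (hI.pqs.not_le_of_coprime (coprime_Opp p I))
  have := commutator_sup_left_le
    (le_normalizer_Opp (le_normalizer_iff_commutator_le_right.2 (a.trans (Opp_le p I))))
    (le_normalizer_Opp (le_normalizer_iff_commutator_le_right.2 (b.trans (Opp_le p I)))) a b
  exact hI.pqs.perfect.ge.trans ((commutator_mono h1 le_rfl).trans this)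

omit hp in
theorem CompIn.Orb_le_Lay {L M A : Subgroup G} (hL : CompIn L M) (hA : A ≤ normalizer (M : Set G)) :
    Orb A L ≤ Lay M :=
  Orb_le_of_le_normalizer (le_normalizer_Lay hA) hL.le_Lay

omit hp in
theorem CompIn.Lay_le_normalizer_Orb {L M A : Subgroup G} (hL : CompIn L M)
    (hA : A ≤ normalizer (M : Set G)) : Lay M ≤ normalizer (Orb A L : Set G) :=
  le_normalizer_iSup fun a => (hL.cj_of_mem (hA a.2)).Lay_le_normalizer

omit hp in
theorem CompIn.Orb_le_sup {L M A : Subgroup G} (hL : CompIn L M) (hA : A ≤ normalizer (M : Set G)) :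
    Orb A L ≤ L ⊔ (Orb A L ⊓ centralizer (L : Set G)) := by
  refine Orb_le_iff.2 fun a ha => ?_
  rcases (hL.cj_of_mem (hA ha)).eq_or_le_centralizer hL with h | h
  · exact h.le.trans le_sup_left
  · exact (le_inf (cj_le_Orb L ha) h).trans le_sup_right

theorem PCompIn.exists_le_Orb {M A I : Subgroup G} (hA : A ≤ normalizer (M : Set G))
    (hI : PCompIn p I (Lay M ⊓ centralizer (A : Set G))) : ∃ L, CompIn L M ∧ I ≤ Orb A L := by
  by_contra hn
  push Not at hn
  refine hI.pqs.not_le_centralizer (le_trans ?_ (centralizer_mono (hI.le.trans inf_le_left)))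
  refine le_centralizer_sSup.2 fun L (hL : CompIn L M) => ?_
  let S := {K | CompIn K M ∧ ∀ a ∈ A, K ≠ cj(a, L)}
  have h1 : Orb A L ⊔ sSup S = Lay M := by
    refine le_antisymm (sup_le (hL.Orb_le_Lay hA) (sSup_le fun K hK => hK.1.le_Lay))
      (Lay_le_iff.2 fun K hK => ?_)
    by_cases h : K ∈ S
    · exact (le_sSup h).trans le_sup_right
    · simp only [S, Set.mem_setOf_eq, not_and, not_forall, not_not] at h
      obtain ⟨a, ha, rfl⟩ := h hK
      exact (cj_le_Orb L ha).trans le_sup_left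
  have h2 : sSup S ≤ centralizer (Orb A L : Set G) :=
    le_centralizer_iSup.2 fun a => sSup_le fun K hK =>
      hK.1.le_centralizer_of_ne (hL.cj_of_mem (hA a.2)) (hK.2 a a.2)
  have h3 : ∀ g ∈ A, ∀ K ∈ S, cj(g, K) ∈ S := fun g hg K hK =>
    ⟨hK.1.cj_of_mem (hA hg), fun a ha e => hK.2 (g⁻¹ * a) (mul_mem (inv_mem hg) ha) (by
      rw [cj_mul, ← e, cj_inv_cj])⟩
  rw [← h1] at hI
  rcases hI.le_or_le_of_commute (le_normalizer_Orb A L) (le_normalizer_sSup h3) h2 with h | h
  · exact absurd h (hn L hL)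
  · exact h.trans (h2.trans (centralizer_mono (le_Orb A L)))

/-- The diagonal of the orbit of a component. -/
theorem CompIn.exists_diag {L M : Subgroup G} (hL : CompIn L M) {x : G} (hx : x ∈ normalizer (M : Set G))
    (hxp : x ^ p ∈ centralizer (L : Set G)) (hn : x ∉ normalizer (L : Set G)) :
    ∃ δ : L →* G, (∀ l, δ l = dg x p l) ∧ (∀ l : L, (l : G)⁻¹ * δ l ∈ centralizer (L : Set G)) ∧
      δ.range ≤ Orb (zpowers x) L ⊓ centralizer ({x} : Set G) ∧
      Orb (zpowers x) L ⊓ centralizer ({x} : Set G) ≤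
        δ.range ⊔ (Orb (zpowers x) L ⊓ centralizer (Orb (zpowers x) L : Set G)) ∧ QS δ.range := by
  have hA : zpowers x ≤ normalizer (M : Set G) := zpowers_le.2 hx
  have h1 : ∀ i j, i < j → j < p → cj(x ^ i, L) ≤ centralizer (cj(x ^ j, L) : Set G) := by
    intro i j a b
    refine (hL.cj_of_mem (pow_mem hx i)).le_centralizer_of_ne (hL.cj_of_mem (pow_mem hx j)) fun e => hn ?_
    refine mem_of_pow_mem_of_pow_mem (a := j - i) (Nat.coprime_of_lt_prime (by omega) (by omega) hp.out).symm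
      ?_ (centralizer_le_normalizer _ hxp)
    obtain ⟨k, rfl⟩ := Nat.exists_eq_add_of_lt a
    rw [add_assoc, pow_add, cj_mul, cj_inj] at e
    rw [show i + k + 1 - i = k + 1 by omega]
    exact cj_eq_self_iff.1 e.symm
  have h2 : ∀ i, 0 < i → i < p → cj(x ^ i, L) ≤ centralizer (L : Set G) := fun i a b => by
    have := le_centralizer_iff.1 (h1 0 i a b)
    rwa [pow_zero, cj_one] at this
  obtain ⟨k, hk⟩ : ∃ k, p = k + 1 := ⟨p - 1, by have := hp.out.pos; omega⟩
  let δ : L →* G := MonoidHom.mk' (fun l => dg x p l) fun a b => dg_mul a.2 b.2 h1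
  have h3 : ∀ l : L, (l : G)⁻¹ * δ l ∈ centralizer (L : Set G) := fun l => by
    change _ * dg x p l ∈ _
    rw [hk] at h2 ⊢; exact inv_mul_dg_mem l.2 h2
  have h4 : δ.range ≤ Orb (zpowers x) L ⊓ centralizer ({x} : Set G) := by
    rintro _ ⟨l, rfl⟩
    refine ⟨dg_mem l.2 fun i _ => cj_le_Orb L (pow_mem (mem_zpowers x) i), ?_⟩
    change dg x p l ∈ _
    rw [hk] at h2 hxp ⊢; exact dg_mem_centralizer l.2 hxp h2
  refine ⟨δ, fun _ => rfl, h3, h4, ?_, ?_⟩
  · rintro c ⟨c1, c2⟩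
    obtain ⟨l, hl, d, hd, rfl⟩ := (mem_sup_of_le_normalizer' (le_normalizer_of_le_centralizer
      inf_le_right)).1 (hL.Orb_le_sup hA c1)
    have e : l * d = δ ⟨l, hl⟩ * ((δ ⟨l, hl⟩)⁻¹ * (l * d)) := by group
    rw [e]
    have h5 := h4 ⟨⟨l, hl⟩, rfl⟩
    refine mul_mem (mem_sup_left ⟨_, rfl⟩) (mem_sup_right ⟨Subgroup.mul_mem _ (Subgroup.inv_mem _ h5.1) c1,
      inf_centralizer_le_centralizer_Orb _ _ ⟨?_, ?_⟩⟩)
    · rw [centralizer_zpowers]; exact Subgroup.mul_mem _ (Subgroup.inv_mem _ h5.2) c2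
    · have e : (δ ⟨l, hl⟩)⁻¹ * (l * d) = (l⁻¹ * δ ⟨l, hl⟩)⁻¹ * d := by group
      rw [e]; exact Subgroup.mul_mem _ (Subgroup.inv_mem _ (h3 ⟨l, hl⟩)) hd.2
  · rw [MonoidHom.range_eq_map]
    refine (qs_top_iff.2 hL.qs.isQuasisimple).map_of_not_le fun h => hL.qs.not_le_centralizer fun l hl => ?_
    have := h3 ⟨l, hl⟩
    rw [MonoidHom.mem_ker.1 (h (mem_top _)), mul_one] at this
    exact (Subgroup.inv_mem_iff _).1 this

theorem PQS.eq_of_le_sup_central {I D Z C : Subgroup G} (hI : PCompIn p I C) (hD : QS D) (h1 : D ≤ C)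
    (h2 : C ≤ D ⊔ Z) (h3 : Z ≤ centralizer (D : Set G)) (h4 : Z ≤ centralizer (Z : Set G)) : I = D := by
  have h5 : I ≤ D := by
    rw [← hI.pqs.perfect, ← hD.perfect, ← commutator_sup_central h3 h4]
    exact commutator_mono (hI.le.trans h2) (hI.le.trans h2)
  exact (hD.subnIn (hI.subn.of_le h5 h1)).resolve_right fun h =>
    hI.pqs.not_le_centralizer (h.trans (centralizer_mono h5))

/-- The pump-up lemma. -/
theorem PCompIn.pump {M I : Subgroup G} {x : G} (hx : x ∈ normalizer (M : Set G))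
    (hxp : x ^ p ∈ centralizer (Lay M : Set G)) (hI : PCompIn p I (Lay M ⊓ centralizer ({x} : Set G))) :
    ∃ L, CompIn L M ∧ ((x ∈ normalizer (L : Set G) ∧ I ≤ L) ∨ (x ∉ normalizer (L : Set G) ∧
      ∃ δ : L →* G, (∀ l, δ l = dg x p l) ∧ (∀ l : L, (l : G)⁻¹ * δ l ∈ centralizer (L : Set G)) ∧
        δ.range = I ∧ QS I ∧ I ≤ Orb (zpowers x) L ∧ Orb (zpowers x) L ⊓ centralizer ({x} : Set G) ≤
          I ⊔ (Orb (zpowers x) L ⊓ centralizer (Orb (zpowers x) L : Set G)))) := by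
  have hA : zpowers x ≤ normalizer (M : Set G) := zpowers_le.2 hx
  obtain ⟨L, hL, h⟩ := PCompIn.exists_le_Orb hA (by rwa [centralizer_zpowers])
  refine ⟨L, hL, ?_⟩
  by_cases hn : x ∈ normalizer (L : Set G)
  · rw [Orb_eq_self (zpowers_le.2 hn)] at h
    exact Or.inl ⟨hn, h⟩
  obtain ⟨δ, h1, h2, h3, h4, h5⟩ := hL.exists_diag hx (centralizer_mono hL.le_Lay hxp) hn
  have e : I = δ.range := PQS.eq_of_le_sup_central (hI.of_le (le_inf h (hI.le.trans inf_le_right))
    (inf_le_inf_right _ (hL.Orb_le_Lay hA))) h5 h3 h4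
    (inf_le_right.trans (centralizer_mono (h3.trans inf_le_left)))
    (inf_le_right.trans (centralizer_mono inf_le_left))
  exact Or.inr ⟨hn, δ, h1, h2, e.symm, e ▸ h5, h, e ▸ h4⟩

end Cfsg.Agent.Comp
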