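import Cfsg.Agent.Lib.FT.Pump
import Cfsg.Agent.Lib.FT.LBal2
import Cfsg.Agent.Lib.FT.Final

/-! The pump-up lemma for involutions. -/

namespace Cfsg.Agent.Comp

open Subgroup

universe u

variable {G : Type u} [Group G] [Finite G]

theorem two_dvd_of_not_isSolvable {K : Subgroup G} (h : ¬ Group.IsSolvable K) : 2 ∣ Nat.card K := by
  by_contra hn
  exact h (PF.odd_solvable (Nat.odd_iff.2 (by omega)))

theorem CompIn.pCompIn_two {K M : Subgroup G} (h : CompIn K M) : PCompIn 2 K M :=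
  h.pCompIn (two_dvd_of_not_isSolvable h.qs.not_isSolvable)

theorem isSolvable_Opp_two (M : Subgroup G) : Group.IsSolvable (Opp 2 M) :=
  PF.odd_solvable (Nat.coprime_two_right.1 (coprime_Opp 2 M))

theorem Lay_le_PLay_two (M : Subgroup G) : Lay M ≤ PLay 2 M :=
  Lay_le_iff.2 fun _ h => h.pCompIn_two.le_PLay

omit [Finite G] in
theorem Orb_zpowers_two {t : G} {L : Subgroup G} (h : t * t ∈ normalizer (L : Set G)) :
    Orb (zpowers t) L = L ⊔ cj(t, L) := by
  refine le_antisymm (Orb_le_of_le_normalizer (zpowers_le.2 (cj_eq_self_iff.1 ?_)) le_sup_left)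
    (sup_le (le_Orb _ _) (cj_le_Orb _ (mem_zpowers t)))
  rw [cj_sup, ← cj_mul, cj_eq_self_iff.2 h, sup_comm]

/-- `L`-balance inside a subgroup. -/
theorem L_balance_inf {M T : Subgroup G} (hT : IsPGroup 2 T) (h : T ≤ M) :
    PLay 2 (M ⊓ centralizer (T : Set G)) ≤ PLay 2 M := by
  have := map_mono (f := M.subtype) (L_balance (G := M) (T := T.subgroupOf M) hT.comap_subtype)
  rwa [map_PLay_of_injective M.subtype_injective, map_PLay_of_injective M.subtype_injective,
    map_subtype_top, map_subtype_centralizer, map_subgroupOf_eq_of_le h] at this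

theorem L_balance_of_normalizer {M T : Subgroup G} (hT : IsPGroup 2 T) (h : T ≤ normalizer (M : Set G)) :
    PLay 2 (M ⊓ centralizer (T : Set G)) ≤ PLay 2 M := by
  have h5 : PLay 2 (M ⊔ T) ≤ M :=
    le_of_perfect_of_le_sup (PLay_perfect _) (isSolvable_of_isPGroup hT) h (PLay_le _ _)
  exact (PLay_mono_subnIn ((SubnIn.of_normalizer le_sup_left (sup_le le_normalizer h)).inf_right _)).trans
    ((L_balance_inf hT le_sup_right).trans (PLay_le_PLay_of_le h5 le_sup_left))

omit [Finite G] in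
theorem isPGroup_zpowers_of_eq {p : ℕ} {t : G} (ht : orderOf t = p) : IsPGroup p (zpowers t) :=
  IsPGroup.of_card (n := 1) (by rw [Nat.card_zpowers, ht, pow_one])

theorem L_balance_elem {M : Subgroup G} {t : G} (ht : orderOf t = 2) (h : t ∈ normalizer (M : Set G)) :
    PLay 2 (M ⊓ centralizer ({t} : Set G)) ≤ PLay 2 M := by
  rw [← centralizer_zpowers]
  exact L_balance_of_normalizer (isPGroup_zpowers_of_eq ht) (zpowers_le.2 h)

/-- The pump-up lemma for an involution. -/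
theorem PCompIn.pump_two {M I : Subgroup G} {t : G} (ht : orderOf t = 2) (h : t ∈ normalizer (M : Set G))
    (hM : PLay 2 M ≤ Lay M) (hI : PCompIn 2 I (M ⊓ centralizer ({t} : Set G))) :
    ∃ L, CompIn L M ∧ (I = L ∨ (I < L ∧ t ∈ normalizer (L : Set G) ∧ ⁅L, zpowers t⁆ = L) ∨
      (t ∉ normalizer (L : Set G) ∧ cj(t, L) ≤ centralizer (L : Set G) ∧
      ∃ δ : L →* G, (∀ l, δ l = l * (t * l * t⁻¹)) ∧ δ.range = I ∧ QS I ∧ I ≤ L ⊔ cj(t, L) ∧
        (L ⊔ cj(t, L)) ⊓ centralizer ({t} : Set G) ≤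
          I ⊔ ((L ⊔ cj(t, L)) ⊓ centralizer ((L ⊔ cj(t, L) : Subgroup G) : Set G)))) := by
  have htt : t ^ 2 = 1 := ht ▸ pow_orderOf_eq_one t
  have h1 : I ≤ Lay M := hI.le_PLay.trans ((L_balance_elem ht h).trans hM)
  obtain ⟨L, hL, ⟨a, b⟩ | ⟨a, δ, b, -, c, d, e, f⟩⟩ := PCompIn.pump h (by rw [htt]; exact one_mem _)
    (hI.of_le (le_inf h1 (hI.le.trans inf_le_right)) (inf_le_inf_right _ (Lay_le M)))
  · refine ⟨L, hL, ?_⟩
    rcases hL.qs.commutator_eq_or (zpowers_le.2 a) with c | c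
    · rcases b.eq_or_lt with d | d
      · exact Or.inl d
      · exact Or.inr (Or.inl ⟨d, a, c⟩)
    · rw [commutator_eq_bot_iff_le_centralizer, centralizer_zpowers] at c
      exact Or.inl ((hL.qs.subnIn (hI.subn.of_le b (le_inf hL.le c))).resolve_right fun h =>
        hI.pqs.not_le_centralizer (h.trans (centralizer_mono b)))
  · rw [Orb_zpowers_two (by rw [← sq, htt]; exact one_mem _)] at e f
    exact ⟨L, hL, Or.inr (Or.inr ⟨a, (hL.cj_of_mem h).le_centralizer_of_ne hL fun e => a (cj_eq_self_iff.1 e),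
      δ, fun l => by rw [b, dg_two], c, d, e, f⟩)⟩

end Cfsg.Agent.Comp
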