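import Cfsg.Agent.Lib.FT.Pump3

/-! More on diagonals. -/

namespace Cfsg.Agent.Comp

open Subgroup
open scoped commutatorElement

variable {G : Type*} [Group G]

theorem mem_centralizer_of_diag {L : Subgroup G} {t c : G} (hL : ⁅L, L⁆ = L)
    (h : cj(t, L) ≤ centralizer (L : Set G)) (hc : c ∈ normalizer (cj(t, L) : Set G))
    (hd : ∀ l ∈ L, l * (t * l * t⁻¹) * c = c * (l * (t * l * t⁻¹))) : c ∈ centralizer (L : Set G) := by
  refine commutator_eq_bot_iff_le_centralizer.1 (commutator_eq_bot_of_perfect hL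
    (commutator_eq_bot_iff_le_centralizer.2 ((commutator_zpowers_left_le hc fun l hl => ?_).trans h)))
    (mem_zpowers c)
  have h1 := hd _ (inv_mem hl)
  have h2 : t * l⁻¹ * t⁻¹ ∈ cj(t, L) := conj_mem_cj.2 (inv_mem hl)
  generalize t * l⁻¹ * t⁻¹ = m at h1 h2
  have : ⁅c, l⁆ = c * m * c⁻¹ * m⁻¹ := by
    rw [commutatorElement_def]
    calc _ = c * (l * (c * (l⁻¹ * m)) * m⁻¹)⁻¹ := by group
      _ = _ := by rw [← h1]; group
  rw [this]
  exact mul_mem (conj_mem_of_mem_normalizer hc h2) (inv_mem h2)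

theorem CompIn.cj_eq_or_of_diag [Finite G] {L M : Subgroup G} {t c : G} (hL : CompIn L M)
    (ht : t ∈ normalizer (M : Set G)) (hc : c ∈ normalizer (M : Set G))
    (h : cj(t, L) ≤ centralizer (L : Set G))
    (hd : ∀ l ∈ L, l * (t * l * t⁻¹) * c = c * (l * (t * l * t⁻¹))) : cj(c, L) = L ∨ cj(c, L) = cj(t, L) := by
  by_contra hn
  push Not at hn
  have h1 := le_centralizer_sup ((hL.cj_of_mem hc).le_centralizer_of_ne hL hn.1)
    ((hL.cj_of_mem hc).le_centralizer_of_ne (hL.cj_of_mem ht) hn.2)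
  refine hL.qs.not_le_centralizer fun a ha => mem_centralizer_iff.2 fun l hl => ?_
  have h2 := h1 (conj_mem_cj.2 ha) _ (mul_mem (mem_sup_left hl) (mem_sup_right (conj_mem_cj.2 hl)))
  have h3 := h (conj_mem_cj.2 hl) a ha
  have h4 := hd l hl
  generalize t * l * t⁻¹ = m at h2 h3 h4
  have h5 : l * m * a = a * (l * m) := by
    calc _ = c⁻¹ * (c * (l * m)) * a := by group
      _ = c⁻¹ * (l * m * (c * a * c⁻¹)) * c := by rw [← h4]; group
      _ = c⁻¹ * (c * a * c⁻¹) * (l * m * c) := by rw [h2]; group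
      _ = _ := by rw [h4]; group
  rw [mul_assoc, ← h3, ← mul_assoc, ← mul_assoc] at h5
  exact mul_right_cancel h5

end Cfsg.Agent.Comp
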