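import Cfsg.Agent.Lib.FT.LBal
import Cfsg.Agent.Lib.Comp.Loc
import Cfsg.Prelude.Def_KGroupFacts

/-! L-balance under the Schreier property. -/

namespace Cfsg.Agent.Comp

open Subgroup

universe u

theorem exists_mem_sSup_of_forall {G : Type*} [Group G] {S : Set (Subgroup G)} (hS : S.Finite)
    (hc : ∀ A ∈ S, ∀ B ∈ S, A ≠ B → A ≤ centralizer (B : Set G)) {g : G}
    (hg : ∀ L ∈ S, ∃ l ∈ L, l⁻¹ * g ∈ centralizer (L : Set G)) :
    ∃ e ∈ sSup S, ∀ L ∈ S, e⁻¹ * g ∈ centralizer (L : Set G) := by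
  induction S, hS using Set.Finite.induction_on with
  | empty => exact ⟨1, one_mem _, by simp⟩
  | @insert L S hL _ ih =>
    obtain ⟨e, he, he'⟩ := ih (fun A hA B hB => hc A (Or.inr hA) B (Or.inr hB))
      (fun A hA => hg A (Or.inr hA))
    obtain ⟨l, hl, hl'⟩ := hg L (Or.inl rfl)
    have h1 : e ∈ centralizer (L : Set G) :=
      (sSup_le fun A hA => hc A (Or.inr hA) L (Or.inl rfl) (by rintro rfl; exact hL hA) :
        sSup S ≤ centralizer (L : Set G)) he
    refine ⟨e * l, ?_, ?_⟩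
    · rw [sSup_insert]
      exact mul_mem (mem_sup_right he) (mem_sup_left hl)
    · rintro A (rfl | hA)
      · rw [← mem_centralizer_iff.1 h1 l hl, mul_inv_rev, mul_assoc]
        exact mul_mem (inv_mem h1) hl'
      · rw [mul_inv_rev, mul_assoc]
        exact mul_mem (inv_mem (hc L (Or.inl rfl) A (Or.inr hA) (by rintro rfl; exact hL hA) hl))
          (he' A hA)

theorem exists_inner_of_out_solvable {G : Type*} [Group G] {K L : Subgroup G} (hK : ⁅K, K⁆ = K)
    (hL : ⁅L, L⁆ = L) (h : K ≤ normalizer (L : Set G)) (hS : Group.IsSolvable (Out (L ⧸ center L)))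
    {g : G} (hg : g ∈ K) : ∃ l ∈ L, l⁻¹ * g ∈ centralizer (L : Set G) := by
  have hN : normalizer (L : Set G) ≤ normalizer (L : Set G) := le_rfl
  let f := (QuotientGroup.mk' (Inn (L ⧸ center L))).comp (actCenterQuot hN)
  have h1 : (K.subgroupOf (normalizer (L : Set G))).map f = ⊥ := by
    refine solvable_perfect_eq_bot ?_ inferInstance
    rw [← map_commutator]; congr 1
    refine map_injective (normalizer (L : Set G)).subtype_injective ?_
    rw [map_commutator, map_subgroupOf_eq_of_le h, hK]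
  have h2 : f ⟨g, h hg⟩ = 1 := by
    rw [← mem_bot, ← h1]; exact mem_map_of_mem _ hg
  obtain ⟨x, hx⟩ := (QuotientGroup.eq_one_iff _).1 h2
  obtain ⟨l, rfl⟩ := QuotientGroup.mk_surjective x
  refine ⟨l, l.2, ?_⟩
  have h3 : (⟨l, le_normalizer l.2⟩⁻¹ * ⟨g, h hg⟩ : normalizer (L : Set G)) ∈ (actCenterQuot hN).ker := by
    rw [MonoidHom.mem_ker, map_mul, map_inv, ← hx, inv_mul_eq_one]
    ext y
    obtain ⟨y, rfl⟩ := QuotientGroup.mk_surjective y
    rw [actCenterQuot_mk]; rfl
  rw [ker_actCenterQuot hN hL] at h3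
  exact h3

variable {G : Type u} [Group G] [Finite G] {p : ℕ} [hp : Fact p.Prime]

theorem le_Lay_of_inner {M K : Subgroup G} (hK : ⁅K, K⁆ = K) (hKM : K ≤ M)
    (h1 : ∀ L, CompIn L M → ∀ g ∈ K, ∃ l ∈ L, l⁻¹ * g ∈ centralizer (L : Set G))
    (h2 : K ≤ centralizer (Fit M : Set G)) : K ≤ Lay M := by
  refine le_of_perfect_of_le_sup hK (S := Fit M) ?_ (le_normalizer_of_le_centralizer
    (Fit_le_centralizer_Lay M)) fun g hg => ?_
  · have := isNilpotent_Fit M; infer_instance
  obtain ⟨e, he, he'⟩ := exists_mem_sSup_of_forall (S := {L | CompIn L M}) (Set.toFinite _)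
    (fun A hA B hB hne => CompIn.le_centralizer_of_ne hA hB hne) (g := g) (fun L hL => h1 L hL g hg)
  have h3 : e⁻¹ * g ∈ Fit M := by
    refine inf_centralizer_Fstar_le_Fit M ⟨M.mul_mem (M.inv_mem (Lay_le M he)) (hKM hg), ?_⟩
    rw [Fstar, centralizer_sup]
    refine ⟨?_, Subgroup.mul_mem _ (Subgroup.inv_mem _ (le_centralizer_iff.1 (Fit_le_centralizer_Lay M) he)) (h2 hg)⟩
    have : zpowers (e⁻¹ * g) ≤ centralizer (Lay M : Set G) :=
      le_centralizer_sSup.2 fun L hL => zpowers_le.2 (he' L hL)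
    exact this (mem_zpowers _)
  have : g = e * (e⁻¹ * g) := by group
  rw [this]
  exact mul_mem (mem_sup_left he) (mem_sup_right h3)

theorem PLay_le_Lay_of_schreier {M P H : Subgroup G} (hO : Opp p M = ⊥)
    (hS : ∀ L, CompIn L M → Group.IsSolvable (Out (L ⧸ center L))) (hP : IsPGroup p P) (h1 : P ≤ H)
    (h2 : M ⊓ centralizer (P : Set G) ≤ H) (h3 : H ≤ M) (h4 : H ≤ normalizer (P : Set G)) :
    PLay p H ≤ Lay M := by
  refine le_Lay_of_inner (PLay_perfect H) ((PLay_le p H).trans h3) (fun L hL g hg => ?_) ?_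
  · exact exists_inner_of_out_solvable (PLay_perfect H) hL.qs.perfect
      (le_sup_left.trans (hL.PLay_sup_Opp_le_normalizer hO hP h1 h2 h3 h4)) (hS L hL) hg
  · rw [Fit_eq_Op hO]
    exact le_sup_left.trans (PLay_sup_Opp_le_centralizer_Op hP h1 h2 h3 h4)

theorem le_PLay_top_of_map_le {K : Subgroup G} (hK : Resp p K = K)
    (h : K.map (QuotientGroup.mk' (pPrimeCore p G)) ≤ Lay ⊤) : K ≤ PLay p ⊤ := by
  have h3 := map_le_iff_le_comap.1 h
  rw [Lay_top, comap_layer_mk, ← PLay_top, ← Opp_top] at h3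
  rw [← hK, ← Resp_PLay_sup_Opp ⊤]
  exact ResPi_mono h3

/-- L-balance under the Schreier property. -/
theorem PLay_normalizer_le_of_schreier
    (hS : ∀ L : Subgroup (G ⧸ pPrimeCore p G), IsComponent L → Group.IsSolvable (Out (L ⧸ center L)))
    {R : Subgroup G} (hR : IsPGroup p R) : PLay p (normalizer (R : Set G)) ≤ PLay p ⊤ := by
  let f := QuotientGroup.mk' (pPrimeCore p G)
  refine le_PLay_top_of_map_le (Resp_PLay _) ((map_PLay_le (p := p) f _).trans ?_)
  have h := map_inf_normalizer f (M := ⊤) le_top hR (by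
    rw [top_inf_eq, QuotientGroup.ker_mk']; exact coprime_pPrimeCore p)
  rw [top_inf_eq, map_top_of_surjective _ (QuotientGroup.mk'_surjective _), top_inf_eq] at h
  rw [h]
  exact PLay_le_Lay_of_schreier (by rw [Opp_top]; exact pPrimeCore_quotient)
    (fun L hL => hS L (compIn_top_iff.1 hL)) (hR.map f) le_normalizer
    (inf_le_right.trans (centralizer_le_normalizer _)) le_top le_rfl

theorem PLay_centralizer_le_of_schreier
    (hS : ∀ L : Subgroup (G ⧸ pPrimeCore p G), IsComponent L → Group.IsSolvable (Out (L ⧸ center L)))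
    {R : Subgroup G} (hR : IsPGroup p R) : PLay p (centralizer (R : Set G)) ≤ PLay p ⊤ :=
  (PLay_mono_subnIn (SubnIn.of_normalizer (centralizer_le_normalizer _)
    (normalizer_le_normalizer_centralizer R))).trans (PLay_normalizer_le_of_schreier hS hR)

end Cfsg.Agent.Comp
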