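import Cfsg.Agent.Lib.Char.Sec14
import Cfsg.Agent.Lib.FT.Sec13A
import Cfsg.Agent.Lib.FT.Num14

/-!
Peterfalvi (13.18), (13.19) and Section 14, from the conclusions of Sections 11 - 13.
-/

set_option autoImplicit false

namespace Cfsg.Agent.PF

open Subgroup Cfsg.Agent.Transfer Cfsg.Agent.MS
open Cfsg.Agent.Char hiding cj

universe u

variable {G : Type u} [Group G] [Fintype G]

/-- The situation after (13.12). -/
structure H14 (S T W₁ W₂ U V : Subgroup G) (p q : ℕ) : Prop where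
  pair : FTPair S T W₁ W₂ U V
  hS : Half S W₁ U W₂ p q
  hT : Half T W₂ V W₁ q p
  frob : ∀ M : Subgroup G, IsCoatom M → IsOfTypeI M → Frob M
  coh : ∀ M : Subgroup G, IsCoatom M → IsOfTypeI M → Coh (indD (dH M) (dH M) ⊥) (tau M)
  cS : U ⊓ CC (MF S) = ⊥
  cT : V ⊓ CC (MF T) = ⊥

/-- The data of (14.3). -/
structure LDat (L U : Subgroup G) (n : ℕ) (ν : (L → ℂ) →ₗ[ℂ] (G → ℂ)) (ζ : L → ℂ) : Prop where
  max : IsCoatom L
  frob : Frob L
  nn : NN U ≤ L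
  le : U ≤ MF L
  cop : (#(MF L)).Coprime n
  core : typeCore L = MF L
  c7 : C7 (typeA1 L) L (supportR L) (dH L) (tau L) ν ζ

/-- The elements of order `p` or `p q`. -/
def Zset (G : Type u) [Group G] (p n : ℕ) : Set G := {g | p ∣ orderOf g ∧ orderOf g ∣ n}

variable {M L S T W₁ W₂ U V : Subgroup G} {p q n : ℕ} {x y g : G}
  {ν : (L → ℂ) →ₗ[ℂ] (G → ℂ)} {ζ : L → ℂ} {η : (W₁ →* ℂˣ) → (W₂ →* ℂˣ) → G → ℂ}

theorem H14.symm (h : H14 S T W₁ W₂ U V p q) : H14 T S W₂ W₁ V U q p :=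
  ⟨h.pair.symm, h.hT, h.hS, h.frob, h.coh, h.cT, h.cS⟩

theorem orderOf_conj_eq (h : y * g * y⁻¹ = x) : orderOf g = orderOf x := by
  rw [← h]; exact ((MulAut.conj y).orderOf_eq g).symm

theorem Half.orderOf_tg (hS : Half S W₁ U W₂ p q) (w : W₁ × W₂) : orderOf (tg hS.tp w) ∣ q * p := by
  have : orderOf (tg hS.tp w) ∣ _ := orderOf_dvd (mul_mem_sup w.1.2 w.2.2)
  rwa [hS.tp.card_W, hS.cp, hS.cq] at this

theorem Half.sub_eq_bot (hS : Half S W₁ U W₂ p q) (hC : U ⊓ CC (MF S) = ⊥) :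
    U.subgroupOf S ⊓ cmod (dH S) ⊥ = ⊥ := by
  rw [cmod_bot hS.tp.U_le, hC, bot_subgroupOf]

theorem Half.card_eq (hS : Half S W₁ U W₂ p q) : (#S : ℝ) = #(MF S) * (#U * q) := by
  rw [(tp_card hS.tp).1, hS.cq]; push_cast; ring

theorem Half.ccl_le (hS : Half S W₁ U W₂ p q) :
    nrm (ccl {x | x ∈ MF S ∧ x ≠ 1}) (fun _ => 1) ≤ 1 / (#U * q) := by
  have h1 : (0 : ℝ) < #(MF S) := by exact_mod_cast card_pos' _
  have h2 : (0 : ℝ) < #U * q := by exact_mod_cast mul_pos (card_pos' U) hS.primeq.pos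
  refine (ccl_sharp_le S).trans ?_
  rw [hS.card_eq, div_le_div_iff₀ (by positivity) h2]
  nlinarith

theorem Half.modEq (hS : Half S W₁ U W₂ p q) : #U ≡ 1 [MOD q] :=
  ((Nat.modEq_iff_dvd' (card_pos' U)).2 (hS.cq ▸ (tp_reg hS.tp).dvd hS.tp.U_normal)).symm

variable [BG16 G]

namespace Half

variable (hS : Half S W₁ U W₂ p q)
include hS

theorem three_le : 3 ≤ q := hS.cq ▸ (tp_cycTI hS.tp).three_le_A

theorem le_card : 2 * q + 1 ≤ #U := hS.cq ▸ two_mul_add_one_le hS.tp hS.neU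

theorem u_le (hC : U ⊓ CC (MF S) = ⊥) : #U ≤ (p ^ q - 1) / (p - 1) := by
  have := hS.sec9.u_le
  rwa [hS.sub_eq_bot hC, relIndex_bot_left, card_subU hS.tp] at this

theorem mem_Zset {a : W₁} {b : W₂} (hb : b ≠ 1) : tg hS.tp (a, b) ∈ Zset G p (q * p) := by
  refine ⟨by_contra fun e => hb ?_, hS.orderOf_tg _⟩
  have h1 : tg hS.tp (a, b) ^ q = tg hS.tp (1, b ^ q) := by
    rw [← map_pow, Prod.pow_mk, show a ^ q = 1 from hS.cq ▸ pow_card_eq_one']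
  have h2 : orderOf (tg hS.tp (a, b)) ∣ q :=
    ((Nat.Prime.coprime_iff_not_dvd hS.primep).2 e).symm.dvd_of_dvd_mul_right (hS.orderOf_tg _)
  rw [orderOf_dvd_iff_pow_eq_one.1 h2, eq_comm, map_eq_one_iff _ (tp_cycTI hS.tp).inj, Prod.mk_eq_one,
    ← orderOf_dvd_iff_pow_eq_one] at h1
  exact orderOf_eq_one_iff.1 (Nat.eq_one_of_dvd_coprimes
    ((Nat.coprime_primes hS.primep hS.primeq).2 hS.ne) (hS.cp ▸ orderOf_dvd_natCard b) h1.2)

theorem orderOf_of_mem_til {A₁ : Set G} (hA : A₁ ⊆ typeA0 S) (hg : g ∈ til S A₁) :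
    ∃ a ∈ A₁, orderOf g = orderOf a := by
  obtain ⟨a, ha, u, hu, y, e⟩ := hg
  rw [R_eq_bot (hS.ti a (hA ha)), mem_bot] at hu
  exact ⟨a, ha, orderOf_conj_eq (by rwa [hu, mul_one] at e)⟩

/-- Peterfalvi 13.18. -/
theorem exists_beta (hC : U ⊓ CC (MF S) = ⊥) (cyc : CycFam (tg hS.tp) η) :
    ∃ X, Beta η X ((#U - 1) / q) (Zset G p (q * p)) := by
  obtain ⟨μ, δ, fam⟩ := (tp_primeTI hS.max hS.tp).exists_fam
  have hP := tp_pdade hS.max hS.notI hS.tp fam cyc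
  rw [← card_subU hS.tp]
  refine hS.sec9.exists_beta hP (hS.sub_eq_bot hC) (tau_conj S)
    (fun α hα h => (dade0 hS.max).reciprocity_one hα h) fun α hα h x hx => ?_
  refine tau_eq_zero hS.max (A₁ := typeA0 S ∩ Zset G p (q * p)) hα (fun z hz => ?_) fun e => ?_
  · by_contra e
    rcases h z e with ⟨e1, e2⟩ | ⟨y, a, b, ha, hb, e1⟩
    · have e3 : (z : G) ≠ 1 := by simpa using e2
      have := Fact.mk hS.primep
      have e4 := orderOf_eq_prime (hS.elem.2 z e1) e3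
      exact hz ⟨hS.memA0 e1 e3, e4.symm.dvd, e4.dvd.mul_left _⟩
    · have e2 : orderOf (z : G) = orderOf (tg hS.tp (a, b)) :=
        orderOf_conj_eq (congrArg Subtype.val e1)
      exact hz ⟨by simpa [← e1, mul_assoc] using hP.memV a b y⁻¹ ha hb,
        by simpa only [Zset, Set.mem_setOf_eq, e2] using hS.mem_Zset hb⟩
  · obtain ⟨a, ha, e1⟩ := hS.orderOf_of_mem_til Set.inter_subset_left e
    exact hx (by simpa only [Zset, Set.mem_setOf_eq, e1] using ha.2)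

end Half

namespace LDat

variable (h : LDat L U n ν ζ)
include h

theorem irr : ∀ φ ∈ indD (dH L) (dH L) ⊥, IsIrrCharacter L φ := fun _ => (frobMod_of_frob h.frob).irr

theorem bot_lt : ⊥ < dH L := bot_lt_iff_ne_bot.2 (mt (FT.sub_eq_bot (MF_le L)).1 (MF_ne_bot h.max))

theorem he : 2 * (dH L).index + 1 ≤ #(dH L) := by
  simpa using (frobMod_of_frob h.frob).two_mul_add_one_le (odd_M L) bot_le h.bot_lt

theorem modEq : #(MF L) ≡ 1 [MOD (dH L).index] := by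
  have := (frobMod_of_frob h.frob).index_dvd bot_le
  rw [relIndex_bot_left, card_dH] at this
  exact ((Nat.modEq_iff_dvd' (card_pos' _)).2 this).symm

theorem not_mem (hg : orderOf g ∣ n) : g ∉ dadeSupp (typeA1 L) (supportR L) := fun e => by
  obtain ⟨r, hr, h1, h2⟩ := exists_prime_of_til1 h.max e
  exact hr.one_lt.ne' (Nat.eq_one_of_dvd_coprimes h.cop (h.core ▸ h2) (h1.trans hg))

theorem disj : Disjoint (dadeSupp (typeA1 L) (supportR L)) (Zset G p n) :=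
  Set.disjoint_right.2 fun _ hx => h.not_mem hx.2

theorem modEq_of {X : Subgroup G} (h1 : X ≤ L) (h2 : #X ∣ n) (h3 : X ≤ NN U) : #U ≡ 1 [MOD #X] :=
  ((Nat.modEq_iff_dvd' (card_pos' U)).2
    (((h.frob.reg h1 (h.cop.symm.coprime_dvd_left h2)).mono h.le le_rfl).dvd h3)).symm

end LDat

theorem odd_G : Odd (Nat.card G) := FT.odd_G

namespace H14

variable (h : H14 S T W₁ W₂ U V p q)
include h

theorem exists_L (h2 : IsOfTypeII S) : ∃ (L : Subgroup G) (ν : _) (ζ : _), LDat L U (q * p) ν ζ ∧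
    (((dH L).index = q ∧ MF L ≠ U) ∨ ((dH L).index = q * p ∧ ∃ y ∈ MF T, cj y W₂ ≤ L)) := by
  obtain ⟨L, hL, h1⟩ := (eq_top_or_exists_le_coatom (NN U)).resolve_left
    (nn_ne_top' h.hS.max h.hS.tp.U_le h.hS.neU)
  obtain ⟨h3, h4, h5, h6⟩ := sec13_17 h.pair h.hS h.hT h.cS h.cT h.frob h2 hL h1
  obtain ⟨ν, hν⟩ := h.coh L hL h3
  have h7 : ⊥ < dH L := bot_lt_iff_ne_bot.2 (mt (FT.sub_eq_bot (MF_le L)).1 (MF_ne_bot hL))
  obtain ⟨ζ, hζ, e⟩ := exists_mem_indD_index le_rfl bot_le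
    (not_le_commutator_sup (have := nil_dH L; inferInstance) h7)
  have h8 := FT.d7_core hL
  rw [core_I hL h3] at h8
  refine ⟨L, ν, ζ, ⟨hL, h.frob L hL h3, h1, h4, mul_comm p q ▸ h5, core_I hL h3, h8, hν, hζ,
    (frobMod_of_frob (h.frob L hL h3)).irr hζ, e, odd_M L⟩,
    h6.imp (fun e => ⟨e.1, fun e1 => ?_⟩) fun e => ⟨e.1.trans (mul_comm _ _), e.2⟩⟩
  exact (II_data h.hS.max h2 h.hS.tp).2.2.2 (h1.trans (by
    rw [← e.2, e1]; exact sup_le h.hS.tp.U_le h.hS.tp.W₁_le))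

/-- Peterfalvi 13.19. -/
theorem le_or_odd {U' : Subgroup G} (hL : LDat L U' (q * p) ν ζ) (cyc : CycFam (tg h.hS.tp) η) :
    ((#(MF L) : ℝ) - 1) / (dH L).index ≤ (#U - 1) / q ∨
      ∀ j, j ≠ 1 → ∃ n : ℤ, rip (ν (indFun (dH L) fun _ => 1)) (η 1 j) = 2 * n + 1 := by
  obtain ⟨X, hX⟩ := h.hS.exists_beta h.cS cyc
  rw [← card_dH]
  exact hL.c7.le_or_odd cyc (fun a b => hL.not_mem (h.hS.orderOf_tg _)) hL.irr odd_G hX hL.disj

theorem cyc_swap (cyc : CycFam (tg h.hS.tp) η) : CycFam (tg h.hT.tp) fun j i => η i j :=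
  tg_swap h.hS.tp h.hT.tp ▸ cyc.swap

theorem le_or_odd' {U' : Subgroup G} (hL : LDat L U' (q * p) ν ζ) (cyc : CycFam (tg h.hS.tp) η) :
    ((#(MF L) : ℝ) - 1) / (dH L).index ≤ (#V - 1) / p ∨
      ∀ i, i ≠ 1 → ∃ n : ℤ, rip (ν (indFun (dH L) fun _ => 1)) (η i 1) = 2 * n + 1 :=
  h.symm.le_or_odd (η := fun j i => η i j) (by rwa [mul_comm]) (h.cyc_swap cyc)

/-- Peterfalvi 14.5. -/
theorem exists_L' (h2 : IsOfTypeII S) (hlt : q < p) : ∃ (L : Subgroup G) (ν : _) (ζ : _),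
    LDat L U (q * p) ν ζ ∧ (dH L).index = q * p ∧ ∃ y ∈ MF T, cj y W₂ ≤ L := by
  obtain ⟨L, ν, ζ, hL, h3⟩ := h.exists_L h2
  refine ⟨L, ν, ζ, hL, h3.resolve_left fun ⟨e1, e2⟩ => ?_⟩
  obtain ⟨η, cyc⟩ := (tp_cycTI h.hS.tp).exists_fam
  rcases h.le_or_odd hL cyc with h4 | h4
  · rw [e1, div_le_div_iff_of_pos_right (by exact_mod_cast h.hS.primeq.pos), sub_le_sub_iff_right,
      Nat.cast_le] at h4
    exact e2 (eq_of_card_le hL.le h4).symm
  · have := hL.c7.card_B_le cyc (fun a b => hL.not_mem (h.hS.orderOf_tg _)) hL.irr hL.he h4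
    rw [h.hS.cp] at this
    omega

/-- Peterfalvi 14.6. -/
theorem gal9 (h2 : IsOfTypeII S) (hL : LDat L U (q * p) ν ζ) (hy : cj y W₂ ≤ L)
    (h13 : ¬ Gal9 (dH S) (U.subgroupOf S) ⊥ → 4 * #U = (p - 1) ^ 2) :
    Gal9 (dH S) (U.subgroupOf S) ⊥ := by
  by_contra hG
  obtain ⟨H₁, a, hA⟩ := h.hS.sec9.caseA hG
  obtain ⟨k, hk⟩ := h.hS.odd_p
  have h1 : #U = k ^ 2 := by have := h13 hG; rw [hk, Nat.add_sub_cancel] at this; nlinarith
  have h3 := relIndex_mul_relIndex ⊥ (U.subgroupOf S ⊓ cmod H₁ ⊥) _ bot_le inf_le_left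
  rw [relIndex_bot_left, relIndex_bot_left, hA.a_eq, card_subU h.hS.tp] at h3
  have h4 : a ∣ k := by
    have := hA.dvd
    rw [hk, Nat.add_sub_cancel] at this
    exact ((odd_sub U).of_dvd_nat (Dvd.intro_left _ h3)).coprime_two_right.dvd_of_dvd_mul_left this
  have h5 := h.hS.primep.one_lt
  have h6 : U.subgroupOf S ⊓ cmod H₁ ⊥ ≠ ⊥ := fun e => by
    rw [e, card_bot, h1] at h3
    have := Nat.le_of_dvd (by omega) h4
    have := hA.one_lt
    nlinarith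
  obtain ⟨r, hr, h7⟩ := exists_prime_dvd h6
  have := Fact.mk hr
  obtain ⟨x, hx⟩ := exists_prime_orderOf_dvd_card' r h7
  obtain ⟨z, hz, h8⟩ := exists_ne_one (H := H₁) fun e => by
    have := hA.card
    rw [e, relIndex_bot_left, card_bot] at this
    omega
  have h9 := sec14_6 h.hS h2 hL.max hL.frob hL.le hy (by rw [card_cj, h.hS.cp])
    (hL.cop.coprime_dvd_right (dvd_mul_left _ _)) hr (x := x.1.1) x.2.1 (by simpa using hx)
    (ne_bot_of_mem (x := z.1) ⟨hA.le hz, mem_C1_comm.1 (mem_C1.2 (mul_inv_eq_iff_eq_mul.1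
      (mul_inv_eq_one.1 (congrArg Subtype.val (mem_bot.1 (x.2.2 z hz))))))⟩ (by simpa using h8))
  have h10 : r ≤ k := Nat.le_of_dvd (by omega)
    (hr.dvd_of_dvd_pow (h1 ▸ h7.trans (Dvd.intro _ h3)))
  have h11 := hr.two_le
  rw [show r ^ 2 - 1 = (r + 1) * (r - 1) from Nat.sq_sub_sq r 1] at h9
  rcases (Nat.Prime.dvd_mul h.hS.primep).1 h9 with e | e <;> have := Nat.le_of_dvd (by omega) e <;> omega

/-- Peterfalvi 14.9. -/
theorem typeII (hlt : ((#U : ℝ) - 1) / q < (#V - 1) / p)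
    (h11 : T345 T → ⁅dK T, dK T⁆ = dH T ∧ ∀ μ δ η, PrimeFam (dK T) (tf h.hT.tp) μ δ →
      CycFam (tg h.hT.tp) η → ∀ ζ ∈ indD (dK T) (dK T) (dH T), ∀ i j,
        classInner (tau T (pmu (dK T) μ 1 - ζ)) (η i j) = if i = 1 then 1 else 0) : IsOfTypeII T := by
  by_contra h2
  have h3 : T345 T := ⟨h.hT.notI, h2⟩
  obtain ⟨e, h4⟩ := h11 h3
  obtain ⟨μ, δ, fam⟩ := (tp_primeTI h.hT.max h.hT.tp).exists_fam
  obtain ⟨η, cyc⟩ := (tp_cycTI h.hT.tp).exists_fam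
  obtain ⟨R, h10⟩ := tp_p10 h.hT.max h3 h.hT.tp fam cyc
  obtain ⟨X, hX⟩ := h.hS.exists_beta h.cS (h.symm.cyc_swap cyc)
  have h5 := h10.card_le_of_beta hX (fun α hα h1 x hx => (d7_der h.hT.max h3).tau_eq_zero hα h1
    fun hx' => ?_) fun ζ hζ i hi => by rw [h4 μ δ η fam cyc ζ (e ▸ hζ), if_neg hi]
  · have h6 := h10.card_der
    rw [e, ← sup_bot_eq (dH T), h.hT.sec9.relIndex_sup bot_le, relIndex_bot_left, sup_bot_eq, ← e,
      card_subU h.hT.tp, h.hT.cq] at h6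
    have h7 := h5.trans_lt hlt
    rw [← h6, lt_div_iff₀ (by exact_mod_cast h.hT.primeq.pos)] at h7
    simp at h7
  · obtain ⟨a, ha, e1⟩ := h.hT.orderOf_of_mem_til (FT.A1_sub_A0 h.hT.max) hx'
    have h6 := orderOf_dvd (core_345 h.hT.max h3 ▸ (memA1.1 ha).1)
    exact h.hS.primep.one_lt.ne' (Nat.eq_one_of_dvd_coprimes (tp_cop h.hT.tp).1 h.hT.cq.symm.dvd
      ((e1 ▸ hx.1).trans h6))

theorem cover (rS : Reg (MF S) U) (rT : Reg (MF T) V) (hx : ¬ (orderOf x).Coprime (#W₁ * #W₂)) :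
    x ∈ ccl {x | x ∈ MF S ∧ x ≠ 1} ∪ ccl (Vset W₁ W₂) ∪ ccl {x | x ∈ MF T ∧ x ≠ 1} := by
  obtain ⟨r, hr, h1, h2⟩ := Nat.Prime.not_coprime_iff_dvd.1 hx
  rcases (Nat.Prime.dvd_mul hr).1 h2 with e | e
  · rcases conj_cover h.hT.max h.hT.tp (fun a ha h3 => h.hT.ti a (h.hT.memA0 ha h3)) rT hr
      (e.trans (card_dvd h.hT.tp.W₂_leH)) h1 with e | e
    exacts [Or.inr e, Or.inl (Or.inr (Vset_comm h.hS.tp ▸ e))]
  · exact Or.inl (conj_cover h.hS.max h.hS.tp (fun a ha h3 => h.hS.ti a (h.hS.memA0 ha h3)) rS hr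
      (e.trans (card_dvd h.hS.tp.W₂_leH)) h1)

/-- Peterfalvi 14.11. -/
theorem exists_M (h2 : IsOfTypeII T) (hqp : q < p) (rS : Reg (MF S) U) (rT : Reg (MF T) V)
    (hv : #V = (q ^ p - 1) / (q - 1)) (hlt : ((#U : ℝ) - 1) / q < (#V - 1) / p) :
    ∃ (M : Subgroup G) (ν : _) (ζ : _), LDat M V (q * p) ν ζ ∧ (dH M).index = q * p ∧ MF M = V := by
  obtain ⟨M, ν, ζ, hM, h3⟩ := h.symm.exists_L h2
  rw [mul_comm p] at hM h3
  by_cases e : MF M = V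
  · exact ⟨M, ν, ζ, hM, (h3.resolve_left fun e1 => e1.2 e).1, e⟩
  exfalso
  have h4 : p ∣ (dH M).index ∧ (dH M).index ≤ q * p := by
    rcases h3 with ⟨e, -⟩ | ⟨e, -⟩ <;> rw [e]
    exacts [⟨dvd_rfl, Nat.le_mul_of_pos_left _ h.hS.primeq.pos⟩, ⟨dvd_mul_left _ _, le_rfl⟩]
  obtain ⟨x, hx⟩ := card_dvd hM.le
  have h5 := le_of_mul_modEq (hx ▸ odd_sub _) h.hS.odd_p (hx ▸ hM.modEq.of_dvd h4.1) h.hT.modEq
    (by rintro rfl; exact e (eq_of_card_le hM.le (by omega)).symm)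
  have hq : (3 : ℝ) ≤ q := by exact_mod_cast h.hS.three_le
  have hp : (q : ℝ) ≤ p := by exact_mod_cast hqp.le
  have h6 : (1 : ℝ) ≤ #V := by exact_mod_cast card_pos' V
  have h7 : (2 * p + 1 : ℝ) * #V ≤ #(MF M) := by
    exact_mod_cast (show (2 * p + 1) * #V ≤ #(MF M) by rw [hx, mul_comm]; gcongr)
  have h8 : ((dH M).index : ℝ) ≤ q * p := by exact_mod_cast h4.2
  have h9 : ((#V : ℝ) - 1) / p < (#(MF M) - 1) / (dH M).index := by
    rw [div_lt_div_iff₀ (by linarith) hM.c7.index_pos]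
    nlinarith [mul_le_mul_of_nonneg_left h8 (sub_nonneg.2 h6),
      mul_le_mul_of_nonneg_right hp (show (0 : ℝ) ≤ (#V - 1) * p by nlinarith)]
  obtain ⟨η, cyc⟩ := (tp_cycTI h.hS.tp).exists_fam
  have h10 := (h.le_or_odd hM cyc).resolve_left (by linarith)
  have h11 := (h.le_or_odd' hM cyc).resolve_left (by linarith)
  have hV := fun a b => hM.not_mem (h.hS.orderOf_tg (a, b))
  have h12 : (dH M).index ≤ #W₁ * #W₂ := by rw [h.hS.cp, h.hS.cq]; exact h4.2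
  have h13 := hM.c7.count cyc hV hM.irr hM.he h12 h10 h11 fun x => h.cover rS rT
  have h14 := nrm_union_le (ccl {x | x ∈ MF S ∧ x ≠ 1} ∪ ccl (Vset W₁ W₂)) (ccl {x | x ∈ MF T ∧ x ≠ 1})
    fun _ => 1
  have h15 := nrm_union_le (ccl {x | x ∈ MF S ∧ x ≠ 1}) (ccl (Vset W₁ W₂)) fun _ => 1
  have h16 := ccl_V_le h.hS.tp
  rw [(hM.c7.exists_sum cyc hV hM.irr hM.he h12 h10 h11).1, card_dH, Nat.cast_mul] at h13
  rw [h.hS.cp, h.hS.cq] at h13 h16
  have h17 := lt_14_11 (u := #U) (v := #V) (k := #(MF M)) hq hp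
    (by have := h.hS.le_card; have := h.hS.three_le; exact_mod_cast (by omega)) ?_ (by linarith)
  · linarith [h.hS.ccl_le, h.hT.ccl_le]
  · obtain ⟨a, ha⟩ := h.hS.odd_p
    have := h.hS.three_le
    exact_mod_cast hv ▸ (Nat.pow_le_pow_right (by omega) (by omega)).trans (le_geo (by omega) (by omega))

/-- Section 14. -/
theorem false (h2 : IsOfTypeII S) (hqp : q < p)
    (h11 : T345 T → ⁅dK T, dK T⁆ = dH T ∧ ∀ μ δ η, PrimeFam (dK T) (tf h.hT.tp) μ δ →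
      CycFam (tg h.hT.tp) η → ∀ ζ ∈ indD (dK T) (dK T) (dH T), ∀ i j,
        classInner (tau T (pmu (dK T) μ 1 - ζ)) (η i j) = if i = 1 then 1 else 0)
    (aS : ¬ Gal9 (dH S) (U.subgroupOf S) ⊥ → 4 * #U = (p - 1) ^ 2)
    (aT : ¬ Gal9 (dH T) (V.subgroupOf T) ⊥ → p = 3)
    (bS : Gal9 (dH S) (U.subgroupOf S) ⊥ → (if q ∣ p - 1 then q * #U else #U) = (p ^ q - 1) / (p - 1))
    (bT : Gal9 (dH T) (V.subgroupOf T) ⊥ → (if p ∣ q - 1 then p * #V else #V) = (q ^ p - 1) / (q - 1)) :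
    False := by
  have hq := h.hS.three_le
  obtain ⟨a, ha⟩ := h.hS.odd_p
  obtain ⟨b, hb⟩ := h.hT.odd_p
  have gT : Gal9 (dH T) (V.subgroupOf T) ⊥ := by_contra fun e => by have := aT e; omega
  have hv := bT gT
  rw [if_neg fun e => by have := Nat.le_of_dvd (by omega) e; omega] at hv
  have hlt := div_lt_14 (by omega) (by omega) (h.hS.u_le h.cS) hv
  obtain ⟨L, ν, ζ, hL, eL, y, hy, hy'⟩ := h.exists_L' h2 hqp
  have gS := h.gal9 h2 hL hy' aS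
  have hu := bS gS
  obtain ⟨rT, cT⟩ := h.hT.reg (h.hT.sec9.caseB gT) h.cT
  obtain ⟨M, ν', ζ', hM, eM, eV⟩ := h.exists_M (h.typeII hlt h11) hqp
    (h.hS.reg (h.hS.sec9.caseB gS) h.cS).1 rT hv hlt
  have key : ¬ cj y W₂ ≤ NN U := fun e => by
    have h3 := hL.modEq_of hy' (by rw [card_cj, h.hS.cp]; exact dvd_mul_left _ _) e
    rw [card_cj, h.hS.cp] at h3
    split_ifs at hu
    · exact not_modEq_14 hq hqp hu h3
    · exact (sec14_7 h.hS h.hT (h.hS.sec9.caseB gS) h.cS hu hy e).not_gt hqp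
  have hn : ¬ CJ M L := by
    rintro ⟨g, rfl⟩
    exact key (cyc_nn (cj_MF g M ▸ cyc_cj (eV ▸ cT) g) hL.le (nn_MF' hy'))
  obtain ⟨x, hx⟩ := card_dvd hL.le
  have hx1 : x ≠ 1 := by
    rintro rfl
    exact key (eq_of_card_le hL.le (by omega) ▸ nn_MF' hy')
  have hd := til1_disjoint hM.max hL.max hn
  have h3 := eL ▸ hx ▸ hL.modEq
  have h4 : ¬ q ∣ p - 1 → (2 * (q * p) + 1) * #U ≤ #(MF L) := fun e => by
    rw [if_neg e] at hu
    rw [hx, mul_comm _ #U]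
    exact Nat.mul_le_mul_left _ (le_of_mul_modEq (hx ▸ odd_sub _) (h.hT.odd_p.mul h.hS.odd_p) h3
      ((Nat.modEq_and_modEq_iff_modEq_mul ((Nat.coprime_primes h.hS.primeq h.hS.primep).2 hqp.ne)).1
        ⟨h.hS.modEq, hu ▸ geo_modEq (by omega) (by omega)⟩) hx1)
  have hpq : 0 < q * p := mul_pos (by omega) (by omega)
  have h5 : ∀ k : ℕ, 0 < k → ((k : ℝ) - 1) / (q * p : ℕ) ≤ (q * p : ℕ) - 1 →
      k ≤ q * p * (q * p - 1) + 1 := fun k hk e => by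
    rw [div_le_iff₀ (by exact_mod_cast hpq), ← Nat.cast_pred hk, ← Nat.cast_pred hpq] at e
    have : k - 1 ≤ (q * p - 1) * (q * p) := by exact_mod_cast e
    rw [mul_comm]; omega
  rcases hM.c7.ne_zero_or hL.c7 hd odd_G with e | e
  · have h6 := hM.c7.le_of_ne hM.irr hL.c7 hd hL.irr hM.he e
    rw [eL, eM, card_dH] at h6
    have h7 := h5 _ (card_pos' _) h6
    by_cases e1 : q ∣ p - 1
    · rw [if_pos e1] at hu
      have := lt_14_15 h.hS.primep h.hS.primeq hq hqp e1 hu (hx ▸ odd_sub _) (mul_comm q p ▸ h3)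
        h.hS.modEq
      rw [mul_comm p, ← hx] at this
      omega
    · have h8 := (h4 e1).trans h7
      rw [if_neg e1] at hu
      have h9 : p ^ 2 ≤ #U :=
        hu ▸ (Nat.pow_le_pow_right (by omega) (by omega)).trans (le_geo (by omega) (by omega))
      obtain ⟨w, hw⟩ : ∃ w, q * p = w + 1 := ⟨q * p - 1, by omega⟩
      have h10 : w + 1 ≤ #U := by nlinarith
      rw [hw, Nat.add_sub_cancel] at h8
      nlinarith
  · have h6 := hL.c7.le_of_ne hL.irr hM.c7 hd.symm hM.irr hL.he e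
    rw [eL, eM, card_dH, eV] at h6
    have h7 := h5 _ (card_pos' _) h6
    obtain ⟨rfl, rfl⟩ := eq_of_pow_le h.hS.primep h.hS.primeq hq hqp
      ((le_geo (by omega) (by omega)).trans (hv ▸ h7.trans (by
        obtain ⟨w, hw⟩ : ∃ w, q * p = w + 1 := ⟨q * p - 1, by omega⟩
        rw [mul_comm p, hw, Nat.add_sub_cancel]; nlinarith)))
    have h8 := h4 (by norm_num)
    replace hu : #U = 31 := by rw [if_neg (by norm_num)] at hu; exact hu
    replace hv : #V = 121 := hv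
    obtain ⟨η, cyc⟩ := (tp_cycTI h.hS.tp).exists_fam
    have h9 : (31 * 31 : ℝ) ≤ #(MF L) := by rw [hu] at h8; exact_mod_cast h8
    refine e (hL.c7.rip_X_eq_zero cyc (fun a b => hL.not_mem (h.hS.orderOf_tg _)) hL.irr hM.c7 hd.symm
      hM.irr hL.he (by rw [eL, h.hS.cp, h.hS.cq]) ((h.le_or_odd hL cyc).resolve_left ?_)
      ((h.le_or_odd' hL cyc).resolve_left ?_) fun a b => hM.not_mem (h.hS.orderOf_tg _))
    · rw [eL, hu]; push_cast; linarith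
    · rw [eL, hv]; push_cast; linarith

end H14

end Cfsg.Agent.PF
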