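import Cfsg.Agent.Lib.MS.Pre1

/-!
Peterfalvi's Section 8, group-theoretic part: the types of maximal subgroups.  The results of the
local analysis are collected in the class `BG16`.
-/

set_option autoImplicit false
set_option linter.unusedSectionVars false
set_option linter.unusedVariables false

namespace Cfsg.Agent
universe u

/-- Type I, with `O_{p'}(M_F)` in place of `O_{p'}(M)` in the third case. -/
def IsOfTypeI {G : Type u} [Group G] (M : Subgroup G) : Prop :=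
  IsOfTypeF M ∧
  ( IsTISubset (fittingHallOf M : Set G) ∨
    (IsMulCommutative (fittingHallOf M) ∧ RankLE 2 (fittingHallOf M) ∧ ¬ RankLE 1 (fittingHallOf M)) ∨
    ((∀ p : ℕ, p.Prime → p ∣ Nat.card (fittingHallOf M) →
        Monoid.exponent (M ⧸ fittingHall M) ∣ p - 1) ∧
      ∃ p : ℕ, p.Prime ∧ p ∣ Nat.card (fittingHallOf M) ∧ IsCyclic (pPrimeCore p (fittingHallOf M))) )

open scoped Classical in
/-- `A(M)` for this notion of type I -/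
noncomputable def typeA {G : Type u} [Group G] (M : Subgroup G) : Set G :=
  if IsOfTypeI M then
    {a | a ∈ M ∧ a ≠ 1 ∧ ∃ x ∈ fittingHallOf M, x ≠ 1 ∧ a * x = x * a}
  else
    {a | a ∈ ⁅M, M⁆ ∧ a ≠ 1 ∧ ∃ x ∈ typeCore M, x ≠ 1 ∧ a * x = x * a}

/-- `A₀(M)` for this notion of type I -/
noncomputable def typeA0 {G : Type u} [Group G] (M : Subgroup G) : Set G :=
  typeA M ∪ {v | ¬ IsOfTypeI M ∧ ∃ W₁ U W₂ : Subgroup G, IsTypePWith M W₁ U W₂ ∧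
    ∃ m ∈ M, ∃ w ∈ W₁ ⊔ W₂, w ∉ W₁ ∧ w ∉ W₂ ∧ v = m * w * m⁻¹}

end Cfsg.Agent

namespace Cfsg.Agent.FT

open Subgroup Cfsg.Agent.Transfer Cfsg.Agent.MS

universe u
variable {G : Type u} [Group G] [Finite G]

/-- `M` is a Frobenius group with kernel `M_F`. -/
def Frob (M : Subgroup G) : Prop := ∀ x ∈ MF M, x ≠ 1 → M ⊓ C1 x ≤ MF M

/-- The maximal subgroup `L` supports `M` at `x`: the conclusions of (8.13). -/
structure Supp (M L : Subgroup G) (x : G) : Prop where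
  um : UM (C1 x) L
  sup : MF L ⊔ (M ⊓ L) = L
  inf : MF L ⊓ M = ⊥
  cent : (MF L ⊓ C1 x) ⊔ (M ⊓ C1 x) = C1 x
  cop : ∀ y ∈ typeA0 M, (#(MF L)).Coprime #(M ⊓ C1 y : Subgroup G)
  memA : x ∈ typeA L
  notA1 : x ∉ typeA1 L
  type : IsOfTypeI L ∨ IsOfTypeII L
  frob : IsOfTypeII L → Frob M

/-- The results of the local analysis used by the character theory. -/
class BG16 (G : Type u) [Group G] : Prop extends MinS G where
  types : ∀ M : Subgroup G, IsCoatom M →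
    IsOfTypeI M ∨ IsOfTypeII M ∨ IsOfTypeIII M ∨ IsOfTypeIV M ∨ IsOfTypeV M
  /-- (8.8) -/
  str : (∀ M : Subgroup G, IsCoatom M → IsOfTypeI M) ∨
    ∃ W₁ W₂ S T : Subgroup G, IsSelfNormalizingCyclic W₁ W₂ ∧ IsCoatom S ∧ IsCoatom T ∧
      IsComplIn ⁅S, S⁆ W₁ S ∧ IsComplIn ⁅T, T⁆ W₂ T ∧ S ⊓ T = W₁ ⊔ W₂ ∧
      (IsOfTypeII S ∨ IsOfTypeII T) ∧ IsOfTypeP S ∧ IsOfTypeP T ∧
      ∀ M : Subgroup G, IsCoatom M → IsOfTypeI M ∨ CJ S M ∨ CJ T M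
  /-- (8.11) -/
  core_syl : ∀ M : Subgroup G, IsCoatom M → ∀ p : ℕ, p.Prime → ∀ P, IsSyl p P (typeCore M) →
    P ≠ ⊥ → NN P ≤ M
  MF_hall : ∀ M : Subgroup G, IsCoatom M → (#(MF M)).Coprime (MF M).index
  core_hall : ∀ M : Subgroup G, IsCoatom M → (#(typeCore M)).Coprime (typeCore M).index
  /-- (8.12) -/
  compl : ∀ M U : Subgroup G, IsCoatom M →
    (IsOfTypeI M ∧ IsComplIn (MF M) U M) ∨ (IsOfTypeII M ∧ IsComplIn (MF M) U ⁅M, M⁆) →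
    (∀ p : ℕ, p.Prime → ∀ P, IsSyl p P U → IsMulCommutative P ∧ ¬ Rk p 3 P) ∧
      (∀ X ≤ U, X ≠ ⊥ → MF M ⊓ CC X ≠ ⊥ → UM (CC X) M) ∧ IsTISubset (typeA M \ typeA1 M)
  /-- (8.13) -/
  fusion : ∀ M : Subgroup G, IsCoatom M → ∀ x ∈ typeA0 M, ∀ g : G, g * x * g⁻¹ ∈ typeA0 M →
    ∃ m ∈ M, m * x * m⁻¹ = g * x * g⁻¹
  supp : ∀ M : Subgroup G, IsCoatom M → ∀ x ∈ typeA0 M, ¬ C1 x ≤ M →
    x ∈ typeA1 M ∧ ∃ L, Supp M L x
  /-- (8.17) -/
  prime_core : ∀ p : ℕ, p.Prime → p ∣ Nat.card G → ∃ M : Subgroup G, IsCoatom M ∧ p ∣ #(typeCore M)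
  core_cop : ∀ M N : Subgroup G, IsCoatom M → IsCoatom N → ¬ CJ M N →
    (#(typeCore M)).Coprime #(typeCore N)
  tilde_disj : ∀ M N : Subgroup G, IsCoatom M → IsCoatom N → ¬ CJ M N →
    Disjoint (tildeOf M (typeA1 M)) (tildeOf N (typeA1 N))
  cover : (∀ M : Subgroup G, IsCoatom M → IsOfTypeI M) →
    ∀ g : G, g ≠ 1 → ∃ M : Subgroup G, IsCoatom M ∧ g ∈ tildeOf M (typeA1 M)

/-! ### groups of type F -/

/-- Type F, for a given complement `U` of `M_F` in `M`. -/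
structure TF (M U : Subgroup G) : Prop where
  ne : MF M ≠ ⊥
  neU : U ≠ ⊥
  sup : MF M ⊔ U = M
  inf : MF M ⊓ U = ⊥
  ex1 : ∃ U₁ ≤ U, U ≤ NN U₁ ∧ IsMulCommutative U₁ ∧ ∀ x ∈ MF M, x ≠ 1 → U ⊓ C1 x ≤ U₁
  ex0 : ∃ U₀ ≤ U, Monoid.exponent U₀ = Monoid.exponent U ∧ Reg (MF M) U₀

section TF
variable {M U U' H : Subgroup G}

theorem mem_MF {x : G} : x ∈ MF M ↔ ∃ h : x ∈ M, (⟨x, h⟩ : M) ∈ fittingHall M :=
  ⟨fun ⟨y, h, e⟩ => e ▸ ⟨y.2, h⟩, fun ⟨h, h1⟩ => ⟨_, h1, rfl⟩⟩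

theorem MF_subgroupOf (M : Subgroup G) : (MF M).subgroupOf M = fittingHall M :=
  comap_map_eq_self_of_injective M.subtype_injective _

theorem exponent_map_subtype (X : Subgroup M) :
    Monoid.exponent (X.map M.subtype) = Monoid.exponent X :=
  (Monoid.exponent_eq_of_mulEquiv (X.equivMapOfInjective _ M.subtype_injective)).symm

theorem exists_TF (h : IsOfTypeF M) : ∃ U, TF M U := by
  obtain ⟨-, -, h1, -, U, h2, h3, ⟨U₁, a1, a2, a3, a4⟩, U₀, b1, b2, b3⟩ := h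
  have i := M.subtype_injective
  refine ⟨U.map M.subtype, by rwa [Ne, fittingHallOf, map_eq_bot_iff_of_injective _ i],
    by rwa [Ne, map_eq_bot_iff_of_injective _ i], ?_, ?_,
    ⟨U₁.map M.subtype, map_mono a1, (map_mono a2).trans (le_normalizer_map _), inferInstance, ?_⟩,
    U₀.map M.subtype, map_mono b1, by rw [exponent_map_subtype, exponent_map_subtype, b2], ?_⟩
  · rw [fittingHallOf, ← Subgroup.map_sup, h3.sup_eq_top, ← MonoidHom.range_eq_map, range_subtype]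
  · rw [fittingHallOf, ← map_inf _ _ _ i, h3.disjoint.eq_bot, Subgroup.map_bot]
  · rintro _ ⟨x, hx, rfl⟩ hx1 _ ⟨⟨y, hy, rfl⟩, c⟩
    exact ⟨y, a4 x hx (fun e => hx1 (by simp [e])) ⟨hy, mem_C1.2 (i (mem_C1.1 c))⟩, rfl⟩
  · rintro _ ⟨u, hu, rfl⟩ hu1
    rw [eq_bot_iff]
    rintro _ ⟨⟨x, hx, rfl⟩, c⟩
    rw [b3 u hu (fun e => hu1 (by simp [e])) x hx (i (mem_C1.1 c).symm)]
    exact one_mem _

theorem TF.le (h : TF M U) : U ≤ M := h.sup ▸ le_sup_right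

theorem TF.cj (h : TF M U) (g : G) : TF (cj g M) (cj g U) := by
  obtain ⟨U₁, a1, a2, a3, a4⟩ := h.ex1
  obtain ⟨U₀, b1, b2, b3⟩ := h.ex0
  refine ⟨by rw [← cj_MF]; exact mt cj_eq_bot_iff.1 h.ne, mt cj_eq_bot_iff.1 h.neU,
    by rw [← cj_MF, ← cj_sup, h.sup], by rw [← cj_MF, ← cj_inf, h.inf, cj_eq_bot_iff],
    ⟨_, cj_mono g a1, nn_cj a2 g, ab_cj a3 g, ?_⟩, _, cj_mono g b1, ?_, cj_MF g M ▸ b3.cj g⟩
  · rw [← cj_MF]
    rintro _ ⟨x, hx, rfl⟩ h1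
    have := cj_mono g (a4 x hx fun e => h1 (by simp [e]))
    rwa [cj_inf, cj_centralizer_singleton] at this
  · rw [← Monoid.exponent_eq_of_mulEquiv (cjEquiv g U₀), ← Monoid.exponent_eq_of_mulEquiv (cjEquiv g U),
      b2]

theorem compl_hall (h1 : MF M ⊔ U = M) (h2 : MF M ⊓ U = ⊥) : Hall {p | p ∣ #(MF M)}ᶜ U M :=
  (MF_hall M).compl (nn_MF' (h1 ▸ le_sup_right)) h1 h2

/-- Any complement will do. -/
theorem TF.of_compl (h : TF M U) (hs : Group.IsSolvable M) (h1 : MF M ⊔ U' = M) (h2 : MF M ⊓ U' = ⊥) :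
    TF M U' := by
  obtain ⟨g, hg, rfl⟩ := Hall.conj hs (compl_hall h.sup h.inf) (compl_hall h1 h2)
  have := h.cj g
  rwa [cj_eq_of_mem hg] at this

theorem TF.hall (h : TF M U) : Hall {p | p ∣ #(MF M)}ᶜ U M := compl_hall h.sup h.inf

theorem TF.coprime (h : TF M U) : (#U).Coprime #(MF M) :=
  ((MF_hall M).pi.coprime h.hall.pi).symm

theorem TF.card (h : TF M U) : #(MF M) * #U = #M := (MF_hall M).card_mul h.hall

theorem TF.relIndex (h : TF M U) : (MF M).relIndex M = #U :=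
  Nat.eq_of_mul_eq_mul_left (card_pos' (MF M)) (by rw [card_mul_relIndex (MF_le M), h.card])

theorem TF.lt (h : TF M U) : MF M < M := (MF_le M).lt_of_ne fun e =>
  h.neU (by rw [← h.inf, e, inf_eq_right.2 h.le])

/-- a regular group of operators of odd order has cyclic Sylow subgroups -/
theorem Reg.zgroup (h : Reg H U) (h0 : H ≠ ⊥) (h1 : U ≤ NN H) (ho : Odd #U) : IsZGroup U := by
  rw [zgroup_iff ho]
  rintro ⟨p, hp, A, hA⟩
  have := Fact.mk hp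
  exact h0 (le_bot_iff.1 (cop_gen hA.ab hA.not_cyc (hA.le.trans h1)
    (coprime_mono (h.coprime h1) hA.le le_rfl) fun a ha ha1 => (h a (hA.le ha) ha1).le))

theorem frob_of_reg (hs : Group.IsSolvable M) (h1 : MF M ⊔ U = M) (h2 : MF M ⊓ U = ⊥)
    (h : Reg (MF M) U) : Frob M := fun x hx hx1 => by
  have a := compl_hall h1 h2
  obtain ⟨K, hK⟩ := exists_hall (sol_mono hs (inf_le_left : M ⊓ C1 x ≤ M)) {p | p ∣ #(MF M)}ᶜ
  obtain ⟨g, hg, b⟩ := a.exists_cj_le hs (hK.le.trans inf_le_left) hK.pi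
  have : K = ⊥ := by
    by_contra c
    obtain ⟨y, hy, hy1⟩ := exists_ne_one c
    have d := h _ (b (conj_mem_cj hy)) (by simpa using hy1)
    have e : g * x * g⁻¹ ∈ MF M ⊓ C1 (g * y * g⁻¹) :=
      ⟨conj_mem_of_mem_normalizer (nn_MF' le_rfl hg) hx, by
        rw [← cj_centralizer_singleton]; exact conj_mem_cj (mem_C1_comm.1 (hK.le hy).2)⟩
    rw [d, mem_bot] at e
    exact hx1 (by simpa using e)
  exact (MF_hall M).le_of_normal (nn_MF' le_rfl) inf_le_left (by simpa using hK.eq_bot_iff.1 this)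

theorem Frob.reg (h : Frob M) (h1 : U ≤ M) (h2 : MF M ⊓ U = ⊥) : Reg (MF M) U :=
  Reg.symm fun x hx hx1 => eq_bot_of_le h2 ((inf_le_inf_right _ h1).trans (h x hx hx1)) inf_le_left

/-- (8.2.b) -/
theorem TF.frob (h : TF M U) (hs : Group.IsSolvable M) (hZ : IsZGroup U) : Frob M := by
  obtain ⟨U₀, b1, b2, b3⟩ := h.ex0
  have : U₀ = U := eq_of_card_le b1 (Nat.le_of_dvd (card_pos' _) (by
    rw [← IsZGroup.exponent_eq_card, ← b2]; exact Group.exponent_dvd_nat_card))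
  exact frob_of_reg hs h.sup h.inf (this ▸ b3)

theorem TF.zgroup (h : TF M U) (ho : Odd #M) (hF : Frob M) : IsZGroup U :=
  Reg.zgroup (hF.reg h.le h.inf) h.ne (nn_MF' h.le) (odd_mono ho h.le)

/-- every prime dividing `|U|` is the order of a subgroup acting regularly on `M_F` -/
theorem TF.exists_reg (h : TF M U) {p : ℕ} (hp : p.Prime) (hd : p ∣ #U) :
    ∃ X ≤ U, #X = p ∧ Reg (MF M) X := by
  obtain ⟨U₀, b1, b2, b3⟩ := h.ex0
  have := Fact.mk hp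
  obtain ⟨x, hx⟩ := exists_prime_orderOf_dvd_card' p hd
  obtain ⟨X, a, b⟩ := exists_card_eq (H := U₀) hp
    ((hx ▸ b2 ▸ Monoid.order_dvd_exponent x).trans Group.exponent_dvd_nat_card)
  exact ⟨X, a.trans b1, b, b3.mono le_rfl a⟩

theorem Frob.cj (h : Frob M) (g : G) : Frob (cj g M) := by
  rw [Frob, ← cj_MF]
  rintro _ ⟨x, hx, rfl⟩ h1
  have := cj_mono g (h x hx fun e => h1 (by simp [e]))
  rwa [cj_inf, cj_centralizer_singleton] at this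

end TF

/-! ### groups of type P -/

section TP
variable {M U W₁ W₂ U' W₁' W₂' A B : Subgroup G} {x : G}

theorem complIn_cj (h : IsComplIn A B M) (g : G) : IsComplIn (cj g A) (cj g B) (cj g M) := by
  refine ⟨cj_mono g h.1, cj_mono g h.2.1, by rw [← cj_inf, h.2.2.1, cj_eq_bot_iff], ?_⟩
  rintro _ ⟨m, hm, rfl⟩
  obtain ⟨a, ha, b, hb, rfl⟩ := h.2.2.2 m hm
  exact ⟨_, conj_mem_cj ha, _, conj_mem_cj hb, by simp [mul_assoc]⟩

theorem mem_normalizer_set {X : Set G} {g : G} :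
    g ∈ normalizer X ↔ ∀ x ∈ X, g * x * g⁻¹ ∈ X :=
  ⟨fun h x hx => (h x).1 hx, fun h => mem_normalizer_fintype (S := X) h⟩

theorem snc_cj (h : IsSelfNormalizingCyclic W₁ W₂) (g : G) :
    IsSelfNormalizingCyclic (cj g W₁) (cj g W₂) := by
  obtain ⟨a, b, c, d, e, f⟩ := h
  refine ⟨mt cj_eq_bot_iff.1 a, mt cj_eq_bot_iff.1 b, by rw [← cj_inf, c, cj_eq_bot_iff], ?_,
    cj_sup g _ _ ▸ cyc_cj e g, fun X hX hne => ?_⟩
  · rintro _ ⟨x, hx, rfl⟩ _ ⟨y, hy, rfl⟩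
    rw [← map_mul, d x hx y hy, map_mul]
  · have := f {x | g * x * g⁻¹ ∈ X} (fun x hx => by
      have := hX hx
      rw [← cj_sup] at this
      simpa only [Set.mem_sdiff, Set.mem_union, SetLike.mem_coe, conj_mem_cj_iff] using this)
      (by obtain ⟨x, hx⟩ := hne; exact ⟨g⁻¹ * x * g, by simpa [mul_assoc] using hx⟩)
    ext y
    rw [← cj_sup, mem_cj, ← this, mem_normalizer_set, mem_normalizer_set]
    refine ⟨fun k x hx => ?_, fun k x hx => ?_⟩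
    · simpa [mul_assoc] using k _ hx
    · simpa [mul_assoc] using k (g⁻¹ * x * g) (by simpa [mul_assoc] using hx)

theorem snc_symm (h : IsSelfNormalizingCyclic W₁ W₂) : IsSelfNormalizingCyclic W₂ W₁ := by
  obtain ⟨a, b, c, d, e, f⟩ := h
  exact ⟨b, a, inf_comm W₁ W₂ ▸ c, fun x hx y hy => (d y hy x hx).symm, sup_comm W₁ W₂ ▸ e,
    fun X hX hne => by rw [sup_comm, Set.union_comm] at hX; rw [f X hX hne, sup_comm]⟩

theorem typeP_cj (h : IsTypePWith M W₁ U W₂) (g : G) :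
    IsTypePWith (cj g M) (cj g W₁) (cj g U) (cj g W₂) where
  W₁_ne := mt cj_eq_bot_iff.1 h.W₁_ne
  W₁_cyclic := cyc_cj h.W₁_cyclic g
  W₁_hall := by rw [card_cj, relIndex_cj]; exact h.W₁_hall
  W₁_compl := cj_commutator g M M ▸ complIn_cj h.W₁_compl g
  U_nilpotent := nil_cj h.U_nilpotent g
  U_normal := nn_cj h.U_normal g
  U_compl := cj_commutator g M M ▸ cj_MF g M ▸ complIn_cj h.U_compl g
  H_not_cyclic := fun c => h.H_not_cyclic (by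
    have := cyc_cj c g⁻¹; rwa [cj_MF, cj_inv_cj] at this)
  derived_two_le := by
    rw [← cj_commutator, ← cj_commutator, ← cj_MF, ← cj_centralizer, ← cj_inf, ← cj_sup]
    exact cj_mono g h.derived_two_le
  fitting_eq := by rw [← cj_MF, ← cj_centralizer, ← cj_inf, ← cj_sup, ← cj_F, h.fitting_eq]
  fitting_le := by rw [← cj_commutator, ← cj_F]; exact cj_mono g h.fitting_le
  W₂_le := by
    rw [← cj_commutator, ← cj_commutator, ← cj_MF, ← cj_inf]; exact cj_mono g h.W₂_le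
  W₂_centralizer := by
    rintro _ ⟨x, hx, rfl⟩ h1
    rw [← h.W₂_centralizer x hx fun e => h1 (by simp [e]), cj_inf, cj_centralizer_singleton,
      cj_commutator]
    rfl
  selfNormalizing := snc_cj h.selfNormalizing g

end TP

end Cfsg.Agent.FT

namespace Cfsg.IsTypePWith

open Subgroup Cfsg.Agent Cfsg.Agent.Transfer Cfsg.Agent.MS Cfsg.Agent.FT

universe u
variable {G : Type u} [Group G] [Finite G] {M U W₁ W₂ U' W₁' W₂' : Subgroup G} {x : G}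
  (h : IsTypePWith M W₁ U W₂)
include h

theorem W₁_le : W₁ ≤ M := h.W₁_compl.2.1
theorem U_le' : U ≤ ⁅M, M⁆ := h.U_compl.2.1
theorem U_le : U ≤ M := h.U_le'.trans (der_le M)
theorem H_le : MF M ≤ ⁅M, M⁆ := h.U_compl.1
theorem W₂_leH : W₂ ≤ MF M := h.W₂_le.trans inf_le_left
theorem W₂_le' : W₂ ≤ ⁅M, M⁆ := h.W₂_leH.trans h.H_le
theorem W₂_leM : W₂ ≤ M := h.W₂_le'.trans (der_le M)
theorem W_le : W₁ ⊔ W₂ ≤ M := sup_le h.W₁_le h.W₂_leM
theorem der_sup : ⁅M, M⁆ ⊔ W₁ = M :=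
  ((isComplIn_iff (nn_comm (nn_of_le h.W₁_le) (nn_of_le h.W₁_le))).1 h.W₁_compl).1
theorem der_inf : ⁅M, M⁆ ⊓ W₁ = ⊥ := h.W₁_compl.2.2.1
theorem H_sup : MF M ⊔ U = ⁅M, M⁆ := ((isComplIn_iff (nn_MF' h.U_le)).1 h.U_compl).1
theorem H_inf : MF M ⊓ U = ⊥ := h.U_compl.2.2.1
theorem W₂_ne : W₂ ≠ ⊥ := h.selfNormalizing.2.1
theorem H_ne : MF M ≠ ⊥ := fun e => h.W₂_ne (le_bot_iff.1 (e ▸ h.W₂_leH))
theorem W_inf : W₁ ⊓ W₂ = ⊥ := h.selfNormalizing.2.2.1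
theorem W_cyc : IsCyclic (W₁ ⊔ W₂ : Subgroup G) := h.selfNormalizing.2.2.2.2.1
theorem W₂_cyc : IsCyclic W₂ := cyc_mono h.W_cyc le_sup_right
theorem W_cc : W₁ ≤ CC W₂ := ab_le_cc (ab_of_cyc h.W_cyc) le_sup_left le_sup_right
theorem U_inf : U ⊓ W₁ = ⊥ := inf_bot_mono h.der_inf h.U_le' le_rfl
theorem card_W : #(W₁ ⊔ W₂ : Subgroup G) = #W₁ * #W₂ := card_sup_r (nn_of_cc h.W_cc) h.W_inf
theorem card_der : #(⁅M, M⁆ : Subgroup G) = #(MF M) * #U := by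
  rw [← h.H_sup, card_sup_l (nn_MF' h.U_le) h.H_inf]
theorem card_M : #M = #(⁅M, M⁆ : Subgroup G) * #W₁ := by
  rw [← card_sup_l (nn_comm (nn_of_le h.W₁_le) (nn_of_le h.W₁_le)) h.der_inf, h.der_sup]
theorem relIndex_der : (⁅M, M⁆ : Subgroup G).relIndex M = #W₁ :=
  Nat.eq_of_mul_eq_mul_left (card_pos' ⁅M, M⁆) (by rw [card_mul_relIndex (der_le M), h.card_M])
theorem relIndex_W₁ : W₁.relIndex M = #(⁅M, M⁆ : Subgroup G) :=
  Nat.eq_of_mul_eq_mul_left (card_pos' W₁) (by rw [card_mul_relIndex h.W₁_le, h.card_M, mul_comm])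
theorem cop_W₁ : (#W₁).Coprime #(⁅M, M⁆ : Subgroup G) := h.relIndex_W₁ ▸ h.W₁_hall
theorem cop_W : (#W₁).Coprime #W₂ := coprime_mono h.cop_W₁ le_rfl h.W₂_le'
theorem hall_W₁ : Hall {p | p ∣ #W₁} W₁ M := hall_of_coprime h.W₁_le h.W₁_hall
theorem hall_der : Hall {p | p ∣ #W₁}ᶜ ⁅M, M⁆ M :=
  .mk' (der_le M) (pi_of_coprime h.cop_W₁.symm) fun p hp a b => a (h.relIndex_der ▸ b)
theorem H_sup_UW : MF M ⊔ (U ⊔ W₁) = M := by rw [← sup_assoc, h.H_sup, h.der_sup]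
theorem UW_inf_der : (U ⊔ W₁) ⊓ ⁅M, M⁆ = U := by
  rw [dedekind h.U_le' h.U_normal, inf_comm, h.der_inf, sup_bot_eq]
theorem H_inf_UW : MF M ⊓ (U ⊔ W₁) = ⊥ := by
  rw [← inf_eq_left.2 h.H_le, inf_assoc, inf_comm ⁅M, M⁆, h.UW_inf_der, h.H_inf]
theorem hall_UW : Hall {p | p ∣ #(MF M)}ᶜ (U ⊔ W₁) M := compl_hall h.H_sup_UW h.H_inf_UW
theorem cop_U : (#U).Coprime #(MF M) :=
  ((MF_hall M).pi.coprime (h.hall_UW.pi.mono le_sup_left)).symm
theorem cop_UW : (#(U ⊔ W₁ : Subgroup G)).Coprime #(MF M) :=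
  ((MF_hall M).pi.coprime h.hall_UW.pi).symm
theorem der_cc : ⁅M, M⁆ ⊓ CC W₁ = W₂ := by
  obtain ⟨x, hx, h1⟩ := exists_ne_one h.W₁_ne
  exact le_antisymm (h.W₂_centralizer x hx h1 ▸ inf_le_inf_left _ (cc_le_C1 hx))
    (le_inf h.W₂_le' (cc_symm h.W_cc))
theorem H_C1 (hx : x ∈ W₁) (h1 : x ≠ 1) : MF M ⊓ C1 x = W₂ :=
  le_antisymm (h.W₂_centralizer x hx h1 ▸ inf_le_inf_right _ h.H_le)
    (le_inf h.W₂_leH ((cc_symm h.W_cc).trans (cc_le_C1 hx)))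
theorem H_cc : MF M ⊓ CC W₁ = W₂ :=
  le_antisymm (h.der_cc ▸ inf_le_inf_right _ h.H_le) (le_inf h.W₂_leH (cc_symm h.W_cc))
theorem M_C1 (hx : x ∈ W₁) (h1 : x ≠ 1) : M ⊓ C1 x = W₁ ⊔ W₂ := by
  have a : W₁ ≤ C1 x := (ab_cc (ab_of_cyc h.W₁_cyclic)).trans (cc_le_C1 hx)
  conv_lhs => rw [← h.der_sup, sup_comm]
  rw [dedekind' a (nn_comm (nn_of_le h.W₁_le) (nn_of_le h.W₁_le)), h.W₂_centralizer x hx h1]
theorem M_cc : M ⊓ CC W₁ = W₁ ⊔ W₂ := by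
  obtain ⟨x, hx, h1⟩ := exists_ne_one h.W₁_ne
  exact le_antisymm (h.M_C1 hx h1 ▸ inf_le_inf_left _ (cc_le_C1 hx))
    (le_inf h.W_le (ab_le_cc (ab_of_cyc h.W_cyc) le_rfl le_sup_left))
/-- `W₁` acts regularly on `U` -/
theorem reg : Reg U W₁ := fun x hx h1 => eq_bot_of_le h.H_inf
  ((inf_le_inf_right _ h.U_le').trans ((h.W₂_centralizer x hx h1).le.trans h.W₂_leH)) inf_le_left
theorem nn_U : M ⊓ NN U = U ⊔ W₁ ⊔ (MF M ⊓ CC U) := by
  have a : U ⊔ W₁ ≤ NN U := sup_le (le_nn U) h.U_normal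
  conv_lhs => rw [← h.H_sup_UW, sup_comm]
  rw [dedekind' a (nn_MF' (sup_le h.U_le h.W₁_le))]
  congr 1
  refine le_antisymm (le_inf inf_le_left (cc_of_inf_eq_bot inf_le_right ?_ ?_))
    (inf_le_inf_left _ (cc_le_nn U))
  · exact nn_inf (nn_MF' h.U_le) (nn_nn (le_nn U))
  · exact inf_bot_mono h.H_inf inf_le_left le_rfl
theorem solvable : Group.IsSolvable M := by
  have a : Group.IsSolvable (⁅M, M⁆ : Subgroup G) :=
    h.H_sup ▸ sol_sup_l (sol_of_nil (MF_nil M)) (sol_of_nil h.U_nilpotent) (nn_MF' h.U_le)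
  exact h.der_sup ▸ sol_sup_l a (sol_of_ab (ab_of_cyc h.W₁_cyclic))
    (nn_comm (nn_of_le h.W₁_le) (nn_of_le h.W₁_le))

/-- (8.5.a) -/
theorem F_eq : F M = MF M ⊔ (U ⊓ CC (MF M)) := by
  refine le_antisymm ?_ (h.fitting_eq ▸ sup_le_sup_left (inf_le_inf_right _ h.U_le) _)
  have a : Hall {p | p ∣ #(MF M)}ᶜ U ⁅M, M⁆ :=
    ((MF_hall M).mono h.H_le (der_le M)).compl (nn_MF' h.U_le) h.H_sup h.H_inf
  have b : O {p | p ∣ #(MF M)}ᶜ (F M) ≤ U :=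
    a.le_of_nn' ((O_le _ _).trans h.fitting_le) (O_pi _ _) (nn_O (nn_F (nn_of_le h.U_le)))
  rw [← nil_O_sup (F_nil M) {p | p ∣ #(MF M)}]
  refine sup_le_sup ((MF_hall M).le_of_normal (nn_MF' le_rfl) ((O_le _ _).trans (F_le M)) (O_pi _ _))
    (le_inf b (nil_cc (F_nil M) (O_le _ _) (MF_le_F M) (coprime_mono h.cop_U b le_rfl)))

theorem F_inf_U : F M ⊓ U = U ⊓ CC (MF M) := by
  rw [h.F_eq, sup_comm, dedekind' inf_le_left (nn_MF' (inf_le_left.trans h.U_le)), h.H_inf, sup_bot_eq]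

/-- (8.5.b) -/
theorem der_U : ⁅U, U⁆ ≤ CC (MF M) :=
  (le_inf ((der_mono h.U_le').trans (h.fitting_eq ▸ h.derived_two_le)) (der_le U)).trans
    (h.F_inf_U.le.trans inf_le_right)

theorem not_le_cc (h0 : U ≠ ⊥) : ¬ U ≤ CC (MF M) := fun c => by
  have a : Group.IsNilpotent (⁅M, M⁆ : Subgroup G) :=
    h.H_sup ▸ nil_sup (MF_nil M) h.U_nilpotent (nn_of_cc (cc_symm c)) (nn_of_cc c)
  exact h0 (eq_bot_of_le h.H_inf (h.U_le'.trans (le_MF h.hall_der (by nrm) a)) le_rfl)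

/-- The data of type P are unique up to conjugacy in `M`. -/
theorem conj (h' : IsTypePWith M W₁' U' W₂') :
    ∃ m ∈ M, cj m W₁ = W₁' ∧ cj m U = U' ∧ cj m W₂ = W₂' := by
  obtain ⟨m, hm, e⟩ := Hall.conj h.solvable h.hall_UW h'.hall_UW
  have k := typeP_cj h m
  rw [cj_eq_of_mem hm] at k
  rw [cj_sup] at e
  have eU : cj m U = U' := by rw [← k.UW_inf_der, e, h'.UW_inf_der]
  have c : #(cj m W₁) = #W₁' := by rw [← k.relIndex_der, h'.relIndex_der]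
  have l : U' ⊔ W₁' ≤ M := sup_le h'.U_le h'.W₁_le
  obtain ⟨n, hn, e'⟩ := Hall.conj (sol_mono h.solvable l)
    ((h'.hall_W₁.of_card k.W₁_le c).mono (e ▸ le_sup_right) l) (h'.hall_W₁.mono le_sup_right l)
  have k' := typeP_cj h (n * m)
  rw [cj_eq_of_mem (mul_mem (l hn) hm), ← cj_cj n m W₁, e'] at k'
  refine ⟨n * m, mul_mem (l hn) hm, by rw [← cj_cj, e'], ?_, by rw [← k'.der_cc, h'.der_cc]⟩
  rw [← cj_cj, eU, cj_nn ((sup_le (le_nn U') h'.U_normal) hn)]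

/-- (8.9) -/
theorem W₂_eq (hW : IsSelfNormalizingCyclic W₁ W₂') (h2 : W₂' ≤ M) : W₂ = W₂' := by
  obtain ⟨a, b, c, d, e, f⟩ := hW
  have c1 : W₁ ≤ CC W₂' := ab_le_cc (ab_of_cyc e) le_sup_left le_sup_right
  have l : W₁ ⊔ W₂' ≤ W₁ ⊔ W₂ := sup_le le_sup_left (h.M_cc ▸ le_inf h2 (cc_symm c1))
  obtain ⟨x, hx, x1⟩ := exists_ne_one a
  obtain ⟨y, hy, y1⟩ := exists_ne_one b
  have l' : W₁ ⊔ W₂ ≤ W₁ ⊔ W₂' := by
    have m : x * y ∈ W₁ ⊔ W₂' := mul_mem_sup hx hy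
    rw [← f {x * y} (by
      rintro _ rfl
      refine ⟨m, fun k => k.elim (fun k => y1 ?_) fun k => x1 ?_⟩
      · exact eq_one_of_inf c ((W₁.mul_mem_cancel_left hx).1 k) hy
      · exact eq_one_of_inf c hx ((W₂'.mul_mem_cancel_right hy).1 k)) (Set.singleton_nonempty _)]
    exact ((ab_cc (ab_of_cyc h.W_cyc)).trans (cc_le_C1 (l m))).trans (centralizer_le_normalizer _)
  refine cyc_eq h.W_cyc le_sup_right (le_sup_right.trans l)
    (Nat.eq_of_mul_eq_mul_left (card_pos' W₁) ?_)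
  rw [← h.card_W, le_antisymm l' l, card_sup_r (nn_of_cc c1) c]

/-- Any complement of `M'` in `M` occurs in data of type P. -/
theorem exists_of_compl (h1 : IsComplIn ⁅M, M⁆ W₁' M) : ∃ U' W₂', IsTypePWith M W₁' U' W₂' := by
  have n : W₁' ≤ NN ⁅M, M⁆ := nn_comm (nn_of_le h1.2.1) (nn_of_le h1.2.1)
  obtain ⟨a, b⟩ := (isComplIn_iff n).1 h1
  have c : #W₁' = #W₁ := Nat.eq_of_mul_eq_mul_left (card_pos' ⁅M, M⁆)
    (by rw [← card_sup_l n b, a, h.card_M])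
  obtain ⟨m, hm, rfl⟩ := Hall.conj h.solvable h.hall_W₁ (h.hall_W₁.of_card h1.2.1 c)
  have k := typeP_cj h m
  rw [cj_eq_of_mem hm] at k
  exact ⟨_, _, k⟩

theorem not_TF (h' : TF M U') : False := by
  obtain ⟨p, hp, d⟩ := exists_prime_dvd h.W₁_ne
  have t := h'.of_compl h.solvable h.H_sup_UW h.H_inf_UW
  obtain ⟨X, a, b, c⟩ := t.exists_reg hp (d.trans (card_dvd le_sup_right))
  obtain ⟨m, hm, e⟩ := h.hall_W₁.exists_cj_le h.solvable (a.trans t.le) (pi_of_card b hp d)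
  obtain ⟨x, hx, x1⟩ := exists_ne_one (prime_ne_bot (K := cj m X) (by rwa [card_cj, b]))
  have := c.cj m x hx x1
  rw [cj_nn (nn_MF' le_rfl hm), h.H_C1 (e hx) x1] at this
  exact h.W₂_ne this

theorem not_typeI : ¬ Agent.IsOfTypeI M := fun c => (exists_TF c.1).elim fun _ => h.not_TF

theorem not_frob : ¬ Frob M := fun c => by
  obtain ⟨x, hx, x1⟩ := exists_ne_one h.W₂_ne
  exact h.W₁_ne (eq_bot_of_le h.der_inf
    (((le_inf h.W₁_le (h.W_cc.trans (cc_le_C1 hx))).trans (c x (h.W₂_leH hx) x1)).trans h.H_le) le_rfl)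

end Cfsg.IsTypePWith
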