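import Cfsg.Agent.Lib.FT.Sec8A
import Cfsg.Agent.Lib.FT.Wielandt
import Cfsg.Agent.Lib.Char.Dade

/-!
Peterfalvi's Section 8: the five types for given data, the sets `A₁(M) ⊆ A(M) ⊆ A₀(M)`, the Dade
hypothesis (8.15), (8.16), (8.18), the pair `S`, `T` of (8.8.b), and (9.3).
-/

set_option autoImplicit false
set_option linter.unusedSectionVars false
set_option linter.unusedVariables false

namespace Cfsg.IsTypePWith

open Subgroup Cfsg.Agent Cfsg.Agent.Transfer Cfsg.Agent.MS Cfsg.Agent.FT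

universe u
variable {G : Type u} [Group G] [Finite G] {M U W₁ W₂ : Subgroup G} {x : G}
  (h : IsTypePWith M W₁ U W₂)
include h

theorem transfer {U' W₁' W₂' : Subgroup G} (h' : IsTypePWith M W₁' U' W₂') :
    #W₁ = #W₁' ∧ (U = ⊥ ↔ U' = ⊥) ∧ (IsMulCommutative U' → IsMulCommutative U) ∧
      (NN U ≤ M ↔ NN U' ≤ M) := by
  obtain ⟨m, hm, rfl, rfl, rfl⟩ := h'.conj h
  refine ⟨card_cj _ _, cj_eq_bot_iff, fun a => ab_cj a m, ?_⟩
  rw [← cj_normalizer, cj_le_iff_le_cj_inv, cj_eq_of_mem (inv_mem hm)]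

theorem of_II (t : IsOfTypeII M) : U ≠ ⊥ ∧ (#W₁).Prime ∧ IsTISubset (F M : Set G) ∧
    IsMulCommutative U ∧ ¬ NN U ≤ M ∧ TF ⁅M, M⁆ U ∧ MF ⁅M, M⁆ = MF M := by
  obtain ⟨_, _, _, h', a, b, c, d, e, f, k⟩ := t
  obtain ⟨a', b', c', d'⟩ := h.transfer h'
  obtain ⟨_, f⟩ := exists_TF f
  exact ⟨mt b'.1 a, a' ▸ b, c, c' d, mt d'.1 e,
    f.of_compl (sol_mono h.solvable (der_le M)) (k ▸ h.H_sup) (k ▸ h.H_inf), k⟩

theorem of_III (t : IsOfTypeIII M) : U ≠ ⊥ ∧ (#W₁).Prime ∧ IsTISubset (F M : Set G) ∧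
    IsMulCommutative U ∧ NN U ≤ M := by
  obtain ⟨_, _, _, h', a, b, c, d, e⟩ := t
  obtain ⟨a', b', c', d'⟩ := h.transfer h'
  exact ⟨mt b'.1 a, a' ▸ b, c, c' d, d'.2 e⟩

theorem of_IV (t : IsOfTypeIV M) : U ≠ ⊥ ∧ (#W₁).Prime ∧ IsTISubset (F M : Set G) ∧
    ¬ IsMulCommutative U ∧ NN U ≤ M := by
  obtain ⟨_, _, _, h', a, b, c, d, e⟩ := t
  obtain ⟨a', b', c', d'⟩ := h.transfer h'
  exact ⟨mt b'.1 a, a' ▸ b, c, mt (h'.transfer h).2.2.1 d, d'.2 e⟩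

theorem of_V (t : IsOfTypeV M) : U = ⊥ ∧ (IsTISubset (MF M : Set G) ∨
    ∃ p : ℕ, p.Prime ∧ p ∣ #(MF M) ∧ IsCyclic (O {p}ᶜ (MF M)) ∧
      (#W₁ ∣ p - 1 ∨ #(O {p} (MF M)) = p ^ 3 ∧ #W₁ ∣ p + 1)) := by
  obtain ⟨_, _, _, h', a, b⟩ := t
  obtain ⟨a', b', c', d'⟩ := h.transfer h'
  have k : ∀ p : ℕ, p.Prime → IsCyclic (pPrimeCore p (MF M)) → IsCyclic (O {p}ᶜ (MF M)) :=
    fun p hp c => by
      have := Fact.mk hp
      rw [← map_pPrimeCore]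
      exact isCyclic_of_surjective _ (equivMapOfInjective _ _ (MF M).subtype_injective).surjective
  refine ⟨b'.2 a, b.imp_right fun b => b.elim (fun ⟨p, hp, d, e, f⟩ => ⟨p, hp, d, k p hp f, .inl (a' ▸ e)⟩)
    fun ⟨p, hp, d, e, f, g⟩ => ⟨p, hp, d, k p hp g, .inr ⟨?_, a' ▸ f⟩⟩⟩
  have := Fact.mk hp
  rw [← map_pCore, card_map_of_injective (MF M).subtype_injective, e]

theorem of_34 (t : IsOfTypeIII M ∨ IsOfTypeIV M) : U ≠ ⊥ ∧ NN U ≤ M :=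
  t.elim (fun t => ⟨(h.of_III t).1, (h.of_III t).2.2.2.2⟩) fun t => ⟨(h.of_IV t).1, (h.of_IV t).2.2.2.2⟩

theorem not_II_of_34 (t : IsOfTypeIII M ∨ IsOfTypeIV M) : ¬ IsOfTypeII M :=
  fun c => (h.of_II c).2.2.2.2.1 (h.of_34 t).2

theorem der_eq_of_bot (e : U = ⊥) : ⁅M, M⁆ = MF M := by rw [← h.H_sup, e, sup_bot_eq]

variable [hG : BG16 G] (hM : IsCoatom M)
include hM

theorem cases : IsOfTypeII M ∨ IsOfTypeIII M ∨ IsOfTypeIV M ∨ IsOfTypeV M :=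
  (hG.types M hM).resolve_left h.not_typeI

theorem typeV_iff : IsOfTypeV M ↔ U = ⊥ := ⟨fun t => (h.of_V t).1, fun e => by
  rcases h.cases hM with t | t | t | t
  exacts [absurd e (h.of_II t).1, absurd e (h.of_III t).1, absurd e (h.of_IV t).1, t]⟩

theorem typeII_iff : IsOfTypeII M ↔ U ≠ ⊥ ∧ ¬ NN U ≤ M :=
  ⟨fun t => ⟨(h.of_II t).1, (h.of_II t).2.2.2.2.1⟩, fun e => by
    rcases h.cases hM with t | t | t | t
    exacts [t, absurd (h.of_III t).2.2.2.2 e.2, absurd (h.of_IV t).2.2.2.2 e.2,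
      absurd (h.of_V t).1 e.1]⟩

theorem type34_iff : IsOfTypeIII M ∨ IsOfTypeIV M ↔ U ≠ ⊥ ∧ NN U ≤ M := ⟨h.of_34, fun e => by
  rcases h.cases hM with t | t | t | t
  exacts [absurd e.2 (h.of_II t).2.2.2.2.1, .inl t, .inr t, absurd (h.of_V t).1 e.1]⟩

theorem type34_of (h0 : U ≠ ⊥) (t : ¬ IsOfTypeII M) : IsOfTypeIII M ∨ IsOfTypeIV M :=
  (h.type34_iff hM).2 ⟨h0, by_contra fun c => t ((h.typeII_iff hM).2 ⟨h0, c⟩)⟩

theorem typeIII_of (h0 : U ≠ ⊥) (t : ¬ IsOfTypeII M) (c : IsMulCommutative U) : IsOfTypeIII M :=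
  (h.type34_of hM h0 t).resolve_right fun t => (h.of_IV t).2.2.2.1 c

/-- (8.6.a) -/
theorem of_ne_bot (h0 : U ≠ ⊥) : (#W₁).Prime ∧ IsTISubset (F M : Set G) := by
  rcases h.cases hM with t | t | t | t
  exacts [⟨(h.of_II t).2.1, (h.of_II t).2.2.1⟩, ⟨(h.of_III t).2.1, (h.of_III t).2.2.1⟩,
    ⟨(h.of_IV t).2.1, (h.of_IV t).2.2.1⟩, absurd (h.of_V t).1 h0]

theorem mem_of_conj_F (h0 : U ≠ ⊥) (hx : x ∈ F M) (h1 : x ≠ 1) {g : G} (hg : g * x * g⁻¹ ∈ F M) :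
    g ∈ M := by_contra fun c => h1 ((h.of_ne_bot hM h0).2 g (by rwa [nn_F_max hM]) x hx hg)

theorem C1_le_of_F (h0 : U ≠ ⊥) (hx : x ∈ F M) (h1 : x ≠ 1) : C1 x ≤ M := fun g hg =>
  h.mem_of_conj_F hM h0 hx h1 (by rwa [conj_eq_of_C1 hg])

theorem core_eq (t : ¬ IsOfTypeII M) : typeCore M = ⁅M, M⁆ := by
  rw [typeCore]
  split_ifs with c
  · rfl
  · exact (h.der_eq_of_bot (by_contra fun e => c (h.type34_of hM e t))).symm

end Cfsg.IsTypePWith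

namespace Cfsg.Agent.FT

open Subgroup Cfsg.Agent.Transfer Cfsg.Agent.MS

universe u
variable {G : Type u} [Group G] [Finite G] {M L S T U V W₁ W₂ : Subgroup G} {x y g : G}

theorem typeP_of (t : IsOfTypeII M ∨ IsOfTypeIII M ∨ IsOfTypeIV M ∨ IsOfTypeV M) : IsOfTypeP M := by
  rcases t with ⟨_, _, _, h, -⟩ | ⟨_, _, _, h, -⟩ | ⟨_, _, _, h, -⟩ | ⟨_, _, _, h, -⟩ <;>
    exact ⟨_, _, _, h⟩

theorem core_I (t : IsOfTypeI M) : typeCore M = MF M :=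
  if_neg fun c => (typeP_of (.inr (c.imp_right .inl))).elim fun _ ⟨_, _, h⟩ => h.not_typeI t

theorem core_II (t : IsOfTypeII M) : typeCore M = MF M :=
  if_neg fun c => (typeP_of (.inl t)).elim fun _ ⟨_, _, h⟩ => h.not_II_of_34 c t

theorem core_12 (t : IsOfTypeI M ∨ IsOfTypeII M) : typeCore M = MF M := t.elim core_I core_II

theorem core_34 (t : IsOfTypeIII M ∨ IsOfTypeIV M) : typeCore M = ⁅M, M⁆ := if_pos t

theorem MF_le_core (M : Subgroup G) : MF M ≤ typeCore M := by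
  rw [typeCore]
  split_ifs with c
  · exact (typeP_of (.inr (c.imp_right .inl))).elim fun _ ⟨_, _, h⟩ => h.H_le
  · rfl

theorem core_le (M : Subgroup G) : typeCore M ≤ M := by
  rw [typeCore]
  split_ifs
  exacts [der_le M, MF_le M]

theorem nn_core (M : Subgroup G) : M ≤ NN (typeCore M) := by
  rw [typeCore]
  split_ifs <;> nrm

theorem core_le_der (h : IsTypePWith M W₁ U W₂) : typeCore M ≤ ⁅M, M⁆ := by
  rw [typeCore]
  split_ifs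
  exacts [le_rfl, h.H_le]

theorem mem_A1 : x ∈ typeA1 M ↔ x ∈ typeCore M ∧ x ≠ 1 := Iff.rfl

theorem mem_A_I (t : IsOfTypeI M) :
    x ∈ typeA M ↔ x ∈ M ∧ x ≠ 1 ∧ ∃ y ∈ MF M, y ≠ 1 ∧ x * y = y * x := by
  rw [typeA, if_pos t]; rfl

theorem mem_A_P (t : ¬ IsOfTypeI M) :
    x ∈ typeA M ↔ x ∈ ⁅M, M⁆ ∧ x ≠ 1 ∧ ∃ y ∈ typeCore M, y ≠ 1 ∧ x * y = y * x := by
  rw [typeA, if_neg t]; rfl

theorem A0_I (t : IsOfTypeI M) : typeA0 M = typeA M :=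
  Set.union_eq_left.2 fun _ h => absurd t h.1

theorem mem_A0_P (h : IsTypePWith M W₁ U W₂) : x ∈ typeA0 M ↔ x ∈ typeA M ∨
    ∃ m ∈ M, ∃ w ∈ W₁ ⊔ W₂, w ∉ W₁ ∧ w ∉ W₂ ∧ x = m * w * m⁻¹ := by
  refine or_congr_right ⟨fun ⟨_, _, _, _, h', m, hm, w, a, b, c, d⟩ => ?_,
    fun k => ⟨h.not_typeI, _, _, _, h, k⟩⟩
  obtain ⟨n, hn, rfl, rfl, rfl⟩ := h.conj h'
  rw [← cj_sup] at a
  exact ⟨m * n, mul_mem hm hn, _, mem_cj.1 a, mt mem_cj.2 b, mt mem_cj.2 c, by rw [d]; group⟩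

theorem A_sub_A0 (M : Subgroup G) : typeA M ⊆ typeA0 M := Set.subset_union_left

/-- every element of `A(M)` centralises a nonidentity element of `M_s` -/
theorem A_spec (hx : x ∈ typeA M) : x ∈ M ∧ x ≠ 1 ∧ ∃ y ∈ typeCore M, y ≠ 1 ∧ x * y = y * x := by
  by_cases t : IsOfTypeI M
  · rw [core_I t]; exact (mem_A_I t).1 hx
  · exact ((mem_A_P t).1 hx).imp_left fun a => der_le M a

theorem A0_spec (hx : x ∈ typeA0 M) : x ∈ M ∧ x ≠ 1 := by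
  rcases hx with hx | ⟨-, _, _, _, h, m, hm, w, a, b, c, rfl⟩
  · exact ⟨(A_spec hx).1, (A_spec hx).2.1⟩
  · exact ⟨mul_mem (mul_mem hm (h.W_le a)) (inv_mem hm), fun e =>
      b (by rw [conj_eq_one_iff.1 e]; exact one_mem _)⟩

theorem mem_tilde {A : Set G} : x ∈ tildeOf M A ↔ x ∈ Char.dadeSupp A (supportR M) :=
  ⟨fun ⟨a, ha, r, hr, y, e⟩ => ⟨a, ha, r, hr, y⁻¹, by rw [e]; group⟩,
    fun ⟨a, ha, r, hr, y, e⟩ => ⟨a, ha, r, hr, y⁻¹, by rw [← e]; group⟩⟩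

theorem tilde_eq (M : Subgroup G) (A : Set G) : tildeOf M A = Char.dadeSupp A (supportR M) :=
  Set.ext fun _ => mem_tilde

theorem R_of_um (h1 : ¬ C1 x ≤ M) (h2 : UM (C1 x) L) : supportR M x = MF L ⊓ C1 x := by
  have h : ¬ C1 x ≤ M ∧ ∃! L : Subgroup G, IsCoatom L ∧ C1 x ≤ L := ⟨h1, uu_iff.2 h2.uu⟩
  rw [supportR, dif_pos h]
  obtain ⟨a, b⟩ := Classical.choose_spec h.2.exists
  rw [h2.uniq _ a b]

theorem R_of_le (h : C1 x ≤ M) : supportR M x = ⊥ := dif_neg fun c => c.1 h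

theorem R_cj (M : Subgroup G) (x g : G) :
    supportR (cj g M) (g * x * g⁻¹) = cj g (supportR M x) := by
  by_cases a : C1 x ≤ M
  · rw [R_of_le a, R_of_le (cj_centralizer_singleton g x ▸ cj_mono g a), eq_comm, cj_eq_bot_iff]
  by_cases b : UU (C1 x)
  · obtain ⟨L, b⟩ := b
    rw [R_of_um a b, cj_inf, cj_centralizer_singleton, cj_MF]
    exact R_of_um (by rwa [← cj_centralizer_singleton, cj_le_cj_iff])
      (cj_centralizer_singleton g x ▸ b.cj g)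
  · have e : supportR M x = ⊥ := dif_neg fun c => b (uu_iff.1 c.2)
    rw [e, cj_eq_bot_iff.2 rfl]
    refine dif_neg fun c => b ?_
    have := (uu_iff.1 c.2).cj g⁻¹
    rwa [← cj_centralizer_singleton, cj_inv_cj] at this

section
variable [hG : BG16 G]

theorem typeP_of_not_I (hM : IsCoatom M) (t : ¬ IsOfTypeI M) : ∃ W₁ U W₂, IsTypePWith M W₁ U W₂ :=
  typeP_of ((hG.types M hM).resolve_left t)

theorem typeI_cj (hM : IsCoatom M) (t : IsOfTypeI M) (g : G) : IsOfTypeI (cj g M) := by_contra fun c => by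
  obtain ⟨_, _, _, h⟩ := typeP_of_not_I (max_cj hM g) c
  have := typeP_cj h g⁻¹
  rw [cj_inv_cj] at this
  exact this.not_typeI t

theorem typeI_cj_iff (hM : IsCoatom M) : IsOfTypeI (cj g M) ↔ IsOfTypeI M :=
  ⟨fun t => cj_inv_cj g M ▸ typeI_cj (max_cj hM g) t g⁻¹, fun t => typeI_cj hM t g⟩

theorem typeII_cj (hM : IsCoatom M) (t : IsOfTypeII M) (g : G) : IsOfTypeII (cj g M) := by
  obtain ⟨_, _, _, h⟩ := typeP_of (.inl t)
  rw [(typeP_cj h g).typeII_iff (max_cj hM g), ← cj_normalizer, cj_le_cj_iff, Ne, cj_eq_bot_iff]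
  exact (h.typeII_iff hM).1 t

theorem typeII_cj_iff (hM : IsCoatom M) : IsOfTypeII (cj g M) ↔ IsOfTypeII M :=
  ⟨fun t => cj_inv_cj g M ▸ typeII_cj (max_cj hM g) t g⁻¹, fun t => typeII_cj hM t g⟩

theorem exists_TF_I (hM : IsCoatom M) (t : IsOfTypeI M) (h1 : MF M ⊔ U = M) (h2 : MF M ⊓ U = ⊥) :
    TF M U := (exists_TF t.1).elim fun _ h => h.of_compl (max_sol hM) h1 h2

theorem MF_ne (hM : IsCoatom M) : MF M ≠ ⊥ := by
  by_cases t : IsOfTypeI M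
  · exact (exists_TF t.1).elim fun _ h => h.ne
  · obtain ⟨_, _, _, h⟩ := typeP_of_not_I hM t
    exact h.H_ne

theorem core_ne (hM : IsCoatom M) : typeCore M ≠ ⊥ :=
  fun e => MF_ne hM (le_bot_iff.1 (e ▸ MF_le_core M))

theorem nn_MF_max (hM : IsCoatom M) : NN (MF M) = M := max_nn' hM (MF_ne hM) (MF_le M) (by nrm)

theorem MF_hall_top (hM : IsCoatom M) : Hall {p | p ∣ #(MF M)} (MF M) ⊤ :=
  hall_of_coprime le_top (by rw [relIndex_top_right]; exact hG.MF_hall M hM)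

theorem core_hall_top (hM : IsCoatom M) : Hall {p | p ∣ #(typeCore M)} (typeCore M) ⊤ :=
  hall_of_coprime le_top (by rw [relIndex_top_right]; exact hG.core_hall M hM)

theorem cj_core (hM : IsCoatom M) (g : G) : cj g (typeCore M) = typeCore (cj g M) := by
  by_cases t : IsOfTypeI M ∨ IsOfTypeII M
  · rw [core_12 t, core_12 (t.imp (typeI_cj hM · g) (typeII_cj hM · g)), cj_MF]
  · rw [not_or] at t
    obtain ⟨_, _, _, h⟩ := typeP_of_not_I hM t.1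
    rw [h.core_eq hM t.2, (typeP_cj h g).core_eq (max_cj hM g) (mt (typeII_cj_iff hM).1 t.2),
      cj_commutator]

theorem A1_sub_A (hM : IsCoatom M) : typeA1 M ⊆ typeA M := fun x hx => by
  by_cases t : IsOfTypeI M
  · exact (mem_A_I t).2 ⟨core_le M hx.1, hx.2, x, core_I t ▸ hx.1, hx.2, rfl⟩
  · obtain ⟨_, _, _, h⟩ := typeP_of_not_I hM t
    exact (mem_A_P t).2 ⟨core_le_der h hx.1, hx.2, x, hx.1, hx.2, rfl⟩

theorem A1_sub_A0 (hM : IsCoatom M) : typeA1 M ⊆ typeA0 M := (A1_sub_A hM).trans (A_sub_A0 M)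

theorem A_eq_A1 (hM : IsCoatom M) (t1 : ¬ IsOfTypeI M) (t2 : ¬ IsOfTypeII M) : typeA M = typeA1 M := by
  obtain ⟨_, _, _, h⟩ := typeP_of_not_I hM t1
  exact Set.Subset.antisymm (fun x hx => ⟨h.core_eq hM t2 ▸ ((mem_A_P t1).1 hx).1, (A_spec hx).2.1⟩)
    (A1_sub_A hM)

theorem A_eq_A1_of_frob (hM : IsCoatom M) (t : IsOfTypeI M) (h : Frob M) : typeA M = typeA1 M :=
  Set.Subset.antisymm (fun x hx => by
    obtain ⟨a, b, y, c, d, e⟩ := (mem_A_I t).1 hx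
    exact ⟨core_I t ▸ h y c d ⟨a, mem_C1.2 e⟩, b⟩) (A1_sub_A hM)

theorem typeI_of_frob (hM : IsCoatom M) (h : Frob M) : IsOfTypeI M := by_contra fun t =>
  (typeP_of_not_I hM t).elim fun _ ⟨_, _, k⟩ => k.not_frob h

theorem conj_mem_A1 (hM : IsCoatom M) (hx : x ∈ typeA1 M) (g : G) : g * x * g⁻¹ ∈ typeA1 (cj g M) :=
  ⟨cj_core hM g ▸ conj_mem_cj hx.1, mt conj_eq_one_iff.1 hx.2⟩

theorem conj_mem_A (hM : IsCoatom M) (hx : x ∈ typeA M) (g : G) : g * x * g⁻¹ ∈ typeA (cj g M) := by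
  have k : ∀ y, x * y = y * x → g * x * g⁻¹ * (g * y * g⁻¹) = g * y * g⁻¹ * (g * x * g⁻¹) :=
    fun y e => by rw [conj_mul, conj_mul, e]
  by_cases t : IsOfTypeI M
  · obtain ⟨a, b, y, c, d, e⟩ := (mem_A_I t).1 hx
    exact (mem_A_I (typeI_cj hM t g)).2 ⟨conj_mem_cj a, mt conj_eq_one_iff.1 b, _,
      cj_MF g M ▸ conj_mem_cj c, mt conj_eq_one_iff.1 d, k y e⟩
  · obtain ⟨a, b, y, c, d, e⟩ := (mem_A_P t).1 hx
    exact (mem_A_P (mt (typeI_cj_iff hM).1 t)).2 ⟨cj_commutator g M M ▸ conj_mem_cj a,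
      mt conj_eq_one_iff.1 b, _, cj_core hM g ▸ conj_mem_cj c, mt conj_eq_one_iff.1 d, k y e⟩

theorem conj_mem_A0 (hM : IsCoatom M) (hx : x ∈ typeA0 M) (g : G) :
    g * x * g⁻¹ ∈ typeA0 (cj g M) := by
  rcases hx with hx | ⟨t, _, _, _, h, m, hm, w, a, b, c, rfl⟩
  · exact .inl (conj_mem_A hM hx g)
  · exact .inr ⟨mt (typeI_cj_iff hM).1 t, _, _, _, typeP_cj h g, _, conj_mem_cj hm, _,
      cj_sup g _ _ ▸ conj_mem_cj a, mt conj_mem_cj_iff.1 b, mt conj_mem_cj_iff.1 c, by group⟩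

theorem conj_mem_A1' (hM : IsCoatom M) (hx : x ∈ typeA1 M) (hg : g ∈ M) : g * x * g⁻¹ ∈ typeA1 M := by
  have := conj_mem_A1 hM hx g; rwa [cj_eq_of_mem hg] at this
theorem conj_mem_A' (hM : IsCoatom M) (hx : x ∈ typeA M) (hg : g ∈ M) : g * x * g⁻¹ ∈ typeA M := by
  have := conj_mem_A hM hx g; rwa [cj_eq_of_mem hg] at this
theorem conj_mem_A0' (hM : IsCoatom M) (hx : x ∈ typeA0 M) (hg : g ∈ M) : g * x * g⁻¹ ∈ typeA0 M := by
  have := conj_mem_A0 hM hx g; rwa [cj_eq_of_mem hg] at this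

theorem tilde_A1_cj (hM : IsCoatom M) (g : G) (hx : x ∈ tildeOf M (typeA1 M)) :
    x ∈ tildeOf (cj g M) (typeA1 (cj g M)) := by
  obtain ⟨a, ha, r, hr, y, rfl⟩ := hx
  exact ⟨_, conj_mem_A1 hM ha g, _, R_cj M a g ▸ conj_mem_cj hr, y * g⁻¹, by group⟩

theorem tilde_A_cj (hM : IsCoatom M) (g : G) (hx : x ∈ tildeOf M (typeA M)) :
    x ∈ tildeOf (cj g M) (typeA (cj g M)) := by
  obtain ⟨a, ha, r, hr, y, rfl⟩ := hx
  exact ⟨_, conj_mem_A hM ha g, _, R_cj M a g ▸ conj_mem_cj hr, y * g⁻¹, by group⟩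

theorem supp_of_um (hM : IsCoatom M) (hx : x ∈ typeA0 M) (h1 : ¬ C1 x ≤ M) (h2 : UM (C1 x) L) :
    Supp M L x := by
  obtain ⟨-, L', h⟩ := hG.supp M hM x hx h1
  exact h.um.eq h2 ▸ h

theorem C1_le_of_not_A1 (hM : IsCoatom M) (hx : x ∈ typeA0 M) (h1 : x ∉ typeA1 M) : C1 x ≤ M :=
  by_contra fun c => h1 (hG.supp M hM x hx c).1

/-- (8.15) -/
theorem dade0 (hM : IsCoatom M) : DadeHypothesis (typeA0 M) M (supportR M) := by
  have k : ∀ a ∈ typeA0 M, (C1 a ≤ M ∧ supportR M a = ⊥) ∨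
      ∃ L, Supp M L a ∧ supportR M a = MF L ⊓ C1 a := fun a ha => by
    by_cases c : C1 a ≤ M
    · exact .inl ⟨c, R_of_le c⟩
    · obtain ⟨-, L, h⟩ := hG.supp M hM a ha c
      exact .inr ⟨L, h, R_of_um c h.um⟩
  refine ⟨fun c => (A0_spec c).2 rfl, fun a ha => (A0_spec ha).1,
    fun x hx a ha => conj_mem_A0' hM ha hx, hG.fusion M hM, fun a ha => ?_, fun a ha c hc u hu => ?_,
    fun a ha => ?_, fun a ha => ?_, fun a ha b hb => ?_⟩ <;>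
    rcases k a ha with ⟨h, e⟩ | ⟨L, h, e⟩ <;> rw [e]
  · exact bot_le
  · exact inf_le_right
  · rw [mem_bot.1 (e ▸ hu : u ∈ ⊥)]; simp
  · exact conj_mem_of_mem_normalizer (nn_inf (nn_MF' h.um.le) (le_nn _) hc) (e ▸ hu)
  · exact bot_inf_eq _
  · exact inf_bot_mono h.inf inf_le_left inf_le_left
  · rw [bot_sup_eq, inf_eq_right.2 h]
  · exact h.cent
  · simp
  · exact coprime_mono (h.cop b hb) inf_le_left le_rfl

theorem dadeA (hM : IsCoatom M) : DadeHypothesis (typeA M) M (supportR M) :=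
  (dade0 hM).restrict (A_sub_A0 M) fun _ hx _ ha => conj_mem_A' hM ha hx

theorem dade1 (hM : IsCoatom M) : DadeHypothesis (typeA1 M) M (supportR M) :=
  (dade0 hM).restrict (A1_sub_A0 hM) fun _ hx _ ha => conj_mem_A1' hM ha hx

theorem mem_of_conj_A0 (hM : IsCoatom M) (hx : x ∈ typeA0 M) (h1 : C1 x ≤ M)
    (hg : g * x * g⁻¹ ∈ typeA0 M) : g ∈ M := (dade0 hM).mem_of_conj_mem hx (R_of_le h1) hg

/-- (8.16) -/
theorem C1_le_II (hM : IsCoatom M) (t : IsOfTypeII M) (hx : x ∈ typeA0 M) : C1 x ≤ M := by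
  by_cases c : x ∈ typeA1 M
  · obtain ⟨_, _, _, h⟩ := typeP_of (.inl t)
    exact h.C1_le_of_F hM (h.of_II t).1 (MF_le_F M (core_II t ▸ c.1)) c.2
  · exact C1_le_of_not_A1 hM hx c

/-- (8.18.a) -/
theorem um_of_A (hT : IsCoatom T) (hx : x ∈ typeA T) (h1 : x ∉ typeA1 T)
    (hc : (orderOf x).Coprime #(MF T)) : UM (C1 x) T := by
  have t : IsOfTypeI T ∨ IsOfTypeII T := by
    by_contra c
    rw [not_or] at c
    exact h1 (A_eq_A1 hT c.1 c.2 ▸ hx)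
  obtain ⟨X, U, a, b, c, d⟩ : ∃ X U, x ∈ X ∧ X ≤ T ∧ IsComplIn (MF T) U X ∧
      ((IsOfTypeI T ∧ IsComplIn (MF T) U T) ∨ (IsOfTypeII T ∧ IsComplIn (MF T) U ⁅T, T⁆)) := by
    rcases t with t | t
    · obtain ⟨U, h⟩ := exists_TF t.1
      have := (isComplIn_iff (nn_MF' h.le)).2 ⟨h.sup, h.inf⟩
      exact ⟨T, U, (A_spec hx).1, le_rfl, this, .inl ⟨t, this⟩⟩
    · obtain ⟨_, U, _, h⟩ := typeP_of (.inl t)
      exact ⟨_, U, ((mem_A_P h.not_typeI).1 hx).1, der_le T, h.U_compl, .inr ⟨t, h.U_compl⟩⟩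
  have n : U ≤ NN (MF T) := nn_MF' (c.2.1.trans b)
  obtain ⟨e, f⟩ := (isComplIn_iff n).1 c
  obtain ⟨m, hm, k⟩ := (((MF_hall T).mono c.1 b).compl n e f).exists_cj_le (sol_of_le hT b)
    (zpowers_le.2 a) (pi_of_coprime (by rwa [Nat.card_zpowers]))
  obtain ⟨-, x1, y, hy, y1, e⟩ := A_spec hx
  rw [core_12 t] at hy
  have := ((hG.compl T U hT d).2.1 _ k (by rwa [Ne, cj_eq_bot_iff, zpowers_eq_bot]) (by
    rw [← cj_centralizer, ← cj_nn (nn_MF' b hm), ← cj_inf, Ne, cj_eq_bot_iff, cc_zpowers]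
    exact ne_bot_of_mem ⟨hy, mem_C1.2 e.symm⟩ y1)).cj m⁻¹
  rwa [← cj_centralizer, cj_inv_cj, cc_zpowers, cj_eq_of_mem (b (inv_mem hm))] at this

theorem supp_of_inter (hS : IsCoatom S) (hT : IsCoatom T) (n : ¬ CJ S T) (h1 : x ∈ typeA1 S)
    (h2 : x ∈ typeA T) : ¬ C1 x ≤ S ∧ Supp S T x := by
  have c := hG.core_cop S T hS hT n
  have a : UM (C1 x) T := um_of_A hT h2 (fun k => h1.2 (eq_one_of_inf (inf_of_coprime c) h1.1 k.1))
    ((coprime_mono c le_rfl (MF_le_core T)).coprime_dvd_left (orderOf_dvd h1.1))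
  have b : ¬ C1 x ≤ S := fun k => n (a.uniq S hS k ▸ CJ.refl _)
  exact ⟨b, supp_of_um hS (A1_sub_A0 hS h1) b a⟩

/-- (8.18.b) -/
theorem exists_of_tilde (hS : IsCoatom S) (hT : IsCoatom T) (n : ¬ CJ S T)
    (h1 : y ∈ tildeOf S (typeA1 S)) (h2 : y ∈ tildeOf T (typeA T)) :
    ∃ g x, x ∈ typeA1 S ∧ x ∈ typeA (cj g T) := by
  obtain ⟨b, hb, s, hs, z, e⟩ := h2
  have b1 : b ∉ typeA1 T := fun k =>
    Set.disjoint_left.1 (hG.tilde_disj S T hS hT n) h1 ⟨b, k, s, hs, z, e⟩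
  rw [R_of_le (C1_le_of_not_A1 hT (A_sub_A0 T hb) b1), mem_bot] at hs
  rw [hs, mul_one] at e
  obtain ⟨a, ha, r, hr, w, e'⟩ := h1
  have k : a * r = (w⁻¹ * z) * b * (w⁻¹ * z)⁻¹ := by
    rw [show a * r = w⁻¹ * y * w by rw [e']; group, e]; group
  have m : a ∈ zpowers (a * r) := by
    have := Char.piPart_mem_zpowers (Char.dadePi (typeA1 S) S) (a * r)
    rwa [(dade1 hS).piPart_mul ha hr] at this
  refine ⟨w⁻¹ * z, a, ha, ?_⟩
  have hb' := conj_mem_A hT hb (w⁻¹ * z)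
  rw [← k] at hb'
  have q : ∀ y, a * r * y = y * (a * r) → a * y = y * a := fun y e =>
    (mem_C1.1 (C1_le_of_mem_zpowers m (mem_C1.2 e.symm))).symm
  by_cases t : IsOfTypeI (cj (w⁻¹ * z) T)
  · obtain ⟨c, -, y, d, f, l⟩ := (mem_A_I t).1 hb'
    exact (mem_A_I t).2 ⟨zpowers_le.2 c m, ha.2, y, d, f, q y l⟩
  · obtain ⟨c, -, y, d, f, l⟩ := (mem_A_P t).1 hb'
    exact (mem_A_P t).2 ⟨zpowers_le.2 c m, ha.2, y, d, f, q y l⟩

theorem Supp.not_mem (hS : IsCoatom S) (h : Supp S T x) (hy : y ∈ typeA1 T) : y ∉ typeA0 S := fun c => by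
  have := (h.cop y c).coprime_dvd_left (orderOf_dvd (core_12 h.type ▸ hy.1))
  exact hy.2 (orderOf_eq_one_iff.1 (Nat.Coprime.eq_one_of_dvd this
    (orderOf_dvd ⟨(A0_spec c).1, self_mem_C1 y⟩)))

/-- (8.18.c) -/
theorem tilde_disj_or (hS : IsCoatom S) (hT : IsCoatom T) (n : ¬ CJ S T) :
    Disjoint (tildeOf S (typeA1 S)) (tildeOf T (typeA T)) ∨
      Disjoint (tildeOf T (typeA1 T)) (tildeOf S (typeA S)) := by
  by_contra c
  simp only [not_or, Set.not_disjoint_iff] at c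
  obtain ⟨⟨y, a, b⟩, z, d, e⟩ := c
  obtain ⟨g, x, h1, h2⟩ := exists_of_tilde hS hT n a b
  have n' : ¬ CJ S (cj g T) := fun k => n (k.trans (cj_CJ g T).symm)
  obtain ⟨k, w, h3, h4⟩ := exists_of_tilde (max_cj hT g) hS (fun k => n' k.symm) (tilde_A1_cj hT g d) e
  have s := (supp_of_inter (max_cj hT g) (max_cj hS k)
    (fun l => n' (l.trans (cj_CJ k S).symm).symm) h3 h4).2
  have := (s.cop x (A_sub_A0 _ h2)).coprime_dvd_right 
    (orderOf_dvd (mem_inf.2 ⟨(A_spec h2).1, self_mem_C1 x⟩))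
  rw [← core_12 s.type, ← cj_core hS, card_cj] at this
  exact h1.2 (orderOf_eq_one_iff.1 (Nat.Coprime.eq_one_of_dvd this.symm (orderOf_dvd h1.1)))

end

/-! ### the pair `S`, `T` -/

/-- Case (b) of (8.8), with data of type P. -/
structure Pair (S T U V W₁ W₂ : Subgroup G) : Prop where
  maxS : IsCoatom S
  maxT : IsCoatom T
  s : IsTypePWith S W₁ U W₂
  t : IsTypePWith T W₂ V W₁
  inf : S ⊓ T = W₁ ⊔ W₂
  two : IsOfTypeII S ∨ IsOfTypeII T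
  all : ∀ M : Subgroup G, IsCoatom M → IsOfTypeI M ∨ CJ S M ∨ CJ T M

theorem Pair.symm (h : Pair S T U V W₁ W₂) : Pair T S V U W₂ W₁ :=
  ⟨h.maxT, h.maxS, h.t, h.s, by rw [inf_comm, h.inf, sup_comm], h.two.symm,
    fun M hM => (h.all M hM).imp_right Or.symm⟩

theorem Pair.not_CJ (h : Pair S T U V W₁ W₂) : ¬ CJ S T := by
  rintro ⟨g, rfl⟩
  have := h.t.relIndex_der
  rw [← cj_commutator, relIndex_cj, h.s.relIndex_der] at this
  exact h.s.W₁_ne (card_eq_one.1 (Nat.Coprime.eq_one_of_dvd h.s.cop_W this.dvd))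

variable [hG : BG16 G]

theorem Pair.cj (h : Pair S T U V W₁ W₂) (g : G) :
    Pair (cj g S) (cj g T) (cj g U) (cj g V) (cj g W₁) (cj g W₂) :=
  ⟨max_cj h.maxS g, max_cj h.maxT g, typeP_cj h.s g, typeP_cj h.t g, by rw [← cj_inf, h.inf, cj_sup],
    h.two.imp (typeII_cj h.maxS · g) (typeII_cj h.maxT · g), fun M hM => (h.all M hM).imp_right
      (.imp (cj_CJ g S).symm.trans (cj_CJ g T).symm.trans)⟩

theorem exists_pair (hM : IsCoatom M) (h : IsTypePWith M W₁ U W₂) : ∃ T V, Pair M T U V W₁ W₂ := by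
  have k : ∀ {S T U' V W₁' W₂' : Subgroup G}, Pair S T U' V W₁' W₂' → CJ S M →
      ∃ T V, Pair M T U V W₁ W₂ := by
    rintro S T U' V W₁' W₂' p ⟨g, rfl⟩
    obtain ⟨m, hm, rfl, rfl, rfl⟩ := (p.cj g).s.conj h
    have := (p.cj g).cj m
    rw [cj_eq_of_mem hm] at this
    exact ⟨_, _, this⟩
  rcases hG.str with a | ⟨W₁', W₂', S, T, a, hS, hT, b, c, d, e, ⟨_, _, _, s⟩, ⟨_, _, _, t⟩, f⟩
  · exact absurd (a M hM) h.not_typeI
  obtain ⟨U', _, s⟩ := s.exists_of_compl b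
  obtain ⟨V, _, t⟩ := t.exists_of_compl c
  obtain rfl := s.W₂_eq a (le_sup_right.trans (d.ge.trans inf_le_left))
  obtain rfl := t.W₂_eq (snc_symm a) (le_sup_left.trans (d.ge.trans inf_le_right))
  have p : Pair S T U' V _ _ := ⟨hS, hT, s, t, d, e, f⟩
  exact ((f M hM).resolve_left h.not_typeI).elim (k p) (k p.symm)

theorem Pair.cop (h : Pair S T U V W₁ W₂) : (#(typeCore S)).Coprime #(typeCore T) :=
  hG.core_cop S T h.maxS h.maxT h.not_CJ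

theorem Pair.cop_MF (h : Pair S T U V W₁ W₂) : (#(MF S)).Coprime #(MF T) :=
  coprime_mono h.cop (MF_le_core S) (MF_le_core T)

/-- If `M` is of type P but not of type II, then `|W₂|` is prime. -/
theorem prime_W₂ (hM : IsCoatom M) (h : IsTypePWith M W₁ U W₂) (t : ¬ IsOfTypeII M) : (#W₂).Prime := by
  obtain ⟨T, V, p⟩ := exists_pair hM h
  exact (p.t.of_II (p.two.resolve_left t)).2.1

/-! ### (9.3) -/

omit hG in
theorem wielandt_P (h : IsTypePWith M W₁ U W₂) :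
    #(MF M ⊓ CC (U ⊔ W₁) : Subgroup G) ^ #W₁ * #(MF M) = #W₂ ^ #W₁ * #(MF M ⊓ CC U : Subgroup G) :=
  h.H_cc ▸ frobenius_wielandt h.U_normal h.reg (nn_MF' (sup_le h.U_le h.W₁_le))
    (sol_of_nil (MF_nil M)) h.cop_UW.symm

theorem cc_U_II (hM : IsCoatom M) (h : IsTypePWith M W₁ U W₂) (t : IsOfTypeII M) :
    MF M ⊓ CC U = ⊥ := by_contra fun c => (h.of_II t).2.2.2.2.1
  ((nn_cc le_rfl).trans ((hG.compl M U hM (.inr ⟨t, h.U_compl⟩)).2.1 U le_rfl (h.of_II t).1 c).nn_le)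

theorem card_H_II (hM : IsCoatom M) (h : IsTypePWith M W₁ U W₂) (t : IsOfTypeII M) :
    #(MF M) = #W₂ ^ #W₁ := by
  have := wielandt_P h
  rwa [cc_U_II hM h t, inf_bot_mono (cc_U_II hM h t) le_rfl (cc_anti le_sup_left), card_bot, one_pow,
    one_mul, mul_one] at this

theorem cc_UW_34 (hM : IsCoatom M) (h : IsTypePWith M W₁ U W₂) (t : ¬ IsOfTypeII M) (h0 : U ≠ ⊥) :
    MF M ⊓ CC (U ⊔ W₁) = ⊥ := by_contra fun c => by
  have e : MF M ⊓ CC (U ⊔ W₁) = W₂ := prime_eq_of_le (prime_W₂ hM h t)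
    (h.H_cc ▸ inf_le_inf_left _ (cc_anti le_sup_right)) c
  have := wielandt_P h
  rw [e] at this
  have := eq_of_card_le (inf_le_left : MF M ⊓ CC U ≤ MF M)
    (Nat.eq_of_mul_eq_mul_left (pow_pos (card_pos' W₂) _) this).le
  exact h.not_le_cc h0 (cc_symm (this ▸ inf_le_right))

theorem card_H_34 (hM : IsCoatom M) (h : IsTypePWith M W₁ U W₂) (t : ¬ IsOfTypeII M) (h0 : U ≠ ⊥) :
    #(MF M) = #W₂ ^ #W₁ * #(MF M ⊓ CC U : Subgroup G) := by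
  have := wielandt_P h
  rwa [cc_UW_34 hM h t h0, card_bot, one_pow, one_mul] at this

end Cfsg.Agent.FT
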