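import Cfsg.Agent.Lib.Char.P10Def
import Cfsg.Agent.Lib.FT.Sec8C
import Cfsg.Agent.Lib.FT.AppC2
/-! The group-theoretic interface consumed by Peterfalvi's Sections 10-14: definitions, Section 8,
(9.3), (9.4). -/
set_option autoImplicit false
set_option linter.unusedSectionVars false
set_option linter.unusedVariables false
namespace Cfsg.Agent.PF
open Subgroup Cfsg.Agent.Transfer Cfsg.Agent.MS
open Cfsg.Agent.Char hiding cj
universe u
/-! ### Part 0 -/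
export Cfsg.Agent.FT (BG16)
variable {G : Type u} [Group G]
noncomputable scoped instance (priority := high) ftSub [Finite G] (M : Subgroup G) : Fintype M :=
  Fintype.ofFinite M
noncomputable def tau (M : Subgroup G) : (M → ℂ) →ₗ[ℂ] (G → ℂ) := dadeLin (typeA0 M) M (supportR M)
def til (M : Subgroup G) (A : Set G) : Set G := dadeSupp A (supportR M)
/-- union of the conjugates of `X` -/
def ccl (X : Set G) : Set G := {g | ∃ y : G, y * g * y⁻¹ ∈ X}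
abbrev TP (M W₁ U W₂ : Subgroup G) : Prop := IsTypePWith M W₁ U W₂
/-- `M'` inside `M` -/
abbrev dK (M : Subgroup G) : Subgroup M := (⁅M, M⁆ : Subgroup G).subgroupOf M
/-- `M_F` inside `M` -/
abbrev dH (M : Subgroup G) : Subgroup M := (MF M).subgroupOf M
def tg {M W₁ U W₂ : Subgroup G} (h : TP M W₁ U W₂) : W₁ × W₂ →* G := prodHom h.selfNormalizing.2.2.2.1
def tf [Finite G] {M W₁ U W₂ : Subgroup G} (h : TP M W₁ U W₂) : W₁ × W₂ →* M :=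
  (tg h).codRestrict M fun w => M.mul_mem (h.W₁_compl.2.1 w.1.2) (MF_le M (h.W₂_le w.2.2).1)
/-- the set `V = W - (W₁ ∪ W₂)` -/
def Vset (W₁ W₂ : Subgroup G) : Set G := {v | ∃ a ∈ W₁, ∃ b ∈ W₂, a ≠ 1 ∧ b ≠ 1 ∧ v = a * b}
/-- `M` is a Frobenius group with kernel `M_F` -/
def Frob (M : Subgroup G) : Prop := ∀ x ∈ MF M, x ≠ 1 → M ⊓ C1 x ≤ MF M
/-- types III, IV, V -/
def T345 (M : Subgroup G) : Prop := ¬ IsOfTypeI M ∧ ¬ IsOfTypeII M
/-- (8.8.b) -/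
structure FTPair (S T W₁ W₂ U V : Subgroup G) : Prop where
  maxS : IsCoatom S
  maxT : IsCoatom T
  tpS : TP S W₁ U W₂
  tpT : TP T W₂ V W₁
  notIS : ¬ IsOfTypeI S
  notIT : ¬ IsOfTypeI T
  two : IsOfTypeII S ∨ IsOfTypeII T
  all : ∀ M : Subgroup G, IsCoatom M → IsOfTypeI M ∨ CJ S M ∨ CJ T M
/-- (8.13.c): `L` supports `M` at `x` -/
structure Supp (L M : Subgroup G) (x : G) : Prop where
  max : IsCoatom L
  le : C1 x ≤ L
  not_le : ¬ C1 x ≤ M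
  memA1 : x ∈ typeA1 M
  R_eq : supportR M x = MF L ⊓ C1 x
  compl : IsComplIn (MF L) (M ⊓ L) L
  cop : ∀ y ∈ typeA0 M, (#(MF L)).Coprime #(M ⊓ C1 y : Subgroup G)
  memA : x ∈ typeA L
  notA1 : x ∉ typeA1 L
  ty : IsOfTypeI L ∨ IsOfTypeII L
  frob : IsOfTypeII L → Frob M
/-- the facts (13.2) on one member of the pair, `P = MF S` -/
structure Half (S W₁ U W₂ : Subgroup G) (p q : ℕ) : Prop where
  max : IsCoatom S
  tp : TP S W₁ U W₂
  notI : ¬ IsOfTypeI S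
  cq : #W₁ = q
  cp : #W₂ = p
  primep : p.Prime
  primeq : q.Prime
  elem : IsElementaryAbelian p (MF S)
  card : #(MF S) = p ^ q
  abU : IsMulCommutative U
  neU : U ≠ ⊥
  ti : ∀ x ∈ typeA0 S, C1 x ≤ S

instance dK_normal (M : Subgroup G) : (dK M).Normal := FT.normal_der M
instance dH_normal [Finite G] (M : Subgroup G) : (dH M).Normal := FT.normal_MF M

variable [Fintype G] {M L S T W₁ W₂ U V : Subgroup G} {x y g : G} {p q r : ℕ}

/-! ### Part 1: PF 8, 9.3, 9.4 -/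
theorem tg_swap (hS : TP S W₁ U W₂) (hT : TP T W₂ V W₁) : tg hT = swapHom (tg hS) := hS.g_swap hT
theorem mem_Vset (h : TP M W₁ U W₂) : x ∈ Vset W₁ W₂ ↔ ∃ a b, a ≠ 1 ∧ b ≠ 1 ∧ x = tg h (a, b) :=
  ⟨fun ⟨a, ha, b, hb, c, d, e⟩ => ⟨⟨a, ha⟩, ⟨b, hb⟩, by simpa, by simpa, e⟩,
    fun ⟨a, b, c, d, e⟩ => ⟨a, a.2, b, b.2, by simpa, by simpa, e⟩⟩
theorem FTPair.symm (h : FTPair S T W₁ W₂ U V) : FTPair T S W₂ W₁ V U :=
  ⟨h.maxT, h.maxS, h.tpT, h.tpS, h.notIT, h.notIS, h.two.symm,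
    fun M hM => (h.all M hM).imp_right Or.symm⟩
theorem frobMod_of_frob (h : Frob M) : FrobMod (dH M) (dH M) ⊥ := fun k hk k1 x e =>
  h k hk (by simpa using k1) ⟨x.2, mem_C1_of_conj (by
    simpa [mul_inv_eq_one] using congrArg Subtype.val (mem_bot.1 e))⟩
theorem Frob.reg (h : Frob M) {X : Subgroup G} (h1 : X ≤ M) (h2 : (#X).Coprime #(MF M)) :
    Reg (MF M) X :=
  FT.Frob.reg h h1 (inf_of_coprime h2.symm)
/-- `U W₁` is a Frobenius group; more generally `W₁` is regular on `W₁`-invariant `X ≤ M'` meeting `H` trivially -/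
theorem tp_reg (h : TP M W₁ U W₂) : Reg U W₁ := h.reg
theorem tp_card (h : TP M W₁ U W₂) : #M = #(MF M) * #U * #W₁ ∧ #(⁅M, M⁆ : Subgroup G) = #(MF M) * #U :=
  ⟨by rw [h.card_M, h.card_der], h.card_der⟩
theorem tp_cop (h : TP M W₁ U W₂) : (#W₁).Coprime #(⁅M, M⁆ : Subgroup G) ∧ (#(MF M)).Coprime #U :=
  ⟨h.cop_W₁, h.cop_U.symm⟩
/-- (8.5) = S1387, S1388 -/
theorem tp_F (h : TP M W₁ U W₂) : F M = MF M ⊔ (U ⊓ CC (MF M)) := h.F_eq
theorem tp_derU (h : TP M W₁ U W₂) : ⁅U, U⁆ ≤ CC (MF M) ∧ (U ≠ ⊥ → ¬ U ≤ CC (MF M)) :=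
  ⟨h.der_U, h.not_le_cc⟩
theorem memA1 : x ∈ typeA1 M ↔ x ∈ typeCore M ∧ x ≠ 1 := Iff.rfl
theorem A_sub_A0 : typeA M ⊆ typeA0 M := FT.A_sub_A0 M
theorem memA_I (h : IsOfTypeI M) :
    x ∈ typeA M ↔ x ∈ M ∧ x ≠ 1 ∧ ∃ y ∈ MF M, y ≠ 1 ∧ x * y = y * x := FT.mem_A_I h
theorem A0_I (h : IsOfTypeI M) : typeA0 M = typeA M := FT.A0_I h
theorem nrm_ccl_le {X : Set G} {N : Subgroup G} (h : ∀ n ∈ N, ∀ x ∈ X, n * x * n⁻¹ ∈ X) :
    nrm (ccl X) (fun _ => 1) ≤ X.ncard / #N := by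
  have k : ∀ g : ccl X, ∃ y : G, y * g * y⁻¹ ∈ X := fun g => g.2
  choose y hy using k
  have := Nat.card_le_card_of_injective (fun z : ccl X × N => ((⟨z.2 * (y z.1 * z.1 * (y z.1)⁻¹) *
    (z.2 : G)⁻¹, h _ z.2.2 _ (hy z.1)⟩, z.2 * y z.1) : X × G)) (by
      rintro ⟨g, n⟩ ⟨g', n'⟩ e
      have e1 := congrArg (fun z : X × G => (z.1 : G)) e
      have e2 := congrArg Prod.snd e
      simp only at e1 e2
      obtain rfl : g = g' := Subtype.ext (by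
        have : (n * y g : G) * g * (n * y g)⁻¹ = (n' * y g') * g' * (n' * y g')⁻¹ := by
          simpa [mul_assoc] using e1
        rw [e2] at this
        simpa using this)
      rw [Subtype.ext (mul_right_cancel e2)])
  rw [Nat.card_prod, Nat.card_prod, Nat.card_coe_set_eq, Nat.card_coe_set_eq] at this
  rw [nrm_one, div_le_div_iff₀ (Nat.cast_pos.2 Nat.card_pos) (Nat.cast_pos.2 Nat.card_pos)]
  exact_mod_cast this
theorem ncard_Vset (h : TP M W₁ U W₂) : (Vset W₁ W₂).ncard = (#W₁ - 1) * (#W₂ - 1) := by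
  have : Vset W₁ W₂ = tg h '' (({1}ᶜ : Set W₁) ×ˢ ({1}ᶜ : Set W₂)) := Set.ext fun x =>
    (mem_Vset h).trans ⟨fun ⟨a, b, c, d, e⟩ => ⟨(a, b), ⟨c, d⟩, e.symm⟩,
      fun ⟨⟨a, b⟩, ⟨c, d⟩, e⟩ => ⟨a, b, c, d, e.symm⟩⟩
  rw [this, Set.ncard_image_of_injective (f := tg h) _ (prodHom_injective _ h.W_inf), Set.ncard_prod,
    Set.ncard_compl, Set.ncard_compl, Set.ncard_singleton, Set.ncard_singleton]

variable [BG16 G]
theorem tp_primeTI (hM : IsCoatom M) (h : TP M W₁ U W₂) : PrimeTI (dK M) (tf h) := h.primeTI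
theorem tp_cycTI (h : TP M W₁ U W₂) : CycTI (tg h) := h.cycTI
theorem exists_tp (hM : IsCoatom M) (h : ¬ IsOfTypeI M) : ∃ W₁ U W₂, TP M W₁ U W₂ :=
  FT.typeP_of_not_I hM h
/-- the pair exists for ANY non type I maximal subgroup and ANY type-P data (conjugate (8.8.b), (8.9)) -/
theorem exists_pair (hM : IsCoatom M) (hI : ¬ IsOfTypeI M) (h : TP M W₁ U W₂) :
    ∃ T V, FTPair M T W₁ W₂ U V :=
  (FT.exists_pair hM h).imp fun _ => .imp fun _ p =>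
    ⟨p.maxS, p.maxT, p.s, p.t, hI, p.t.not_typeI, p.two, p.all⟩
theorem II_notI (hM : IsCoatom M) (h : IsOfTypeII M) : ¬ IsOfTypeI M :=
  (FT.typeP_of (.inl h)).elim fun _ ⟨_, _, k⟩ => k.not_typeI
theorem tyI_CJ (hM : IsCoatom M) (h : CJ M L) (h1 : IsOfTypeI M) : IsOfTypeI L :=
  h.elim fun g e => e ▸ FT.typeI_cj hM h1 g
theorem tyII_CJ (hM : IsCoatom M) (h : CJ M L) (h1 : IsOfTypeII M) : IsOfTypeII L :=
  h.elim fun g e => e ▸ FT.typeII_cj hM h1 g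
theorem frob_CJ (h : CJ M L) (h1 : Frob M) : Frob L := h.elim fun g e => e ▸ FT.Frob.cj h1 g
theorem tp_not_frob (h : TP M W₁ U W₂) : ¬ Frob M := h.not_frob
/-- type conditions hold for EVERY choice of the data -/
theorem II_data (hM : IsCoatom M) (h2 : IsOfTypeII M) (h : TP M W₁ U W₂) :
    U ≠ ⊥ ∧ (#W₁).Prime ∧ IsMulCommutative U ∧ ¬ NN U ≤ M :=
  ⟨(h.of_II h2).1, (h.of_II h2).2.1, (h.of_II h2).2.2.2.1, (h.of_II h2).2.2.2.2.1⟩
theorem T345_prime (hM : IsCoatom M) (h3 : T345 M) (h : TP M W₁ U W₂) (hU : U ≠ ⊥) : (#W₁).Prime :=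
  (h.of_ne_bot hM hU).1
/-- (8.6.a) -/
theorem C1_le_of_F (hM : IsCoatom M) (hI : ¬ IsOfTypeI M) (h : TP M W₁ U W₂) (hU : U ≠ ⊥)
    (hx : x ∈ F M) (h1 : x ≠ 1) : C1 x ≤ M := h.C1_le_of_F hM hU hx h1
/-- (8.7), in the form used in (10.10) -/
theorem V_data (hM : IsCoatom M) (hI : ¬ IsOfTypeI M) (h : TP M W₁ ⊥ W₂) :
    (∀ x ∈ MF M, x ≠ 1 → ∀ g : G, g * x * g⁻¹ ∈ MF M → g ∈ M) ∨
    ∀ p m : ℕ, p.Prime → #(MF M) = p ^ m → #W₁ ∣ p - 1 ∨ (m = 3 ∧ #W₁ ∣ p + 1) := by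
  refine (h.of_V ((h.typeV_iff hM).2 rfl)).2.imp (fun t x hx x1 g hg => by_contra fun c =>
    x1 (t g (by rwa [FT.nn_MF_max hM]) x hx hg)) fun ⟨r, hr, a, _, b⟩ p m hp e => ?_
  obtain rfl : r = p := (Nat.prime_dvd_prime_iff_eq hr hp).1 (hr.dvd_of_dvd_pow (e ▸ a))
  have := Fact.mk hr
  refine b.imp_right fun b => ⟨Nat.pow_right_injective hr.two_le ?_, b.2⟩
  have := b.1
  rw [O_eq_self (pi1_of_pg (IsPGroup.of_card e)), e] at this
  exact this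
theorem core_I (hM : IsCoatom M) (h : IsOfTypeI M) : typeCore M = MF M := FT.core_I h
theorem core_II (hM : IsCoatom M) (h : IsOfTypeII M) : typeCore M = MF M := FT.core_II h
theorem core_345 (hM : IsCoatom M) (h : T345 M) : typeCore M = ⁅M, M⁆ :=
  (exists_tp hM h.1).elim fun _ ⟨_, _, k⟩ => k.core_eq hM h.2
theorem MF_le_core (hM : IsCoatom M) : MF M ≤ typeCore M := FT.MF_le_core M
theorem MF_ne_bot (hM : IsCoatom M) : MF M ≠ ⊥ := FT.MF_ne hM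
theorem MF_lt (hM : IsCoatom M) : MF M < M := by
  by_cases t : IsOfTypeI M
  · exact (FT.exists_TF t.1).elim fun _ h => h.lt
  · obtain ⟨_, _, _, h⟩ := exists_tp hM t
    exact h.H_le.trans_lt (der_lt_max hM)
theorem A1_sub_A (hM : IsCoatom M) : typeA1 M ⊆ typeA M := FT.A1_sub_A hM
theorem A_345 (hM : IsCoatom M) (h : T345 M) : typeA M = typeA1 M := FT.A_eq_A1 hM h.1 h.2
theorem A_frob (hM : IsCoatom M) (h : IsOfTypeI M) (h1 : Frob M) : typeA M = typeA1 M :=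
  FT.A_eq_A1_of_frob hM h h1
theorem memA_P (hM : IsCoatom M) (h : ¬ IsOfTypeI M) (hx : x ∈ ⁅M, M⁆) (h1 : x ≠ 1)
    (hy : y ∈ MF M) (h2 : y ≠ 1) (h3 : x * y = y * x) : x ∈ typeA M :=
  (FT.mem_A_P h).2 ⟨hx, h1, y, FT.MF_le_core M hy, h2, h3⟩
theorem memA0_P (hM : IsCoatom M) (hI : ¬ IsOfTypeI M) (h : TP M W₁ U W₂) :
    x ∈ typeA0 M ↔ x ∈ typeA M ∨ ∃ m ∈ M, m * x * m⁻¹ ∈ Vset W₁ W₂ := by
  have k : ∀ w, w ∈ Vset W₁ W₂ ↔ w ∈ W₁ ⊔ W₂ ∧ w ∉ W₁ ∧ w ∉ W₂ := fun w =>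
    ⟨fun ⟨a, ha, b, hb, c, d, e⟩ => e ▸ ⟨mul_mem_sup ha hb,
      fun k => d (eq_one_of_inf h.W_inf ((W₁.mul_mem_cancel_left ha).1 k) hb),
      fun k => c (eq_one_of_inf h.W_inf ha ((W₂.mul_mem_cancel_right hb).1 k))⟩, fun ⟨a, b, c⟩ => by
      obtain ⟨x, hx, y, hy, rfl⟩ := (mem_sup_r (nn_of_cc h.W_cc)).1 a
      exact ⟨x, hx, y, hy, fun e => c (by simpa [e] using hy), fun e => b (by simpa [e] using hx), rfl⟩⟩
  refine (FT.mem_A0_P h).trans (or_congr_right ⟨fun ⟨m, hm, w, a, b, c, d⟩ =>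
    ⟨m⁻¹, inv_mem hm, (k _).2 (by simpa [d, mul_assoc] using ⟨a, b, c⟩)⟩, fun ⟨m, hm, a⟩ => ?_⟩)
  obtain ⟨a, b, c⟩ := (k _).1 a
  exact ⟨m⁻¹, inv_mem hm, _, a, b, c, by group⟩
theorem A_le_der (h : ¬ IsOfTypeI M) (hx : x ∈ typeA M) : x ∈ ⁅M, M⁆ := ((FT.mem_A_P h).1 hx).1
/-- (8.11) -/
theorem MF_hallG (hM : IsCoatom M) : (#(MF M)).Coprime (MF M).index := FT.BG16.MF_hall M hM
/-- (8.17.a) -/
theorem core_coprime (hM : IsCoatom M) (hL : IsCoatom L) (h : ¬ CJ M L) :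
    (#(typeCore M)).Coprime #(typeCore L) := FT.BG16.core_cop M L hM hL h
/-- (8.17.c) -/
theorem til1_disjoint (hM : IsCoatom M) (hL : IsCoatom L) (h : ¬ CJ M L) :
    Disjoint (til M (typeA1 M)) (til L (typeA1 L)) := FT.til_disj hM hL h
/-- (8.15) -/
theorem dade0 (hM : IsCoatom M) : DadeHypothesis (typeA0 M) M (supportR M) := FT.dade0 hM
theorem dadeA (hM : IsCoatom M) : DadeHypothesis (typeA M) M (supportR M) := FT.dadeA hM
theorem dade1 (hM : IsCoatom M) : DadeHypothesis (typeA1 M) M (supportR M) := FT.dade1 hM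
theorem d7 (hM : IsCoatom M) [((typeCore M).subgroupOf M).Normal] :
    D7 (typeA1 M) M (supportR M) ((typeCore M).subgroupOf M) (tau M) := FT.d7_core hM
theorem R_eq_bot (h : C1 x ≤ M) : supportR M x = ⊥ := FT.R_of_le h
theorem supp_of_FT (hM : IsCoatom M) (hx : x ∈ typeA0 M) (h : ¬ C1 x ≤ M) (s : FT.Supp M L x) :
    Supp L M x :=
  ⟨s.um.max, s.um.le, h, (FT.BG16.supp M hM x hx h).1, FT.R_of_um h s.um,
    (isComplIn_iff (nn_MF' inf_le_right)).2 ⟨s.sup, inf_bot_mono s.inf le_rfl inf_le_left⟩,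
    s.cop, s.memA, s.notA1, s.type, s.frob⟩
/-- (8.13.b,c) -/
theorem exists_supp (hM : IsCoatom M) (hx : x ∈ typeA0 M) (h : ¬ C1 x ≤ M) : ∃ L, Supp L M x :=
  (FT.BG16.supp M hM x hx h).2.imp fun _ s => supp_of_FT hM hx h s
theorem supp_of (hM : IsCoatom M) (hx : x ∈ typeA0 M) (h : ¬ C1 x ≤ M) (hL : IsCoatom L)
    (h1 : C1 x ≤ L) : Supp L M x := by
  obtain ⟨L', s⟩ := (FT.BG16.supp M hM x hx h).2
  exact supp_of_FT hM hx h (s.um.uniq L hL h1 ▸ s)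
/-- (8.16) -/
theorem ti_II (hM : IsCoatom M) (h : IsOfTypeII M) (hx : x ∈ typeA0 M) : C1 x ≤ M := FT.C1_le_II hM h hx
/-- elements of `Ã₁(M)` have order divisible by a prime of `M_s` -/
theorem exists_prime_of_til1 (hM : IsCoatom M) (hg : g ∈ til M (typeA1 M)) :
    ∃ r : ℕ, r.Prime ∧ r ∣ orderOf g ∧ r ∣ #(typeCore M) := by
  obtain ⟨a, ha, u, hu, y, e⟩ := hg
  have m := piPart_mem_zpowers (dadePi (typeA1 M) M) (a * u)
  rw [(dade1 hM).piPart_mul ha hu] at m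
  obtain ⟨r, hr, d⟩ := Nat.exists_prime_and_dvd (mt orderOf_eq_one_iff.1 ha.2)
  refine ⟨r, hr, d.trans ((orderOf_dvd_of_mem_zpowers m).trans ?_), d.trans (orderOf_dvd ha.1)⟩
  rw [← e]
  exact (MulAut.conj y).orderOf_eq g |>.dvd
/-- (8.18.b) -/
theorem supp_of_til (hS : IsCoatom S) (hT : IsCoatom T) (h : ¬ CJ S T)
    (h1 : ¬ Disjoint (til S (typeA1 S)) (til T (typeA T))) : ∃ T' x, CJ T T' ∧ Supp T' S x := by
  obtain ⟨y, a, b⟩ := Set.not_disjoint_iff.1 h1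
  obtain ⟨g, x, c, d⟩ := FT.exists_of_tilde hS hT h (FT.mem_tilde.2 a) (FT.mem_tilde.2 b)
  have := FT.supp_of_inter hS (max_cj hT g) (fun k => h (k.trans (cj_CJ g T).symm)) c d
  exact ⟨_, x, cj_CJ g T, supp_of_FT hS (FT.A1_sub_A0 hS c) this.1 this.2⟩
/-- (8.18.c) -/
theorem disjoint_or (hS : IsCoatom S) (hT : IsCoatom T) (h : ¬ CJ S T) :
    Disjoint (til S (typeA1 S)) (til T (typeA T)) ∨ Disjoint (til T (typeA1 T)) (til S (typeA S)) :=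
  FT.til_disj_or hS hT h
/-- (8.2.c), `U`-free: elements with a fixed point on `H^#` commute modulo `H` -/
theorem I_comm (hM : IsCoatom M) (h : IsOfTypeI M) (hx : x ∈ M) (hy : y ∈ M)
    (h1 : MF M ⊓ C1 x ≠ ⊥) (h2 : MF M ⊓ C1 y ≠ ⊥) : x * y * x⁻¹ * y⁻¹ ∈ MF M := by
  obtain ⟨U, t⟩ := FT.exists_TF h.1
  obtain ⟨U₁, a1, a2, a3, a4⟩ := t.ex1
  have n : M ≤ NN (MF M ⊔ U₁ : Subgroup G) := by
    conv_lhs => rw [← t.sup]
    exact sup_le (nn_of_le le_sup_left) (nn_sup (nn_MF' t.le) a2)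
  have k : ∀ x ∈ M, MF M ⊓ C1 x ≠ ⊥ → x ∈ MF M ⊔ U₁ := fun x hx h1 => by
    obtain ⟨z, hz, z1⟩ := exists_ne_one h1
    rw [← part_mul_part {p | p ∣ #(MF M)} x]
    refine mul_mem (le_sup_left (a := MF M) ((part_pi _ x).mem_hall (MF_hall M) (part_mem_of hx)
      (nn_MF' le_rfl (part_mem_of hx)))) ?_
    obtain ⟨m, hm, e⟩ := t.hall.exists_cj_le (max_sol hM) (zpowers_le.2 (part_mem_of hx))
      (part_pi {p | p ∣ #(MF M)}ᶜ x)
    have := a4 _ (conj_mem_of_mem_normalizer (nn_MF' le_rfl hm) hz.1) (mt conj_eq_one_iff.1 z1)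
      ⟨e (conj_mem_cj (mem_zpowers _)), cj_centralizer_singleton m z ▸
        conj_mem_cj (mem_C1_comm.1 (C1_le_part _ x hz.2))⟩
    simpa [mul_assoc] using inv_conj_mem_of_mem_normalizer (n hm) (le_sup_right (a := MF M) this)
  have := der_sup_le (nn_MF' (a1.trans t.le)) (commutator_mem_commutator (k x hx h1) (k y hy h2))
  rwa [ab_iff_der.1 a3, sup_bot_eq] at this
/-- (8.3) for Frobenius `M`, as used in (12.6) -/
theorem I_cases (hM : IsCoatom M) (h : IsOfTypeI M) (h1 : Frob M) :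
    (∀ x ∈ MF M, x ≠ 1 → ∀ g : G, g * x * g⁻¹ ∈ MF M → g ∈ M) ∨ IsMulCommutative (MF M) ∨
      ∀ p : ℕ, p.Prime → p ∣ #(MF M) → (dH M).index ∣ p - 1 := by
  refine h.2.imp (fun t x hx x1 g hg => by_contra fun c =>
    x1 (t g (by rwa [FT.nn_MF_max hM]) x hx hg)) (.imp (·.1) fun t p hp d => ?_)
  obtain ⟨U, s⟩ := FT.exists_TF h.1
  have := s.zgroup (odd_sub M) h1
  have : IsZGroup (M ⧸ fittingHall M) := IsZGroup.of_surjective
    (f := (QuotientGroup.mk' _).comp (inclusion s.le)) fun z => by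
      obtain ⟨z, rfl⟩ := QuotientGroup.mk'_surjective _ z
      obtain ⟨a, ha, b, hb, e⟩ := (mem_sup_l (nn_MF' s.le)).1 (s.sup.ge z.2)
      obtain ⟨ha', ha⟩ := FT.mem_MF.1 ha
      obtain rfl : z = ⟨a, ha'⟩ * ⟨b, s.le hb⟩ := Subtype.ext e
      exact ⟨⟨b, hb⟩, by
        rw [map_mul, QuotientGroup.mk'_apply, (QuotientGroup.eq_one_iff _).2 ha, one_mul]; rfl⟩
  rw [dH, FT.MF_subgroupOf, index_eq_card, ← IsZGroup.exponent_eq_card]
  exact t.1 p hp d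
theorem I_five_le (hM : IsCoatom M) (h : IsOfTypeI M) : 5 ≤ ⁅MF M, MF M⁆.relIndex (MF M) := by
  obtain ⟨U, t⟩ := FT.exists_TF h.1
  obtain ⟨p, hp, d⟩ := exists_prime_dvd t.neU
  obtain ⟨X, a, b, c⟩ := t.exists_reg hp d
  have l : ⁅MF M, MF M⁆ ≤ M := (der_le _).trans (MF_le M)
  obtain ⟨Q, _, _, φ, q⟩ := exists_qm l (by nrm)
  have x := a.trans t.le
  have e : #(im φ X) = p := by
    rw [q.card_im_of_disj x (inf_bot_mono t.inf (der_le _) a), b]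
  have r : Reg (im φ (MF M)) (im φ X) := reg_prime (e ▸ hp) (by
    rw [← q.im_inf_cc (MF_le M) x (der_le _) (nn_MF' x) (coprime_mono t.coprime a (der_le _))
      (sol_of_le hM l), c.cc le_rfl (prime_ne_bot (b ▸ hp)), im_bot])
  have k := r.dvd (im_nn x (MF_le M) (nn_MF' x))
  rw [e, q.card_im (MF_le M)] at k
  have o : Odd ((⁅MF M, MF M⁆ : Subgroup G).relIndex (MF M)) :=
    (odd_sub (MF M)).of_dvd_nat (relIndex_dvd _ _)
  have n1 : (⁅MF M, MF M⁆ : Subgroup G).relIndex (MF M) ≠ 1 :=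
    mt relIndex_eq_one.1 (sol_der_lt (sol_of_nil (MF_nil M)) t.ne).not_ge
  have p2 := ne_two_of_dvd d
  have := hp.two_le
  obtain ⟨n, hn⟩ := o
  have := Nat.le_of_dvd (by omega) k
  omega
/-- (12.17), given (12.7): apply `Char.not_frob_cover` to representatives of the classes of maximal
subgroups; `M_F^#` is TI because a supporting `L` would have `A(L) = A₁(L)` -/
theorem exists_notI (h : ∀ M : Subgroup G, IsCoatom M → IsOfTypeI M → Frob M) :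
    ∃ M : Subgroup G, IsCoatom M ∧ ¬ IsOfTypeI M := by
  by_contra c
  have a : ∀ M : Subgroup G, IsCoatom M → IsOfTypeI M := fun M hM => by_contra fun k => c ⟨M, hM, k⟩
  have ti : ∀ M : Subgroup G, IsCoatom M → ∀ x ∈ typeA0 M, C1 x ≤ M := fun M hM x hx =>
    by_contra fun k => by
      obtain ⟨L, s⟩ := exists_supp hM hx k
      exact s.notA1 (A_frob s.max (a L s.max) (h L s.max (a L s.max)) ▸ s.memA)
  have m : ∀ M : Subgroup G, IsCoatom M → ∀ x ∈ MF M, x ≠ 1 → x ∈ typeA0 M := fun M hM x hx x1 =>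
    FT.A1_sub_A0 hM ⟨FT.MF_le_core M hx, x1⟩
  let s : Setoid {M : Subgroup G // IsCoatom M} :=
    ⟨fun a b => CJ a.1 b.1, fun a => CJ.refl _, CJ.symm, CJ.trans⟩
  have := Fintype.ofFinite (Quotient s)
  obtain ⟨M₀, hM₀, -⟩ := exists_max (H := (⊥ : Subgroup G)) (ne_top_of_nil inferInstance)
  have : Nonempty (Quotient s) := ⟨⟦⟨M₀, hM₀⟩⟧⟩
  refine not_frob_cover FT.odd_G (ι := Quotient s) (fun i => i.out.1) (fun i => MF i.out.1)
    (fun i => MF_lt i.out.2) (fun i => MF_ne_bot i.out.2)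
    (fun i x hx y hy => conj_mem_of_mem_normalizer (nn_MF' le_rfl hx) hy)
    (fun i => h _ i.out.2 (a _ i.out.2))
    (fun i j e => coprime_mono (core_coprime i.out.2 j.out.2 fun k => e (Quotient.out_equiv_out.1 k))
      (FT.MF_le_core _) (FT.MF_le_core _))
    (fun i x hx x1 g hg => FT.mem_of_conj_A0 i.out.2 (m _ i.out.2 x hx x1)
      (ti _ i.out.2 x (m _ i.out.2 x hx x1)) (m _ i.out.2 _ hg (mt conj_eq_one_iff.1 x1)))
    fun g hg => ?_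
  obtain ⟨M, hM, x, hx, r, hr, y, rfl⟩ := FT.BG16.cover a g hg
  rw [R_eq_bot (ti M hM x (FT.A1_sub_A0 hM hx)), mem_bot] at hr
  obtain ⟨z, e⟩ : CJ M (⟦⟨M, hM⟩⟧ : Quotient s).out.1 := CJ.symm (Quotient.mk_out (s := s) ⟨M, hM⟩)
  refine ⟨⟦⟨M, hM⟩⟧, z * y⁻¹, ?_⟩
  rw [← e, ← cj_MF, hr]
  simpa [mul_assoc] using conj_mem_cj (g := z) (core_I hM (a M hM) ▸ hx.1)
/-- Hypothesis (4.6) -/
theorem tp_pdade (hM : IsCoatom M) (hI : ¬ IsOfTypeI M) (h : TP M W₁ U W₂) {μ δ η}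
    (fam : PrimeFam (dK M) (tf h) μ δ) (cyc : CycFam (tg h) η) :
    PDade (dK M) (dH M) (tf h) μ δ (tg h) η {x | (x : G) ∈ typeA0 M} (tau M) :=
  h.pdade_MF hM fam cyc
theorem tp_p10 (hM : IsCoatom M) (h3 : T345 M) (h : TP M W₁ U W₂) {μ δ η}
    (fam : PrimeFam (dK M) (tf h) μ δ) (cyc : CycFam (tg h) η) :
    ∃ R, P10 (dK M) (tf h) μ δ (tg h) η {x | (x : G) ∈ typeA0 M} (tau M) R := by
  have p := h.pdade_der hM h3.2 fam cyc
  obtain ⟨R, a, b⟩ := p.exists_cohSys (odd_sub M)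
  exact ⟨R, p, odd_sub M, FT.odd_G, max_sol hM, a, b, FT.prime_W₂ hM h h3.2, fun b => by
    rw [FT.sub_comm (der_le M) (der_le M), mem_subgroupOf]
    exact h.coe_f_right b ▸ (h.W₂_le b.2).2, dadeLin_map _ _ _,
    fun α hα k => (dade0 hM).reciprocity_one hα k⟩
/-- (9.3) -/
theorem card_II (hM : IsCoatom M) (h2 : IsOfTypeII M) (h : TP M W₁ U W₂) :
    MF M ⊓ CC U = ⊥ ∧ #(MF M) = #W₂ ^ #W₁ :=
  ⟨FT.cc_U_II hM h h2, FT.card_H_II hM h h2⟩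
theorem card_34 (hM : IsCoatom M) (h3 : T345 M) (h : TP M W₁ U W₂) (hU : U ≠ ⊥) :
    (#W₂).Prime ∧ #(MF M) = #W₂ ^ #W₁ * #(MF M ⊓ CC U : Subgroup G) :=
  ⟨FT.prime_W₂ hM h h3.2, FT.card_H_34 hM h h3.2 hU⟩
/-- (9.4): take `H₀` maximal among the proper `M`-invariant subgroups of `H` containing `H' C_H(U)` -/
theorem exists_sec9 (hM : IsCoatom M) (h : TP M W₁ U W₂) (hU : U ≠ ⊥) (hq : (#W₁).Prime) :
    ∃ (H₀ : Subgroup M) (_ : H₀.Normal) (p : ℕ),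
      Sec9 (dK M) (dH M) (U.subgroupOf M) H₀ (tf h) p #W₁ ∧ (MF M ⊓ CC U).subgroupOf M ≤ H₀ := by
  obtain ⟨H₀, _, p, -, -, a, -, b⟩ := h.exists_sec9 hM hU
  exact ⟨_, _, p, b, comap_mono a⟩
omit [BG16 G] in
theorem inf_C1_le_of_reg {H : Subgroup G} (hs : Group.IsSolvable (H ⊔ U : Subgroup G)) (n : U ≤ NN H)
    (h : Reg H U) (hx : x ∈ H) (hx1 : x ≠ 1) : (H ⊔ U) ⊓ C1 x ≤ H := by
  have a := Hall.of_sup (isPi_self H) (pi_of_coprime (h.coprime n)) n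
  have n' : H ⊔ U ≤ NN H := sup_le (le_nn H) n
  have a' := a.compl n rfl (inf_of_coprime (h.coprime n).symm)
  obtain ⟨K, hK⟩ := exists_hall (sol_mono hs (inf_le_left : (H ⊔ U) ⊓ C1 x ≤ _)) {p | p ∣ #H}ᶜ
  obtain ⟨g, hg, b⟩ := a'.exists_cj_le hs (hK.le.trans inf_le_left) hK.pi
  have : K = ⊥ := by
    by_contra c
    obtain ⟨y, hy, hy1⟩ := exists_ne_one c
    have d := h _ (b (conj_mem_cj hy)) (by simpa using hy1)
    have e : g * x * g⁻¹ ∈ H ⊓ C1 (g * y * g⁻¹) :=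
      ⟨conj_mem_of_mem_normalizer (n' hg) hx, by
        rw [← cj_centralizer_singleton]; exact conj_mem_cj (mem_C1_comm.1 (hK.le hy).2)⟩
    rw [d, mem_bot] at e
    exact hx1 (by simpa using e)
  exact a.le_of_normal n' inf_le_left (by simpa using hK.eq_bot_iff.1 this)
/-- used in (10.8) and (14.11.3) -/
theorem conj_cover (hM : IsCoatom M) (h : TP M W₁ U W₂) (hTI : ∀ a ∈ MF M, a ≠ 1 → C1 a ≤ M)
    (reg : Reg (MF M) U) (hr : r.Prime) (h1 : r ∣ #(MF M)) (h2 : r ∣ orderOf g) :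
    g ∈ ccl {x | x ∈ MF M ∧ x ≠ 1} ∪ ccl (Vset W₁ W₂) := by
  have := Fact.mk hr
  obtain ⟨P, hP⟩ := exists_isSyl r (MF M)
  obtain ⟨X, a, b⟩ := exists_card_eq (H := zpowers g) hr (by rwa [Nat.card_zpowers])
  obtain ⟨y, -, e⟩ := ((FT.MF_hall_top hM).syl_trans hP h1).exists_cj_le (pg_of_card b) le_top
  obtain ⟨z, hz, z1⟩ := exists_ne_one (prime_ne_bot (b ▸ hr))
  have m := hP.le (e (conj_mem_cj hz))
  have c : y * g * y⁻¹ ∈ C1 (y * z * y⁻¹) := cj_centralizer_singleton y z ▸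
    conj_mem_cj (C1_le_of_mem_zpowers (a hz) (self_mem_C1 g))
  have z2 : y * z * y⁻¹ ≠ 1 := mt conj_eq_one_iff.1 z1
  have g1 : g ≠ 1 := by rintro rfl; exact hr.one_lt.ne' (by simpa using h2)
  by_cases k : y * g * y⁻¹ ∈ ⁅M, M⁆
  · exact .inl ⟨y, inf_C1_le_of_reg (h.H_sup ▸ sol_of_le hM (der_le M)) (nn_MF' h.U_le) reg m z2
      ⟨h.H_sup.ge k, c⟩, mt conj_eq_one_iff.1 g1⟩
  · obtain ⟨w, -, a, b, a1, e⟩ := h.primeTI.exists_conj (x := ⟨_, hTI _ m z2 c⟩) k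
    have e' : (w * y) * g * (w * y)⁻¹ = a * b := by
      simpa [mul_assoc] using congrArg Subtype.val e
    refine .inr ⟨w * y, a, a.2, b, b.2, by simpa, fun b1 => ?_, e'⟩
    rw [b1, mul_one] at e'
    have : r ∣ #W₁ := h2.trans (((MulAut.conj (w * y)).orderOf_eq g).symm.dvd.trans
      (orderOf_dvd (e' ▸ a.2 : (w * y) * g * (w * y)⁻¹ ∈ W₁)))
    exact hr.one_lt.ne' (Nat.eq_one_of_dvd_coprimes h.cop_W₁ this (h1.trans (card_dvd h.H_le)))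


end Cfsg.Agent.PF
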