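import Cfsg.Agent.Lib.Comp.Loc
import Cfsg.Agent.Lib.Comp.Bal

/-! `TI`-subgroups of `2`-groups. -/

namespace Cfsg.Agent.Comp

open Subgroup

theorem commutator_eq_bot_of_TI {G : Type*} [Group G] [Finite G] {p : ℕ} [Fact p.Prime] {A B : Subgroup G}
    (hA : IsPGroup p A) (hB : IsPGroup p B) (hBti : ∀ g ∈ A, cj(g, B) = B ∨ cj(g, B) ⊓ B = ⊥)
    (hle : Nat.card A ≤ Nat.card B) (hAB : A ⊓ B = ⊥) (hN : B ≤ normalizer (A : Set G)) : ⁅A, B⁆ = ⊥ := by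
  have key : A ≤ normalizer (B : Set G) := by
    by_contra hn
    have hP : IsPGroup p (B ⊔ A : Subgroup G) := hB.to_sup_of_normal_right' hA hN
    set M := (B ⊔ A) ⊓ normalizer (B : Set G) with hM
    have hBM : B ≤ M := le_inf le_sup_left le_normalizer
    have h1 : M < B ⊔ A := lt_of_le_of_ne inf_le_left fun e => hn (le_sup_right.trans (e.ge.trans inf_le_right))
    obtain ⟨g, ⟨g1, g2⟩, g3⟩ := SetLike.exists_of_lt (lt_inf_normalizer_of_isPGroup hP h1)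
    obtain ⟨a, ha, b, hb, rfl⟩ := (mem_sup_of_le_normalizer' hN).1 (sup_comm B A ▸ g1)
    have ha' : a ∈ normalizer (M : Set G) := (mul_mem_cancel_right (le_normalizer (hBM hb))).1 g2
    have h2 := (hBti a ha).resolve_left fun e =>
      g3 (mul_mem ⟨mem_sup_right ha, cj_eq_self_iff.1 e⟩ (hBM hb))
    have h3 := card_mul_card_le (cj_le_of_mem hBM ha') hBM
    have h4 : M = B ⊔ (A ⊓ normalizer (B : Set G)) := sup_inf_of_le_normalizer hN le_normalizer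
    have h5 := card_sup_mul_card_inf (H := A ⊓ normalizer (B : Set G)) inf_le_right
    rw [show A ⊓ normalizer (B : Set G) ⊓ B = ⊥ from le_bot_iff.1 (hAB ▸ inf_le_inf_right B inf_le_left),
      card_bot, mul_one, sup_comm, ← h4] at h5
    rw [h2, card_bot, mul_one, card_cj, h5] at h3
    exact hn (inf_eq_left.1 (eq_of_le_of_card_ge inf_le_left
      (hle.trans (Nat.le_of_mul_le_mul_right h3 Nat.card_pos))))
  exact le_bot_iff.1 (hAB ▸ le_inf (commutator_le_left_of_le_normalizer hN)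
    (commutator_le_right_of_le_normalizer key))

theorem fix_of_sq_fix {A : Type*} [CommGroup A] [Finite A] (hA : IsPGroup 2 A) (t : MulAut A)
    (ht : ∃ k : ℕ, orderOf t = 2 ^ k) (hC : ∀ a : A, t (t a) = a → t a = a) : ∀ a : A, t a = a := by
  obtain ⟨k, hk⟩ := ht
  obtain ⟨m, hm⟩ := IsPGroup.iff_card.1 hA
  let T : Module.End ℤ (Additive A) := (MonoidHom.toAdditive t.toMonoidHom).toIntLinearMap
  have hT : ∀ n (a : A), (T ^ n) (Additive.ofMul a) = Additive.ofMul ((t ^ n) a) := by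
    intro n a
    induction n with
    | zero => rfl
    | succ n ih => rw [pow_succ', pow_succ', Module.End.mul_apply, ih]; rfl
  have h1 : T ^ 2 ^ k = 1 := LinearMap.ext fun a => by
    rw [show a = Additive.ofMul a.toMul from rfl, hT, ← hk, pow_orderOf_eq_one]; rfl
  obtain ⟨r, hr⟩ := Commute.exists_add_pow_prime_pow_eq Nat.prime_two (Commute.one_right T) k
  have h2 : ((T + 1) ^ 2 ^ k) ^ m = 0 := by
    have e : (T + 1) ^ 2 ^ k = (2 : ℤ) • (1 + T * r) := by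
      rw [hr, h1, one_pow, mul_one, two_smul, Nat.cast_ofNat, mul_assoc, two_mul]; abel
    rw [e, smul_pow]
    ext a
    have : (2 : ℤ) ^ m = (Nat.card (Additive A) : ℤ) := by
      rw [show Nat.card (Additive A) = Nat.card A from rfl, hm]; push_cast; rfl
    rw [this, LinearMap.smul_apply, natCast_zsmul, card_nsmul_eq_zero']; rfl
  have h3 : ∀ (n : ℕ) (a : Additive A), (T - 1) (((T + 1) ^ n) a) = 0 → (T - 1) a = 0 := by
    intro n
    induction n with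
    | zero => exact fun a h => h
    | succ n ih =>
      intro a h
      rw [pow_succ', Module.End.mul_apply] at h
      refine ih a ?_
      generalize ((T + 1) ^ n) a = b at h
      have h4 : T (T b) = b := by
        have : T (T b) + T b = T b + b := by simpa [sub_eq_zero] using h
        rwa [add_comm, add_right_inj] at this
      rw [LinearMap.sub_apply, sub_eq_zero]
      exact hC b.toMul h4
  intro a
  have := h3 (2 ^ k * m) (Additive.ofMul a) (by rw [pow_mul, h2]; simp)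
  rw [LinearMap.sub_apply, sub_eq_zero] at this
  exact this

variable {G : Type*} [Group G] [Finite G]

open scoped IsMulCommutative in
theorem le_centralizer_of_sq {B : Subgroup G} (hB : IsPGroup 2 B) (hc : IsMulCommutative B) {x : G}
    (hx : x ∈ normalizer (B : Set G)) (hx2 : IsPGroup 2 (zpowers x))
    (h : B ⊓ centralizer ({x ^ 2} : Set G) ≤ centralizer ({x} : Set G)) : B ≤ centralizer ({x} : Set G) := by
  intro b hb
  obtain ⟨k, hk⟩ := IsPGroup.iff_card.1 hx2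
  rw [Nat.card_zpowers] at hk
  have := fix_of_sq_fix hB (B.normalizerMonoidHom ⟨x, hx⟩) (by
    have h1 := orderOf_map_dvd B.normalizerMonoidHom ⟨x, hx⟩
    rw [Subgroup.orderOf_mk, hk] at h1
    obtain ⟨j, -, hj⟩ := (Nat.dvd_prime_pow Nat.prime_two).1 h1
    exact ⟨j, hj⟩) (fun a ha => by
      have h1 : x * (x * a * x⁻¹) * x⁻¹ = a := congrArg Subtype.val ha
      have h2 := mem_centralizer_singleton_iff.1 (h ⟨a.2, mem_centralizer_singleton_iff.2 (by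
        nth_rw 1 [← h1]; rw [sq]; group)⟩)
      refine Subtype.ext ?_
      change x * a * x⁻¹ = a
      rw [← h2]; group) ⟨b, hb⟩
  have h1 : x * b * x⁻¹ = b := congrArg Subtype.val this
  exact mem_centralizer_singleton_iff.2 (by nth_rw 1 [← h1]; group)

omit [Finite G] in
theorem centralizer_le_normalizer_of_TI {A : Subgroup G} (h : ∀ g : G, cj(g, A) = A ∨ cj(g, A) ⊓ A = ⊥)
    {x : G} (hx : x ∈ A) (h1 : x ≠ 1) : centralizer ({x} : Set G) ≤ normalizer (A : Set G) := fun g hg =>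
  cj_eq_self_iff.1 ((h g).resolve_right fun e => h1 (mem_bot.1 (e ▸ ⟨mem_cj.2 (by
    rwa [mul_assoc, ← mem_centralizer_singleton_iff.1 hg, inv_mul_cancel_left]), hx⟩)))

omit [Finite G] in
theorem exists_sq_mem_not_mem {R T : Subgroup G} (hT : IsPGroup 2 T) (h : ¬ T ≤ R) :
    ∃ t ∈ T, t ∉ R ∧ t ^ 2 ∈ R := by
  obtain ⟨t, ht, h1⟩ := SetLike.not_le_iff_exists.1 h
  obtain ⟨n, hn⟩ := IsPGroup.exists_pow_eq_one hT ht
  induction n generalizing t with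
  | zero => rw [pow_zero, pow_one] at hn; exact absurd (hn ▸ one_mem R) h1
  | succ n ih =>
    by_cases h2 : t ^ 2 ∈ R
    · exact ⟨t, ht, h1, h2⟩
    · exact ih _ (pow_mem ht 2) h2 (by rw [← pow_mul, ← pow_succ', hn])

omit [Finite G] in
theorem exists_order_four {R R₀ : Subgroup G} (hR : IsPGroup 2 R) (h0 : ¬ R ≤ R₀)
    (h1 : ∀ r ∈ R, r ∉ R₀ → r ^ 2 = 1) (h2 : ∃ a ∈ R, a ^ 2 ≠ 1) :
    ∃ r ∈ R, r ∉ R₀ ∧ ∃ a ∈ R, a ∈ R₀ ∧ a ^ 2 ≠ 1 ∧ a ^ 4 = 1 ∧ r⁻¹ * a * r = a⁻¹ := by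
  obtain ⟨r, hr, h3⟩ := SetLike.not_le_iff_exists.1 h0
  obtain ⟨a, ha, h4⟩ := h2
  have key : ∃ a ∈ R, a ^ 2 ≠ 1 ∧ a ^ 4 = 1 := by
    obtain ⟨n, hn⟩ := IsPGroup.exists_pow_eq_one hR ha
    induction n generalizing a with
    | zero => rw [pow_zero, pow_one] at hn; exact absurd (by rw [hn, one_pow]) h4
    | succ n ih =>
      by_cases h5 : a ^ 4 = 1
      · exact ⟨a, ha, h4, h5⟩
      · exact ih _ (pow_mem ha 2) (by rwa [← pow_mul]) (by rw [← pow_mul, ← pow_succ', hn])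
  obtain ⟨a, ha, h4, h5⟩ := key
  have h6 : a ∈ R₀ := by_contra fun h => h4 (h1 a ha h)
  refine ⟨r, hr, h3, a, ha, h6, h4, h5, ?_⟩
  have a1 := h1 r hr h3
  have a2 := h1 _ (mul_mem ha hr) fun h => h3 ((mul_mem_cancel_left h6).1 h)
  rw [sq] at a1 a2
  rw [inv_eq_of_mul_eq_one_right a1, eq_inv_iff_mul_eq_one]
  calc _ = a⁻¹ * (a * r * (a * r)) * a := by group
    _ = 1 := by rw [a2]; group

theorem commutator_eq_bot_of_TI_family {Δ : Set (Subgroup G)} (hΦ : ∀ R ∈ Δ, ∃ a ∈ R, a ^ 2 ≠ 1)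
    (hord : ∀ R ∈ Δ, ∀ T ∈ Δ, Nat.card R = Nat.card T) (hti : ∀ R ∈ Δ, ∀ T ∈ Δ, R = T ∨ R ⊓ T = ⊥)
    (S : Subgroup G) : IsPGroup 2 S → (∀ s ∈ S, ∀ R ∈ Δ, cj(s, R) ∈ Δ) →
      ∀ R ∈ Δ, ∀ T ∈ Δ, R ≤ S → T ≤ S → R ≠ T → ⁅R, T⁆ = ⊥ := by
  induction S using subgroup_induction with
  | h S ih =>
  intro hS hinv R hR T hT h1 h2 hne
  have easy : ∀ R ∈ Δ, ∀ T ∈ Δ, R ≤ S → T ≤ S → R ≠ T → T ≤ normalizer (R : Set G) → ⁅R, T⁆ = ⊥ :=
    fun R hR T hT h1 h2 hne hn => commutator_eq_bot_of_TI (hS.to_le h1) (hS.to_le h2)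
      (fun g hg => hti _ (hinv g (h1 hg) T hT) T hT) (hord R hR T hT).le ((hti R hR T hT).resolve_left hne) hn
  by_cases a : T ≤ normalizer (R : Set G)
  · exact easy R hR T hT h1 h2 hne a
  by_cases b : R ≤ normalizer (T : Set G)
  · rw [commutator_comm]; exact easy T hT R hR h2 h1 hne.symm b
  exfalso
  have conj : ∀ R ∈ Δ, R ≤ S → ¬ S ≤ normalizer (R : Set G) → ∀ s ∈ S, ∀ s' ∈ S, cj(s, R) ≠ cj(s', R) →
      ∀ x ∈ R, ∀ y ∈ R, Commute (s * x * s⁻¹) (s' * y * s'⁻¹) := fun R hR h1 hn s hs s' hs' hne x hx y hy => by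
    have hlt := (subnIn_of_isNilpotent hS.isNilpotent h1).sup_commutator_lt (by
      rintro rfl; exact hn le_normalizer)
    exact commutator_eq_bot_iff'.1 (ih _ hlt (hS.to_le hlt.le) (fun s hs => hinv s (hlt.le hs)) _
      (hinv s hs R hR) _ (hinv s' hs' R hR) (cj_le_sup_commutator hs) (cj_le_sup_commutator hs') hne)
      (conj_mem_cj.2 hy) _ (conj_mem_cj.2 hx)
  have cR := conj R hR h1 fun h => a (h2.trans h)
  have cT := conj T hT h2 fun h => b (h1.trans h)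
  have ti : ∀ R ∈ Δ, ∀ s ∈ S, s ∉ normalizer (R : Set G) → ∀ x ∈ R, s * x * s⁻¹ ∈ R → x = 1 :=
    fun R hR s hs hn x hx h => by
      have := (hti _ (hinv s hs R hR) R hR).resolve_left fun e => hn (cj_eq_self_iff.1 e)
      exact conj_eq_one_iff.1 (mem_bot.1 (this.le ⟨conj_mem_cj.2 hx, h⟩))
  obtain ⟨t, ht, t1, t2⟩ := exists_sq_mem_not_mem (hS.to_le h2) a
  have ne1 : ∀ {R : Subgroup G} {s : G}, s ∉ normalizer (R : Set G) → cj((1 : G), R) ≠ cj(s, R) :=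
    fun h e => h (cj_eq_self_iff.1 (by rw [← e, cj_one]))
  have h3 : ∀ r ∈ R, r ∉ normalizer (T : Set G) → r ^ 2 = 1 := fun r hr hn => by
    have c1 := (cT 1 (one_mem _) r (h1 hr) (ne1 hn) t ht t ht).eq
    have c2 := (cR 1 (one_mem _) t (h2 ht) (ne1 t1) r hr r hr).eq
    refine ti R hR t (h2 ht) t1 _ (pow_mem hr 2) ?_
    have : t * r ^ 2 * t⁻¹ = r * (t ^ 2 * r * (t ^ 2)⁻¹) := by
      simp only [one_mul, inv_one, mul_one] at c1 c2
      have c3 : t * r * t⁻¹ = r * t * r⁻¹ * t * r * t⁻¹ * t⁻¹ := by rw [← c1]; group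
      calc _ = t * r * t⁻¹ * (t * r * t⁻¹) := by rw [sq]; group
        _ = t * r * t⁻¹ * r * (t * r⁻¹ * t * r * t⁻¹ * t⁻¹) := by nth_rw 2 [c3]; group
        _ = _ := by rw [← c2, sq]; group
    rw [this]; exact mul_mem hr (conj_mem_of_mem_normalizer t2 hr)
  obtain ⟨r, hr, r1, x, hx, x1, x2, x3, x4⟩ := exists_order_four (hS.to_le h1) b h3 (hΦ R hR)
  have c1 := (cR 1 (one_mem _) t (h2 ht) (ne1 t1) x hx x hx)
  have c2 := (cR 1 (one_mem _) t (h2 ht) (ne1 t1) r hr x hx)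
  simp only [one_mul, inv_one, mul_one] at c1 c2
  have b1 : x⁻¹ * (t * x * t⁻¹) ∈ T := by
    rw [← mul_assoc, ← mul_assoc]
    exact mul_mem (conj_mem_of_mem_normalizer' x1 ht) (inv_mem ht)
  have x5 : x⁻¹ ^ 2 = x ^ 2 := by
    rw [inv_pow, inv_eq_iff_mul_eq_one, ← pow_add, x3]
  have e1 : (x⁻¹ * (t * x * t⁻¹)) ^ 2 = x ^ 2 * (t * x ^ 2 * t⁻¹) := by
    rw [c1.inv_left.mul_pow, x5, conj_pow]
  have e2 : r⁻¹ * (x⁻¹ * (t * x * t⁻¹)) ^ 2 * r⁻¹⁻¹ = (x⁻¹ * (t * x * t⁻¹)) ^ 2 := by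
    have : r⁻¹ * x ^ 2 * r = x ^ 2 := by nth_rw 2 [← x5]; rw [← x4, sq, sq]; group
    rw [e1, inv_inv, mul_assoc, mul_assoc, ← conj_pow, ← (c2.pow_right 2).eq, ← mul_assoc, ← mul_assoc,
      this]
  have := ti T hT r⁻¹ (inv_mem (h1 hr)) (fun h => r1 ((inv_mem_iff).1 h)) _ (pow_mem b1 2)
    (by rw [e2]; exact pow_mem b1 2)
  rw [e1] at this
  exact x2 (ti R hR t (h2 ht) t1 _ (pow_mem hx 2) (by
    rw [eq_inv_of_mul_eq_one_right this]; exact inv_mem (pow_mem hx 2)))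

/-- Conjugates of an abelian `TI`-subgroup of exponent `> 2` inside a `2`-group commute. -/
theorem commutator_cj_eq_bot_of_TI {A S : Subgroup G} (hc : A ≤ centralizer (A : Set G))
    (hti : ∀ g : G, cj(g, A) = A ∨ cj(g, A) ⊓ A = ⊥) (hΦ : ∃ a ∈ A, a ^ 2 ≠ 1) (hS : IsPGroup 2 S) {g h : G}
    (h1 : cj(g, A) ≤ S) (h2 : cj(h, A) ≤ S) : ⁅cj(g, A), cj(h, A)⁆ = ⊥ := by
  by_cases e : cj(g, A) = cj(h, A)
  · rw [e, ← cj_commutator, commutator_eq_bot_iff'.2 hc, cj_bot]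
  refine commutator_eq_bot_of_TI_family (Δ := {R | ∃ g, R = cj(g, A)}) ?_ ?_ ?_ S hS ?_ _ ⟨g, rfl⟩ _ ⟨h, rfl⟩
    h1 h2 e
  · rintro _ ⟨g, rfl⟩
    obtain ⟨a, ha, h⟩ := hΦ
    exact ⟨_, conj_mem_cj.2 ha, by rwa [conj_pow, Ne, conj_eq_one_iff]⟩
  · rintro _ ⟨g, rfl⟩ _ ⟨h, rfl⟩; rw [card_cj, card_cj]
  · rintro _ ⟨g, rfl⟩ _ ⟨h, rfl⟩
    rcases hti (h⁻¹ * g) with a | a
    · left; rw [← cj_inj (g := h⁻¹), ← cj_mul, cj_inv_cj, a]
    · right; rw [← cj_eq_bot_iff (g := h⁻¹), cj_inf, ← cj_mul, cj_inv_cj, a]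
  · rintro s - _ ⟨g, rfl⟩; exact ⟨s * g, (cj_mul _ _ _).symm⟩

end Cfsg.Agent.Comp
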